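import Mathlib
import Cfsg.Agent.Prune
set_option linter.all false
prune_inst 0x7f00000000000000000000000000000000000000000000000000000000000000000000000000000000000000000000000000000000000000000000000000000000000000000000000000000000000000003fffffffffffffffffffffffffffbeffbdffffffff
open scoped Cfsg.Agent.FastGrp

/-!
# Characteristic polynomials of integral matrices of finite order modulo primes

`exists_cyclotomic` : `θ` an endomorphism of finite order of a free `ℤ`-module of rank `l`, `r > l + 1` a prime dividing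
`χ_θ(q)`: the cyclotomic polynomial `Φ_m`, `m` the order of `q` modulo `r`, divides `χ_θ`.
`totient_add_le` : two such primes with different orders `m ≠ m'`: `φ(m) + φ(m') ≤ l`.
-/

set_option autoImplicit false

namespace Cfsg.Agent.H169.CycDvd

open Polynomial Module

variable {M : Type*} [AddCommGroup M] [Module.Free ℤ M] [Module.Finite ℤ M]

/-- an irreducible factor of the characteristic polynomial of an endomorphism of finite order is cyclotomic -/
theorem eq_cyclotomic (θ : Module.End ℤ M) {N : ℕ} (hN : 0 < N) (hθ : θ ^ N = 1) {f : ℤ[X]} (hf : Irreducible f)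
    (hfm : f.Monic) (hd : f ∣ θ.charpoly) : ∃ k, 0 < k ∧ f = cyclotomic k ℤ := by
  -- a complex root
  have hdeg : 0 < f.natDegree := by
    rcases Nat.eq_zero_or_pos f.natDegree with h0 | h0
    · exfalso
      have h1 := hfm.natDegree_eq_zero.1 h0
      rw [h1] at hf
      exact hf.not_isUnit isUnit_one
    · exact h0
  obtain ⟨z, hz⟩ : ∃ z : ℂ, aeval z f = 0 := by
    have h1 : (f.map (Int.castRingHom ℂ)).degree ≠ 0 := by
      rw [hfm.degree_map]
      intro h2
      rw [degree_eq_natDegree hfm.ne_zero] at h2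
      exact hdeg.ne' (by exact_mod_cast h2)
    obtain ⟨z, hz⟩ := IsAlgClosed.exists_root _ h1
    refine ⟨z, ?_⟩
    rw [IsRoot, eval_map] at hz
    rw [aeval_def]
    exact hz
  have hz1 : aeval z θ.charpoly = 0 := by
    obtain ⟨g, hg⟩ := hd
    rw [hg, map_mul, hz, zero_mul]
  -- `z` is an eigenvalue of the matrix
  let b := Module.Free.chooseBasis ℤ M
  let A := LinearMap.toMatrix b b θ
  have hA : A.charpoly = θ.charpoly := LinearMap.charpoly_toMatrix θ b
  have hAN : A ^ N = 1 := by
    have h1 : LinearMap.toMatrix b b (θ ^ N) = A ^ N := (LinearMap.toMatrix_pow b θ N).symm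
    rw [← h1, hθ, LinearMap.toMatrix_one]
  let A' := A.map (Int.castRingHom ℂ)
  have hA' : A'.charpoly = A.charpoly.map (Int.castRingHom ℂ) := Matrix.charpoly_map _ _
  have hA'N : A' ^ N = 1 := by
    have h1 : A' ^ N = (A ^ N).map (Int.castRingHom ℂ) := by
      have := map_pow (Int.castRingHom ℂ).mapMatrix A N
      exact this.symm
    rw [h1, hAN]
    exact Matrix.map_one _ (map_zero _) (map_one _)
  have hroot : A'.charpoly.IsRoot z := by
    rw [IsRoot, hA', eval_map, hA]
    rw [aeval_def] at hz1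
    exact hz1
  have hzN : z ^ N = 1 := by
    have h1 : z ∈ spectrum ℂ A' := by
      rw [Matrix.mem_spectrum_iff_isRoot_charpoly]
      exact hroot
    have h2 : z ^ N ∈ spectrum ℂ (A' ^ N) := by
      have h3 := spectrum.pow_mem_pow A' N h1
      exact h3
    rw [hA'N] at h2
    by_cases hne : Nonempty (Module.Free.ChooseBasisIndex ℤ M)
    · have : Nontrivial (Matrix (Module.Free.ChooseBasisIndex ℤ M) (Module.Free.ChooseBasisIndex ℤ M) ℂ) := by
        infer_instance
      rw [spectrum.one_eq] at h2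
      exact h2
    · exfalso
      rw [not_nonempty_iff] at hne
      have : Subsingleton (Matrix (Module.Free.ChooseBasisIndex ℤ M) (Module.Free.ChooseBasisIndex ℤ M) ℂ) :=
        inferInstance
      rw [spectrum.of_subsingleton] at h2
      exact h2
  -- the minimal polynomial
  have hz0 : 0 < orderOf z := by
    rw [orderOf_pos_iff]
    exact isOfFinOrder_iff_pow_eq_one.2 ⟨N, hN, hzN⟩
  have hprim := IsPrimitiveRoot.orderOf z
  refine ⟨orderOf z, hz0, ?_⟩
  have h1 := cyclotomic_eq_minpoly hprim hz0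
  have hint : IsIntegral ℤ z := ⟨f, hfm, by rw [← aeval_def]; exact hz⟩
  have h2 : minpoly ℤ z ∣ f := minpoly.isIntegrallyClosed_dvd hint hz
  rw [h1]
  have h3 := (hf.dvd_iff.1 h2)
  rcases h3 with h3 | h3
  · exact absurd h3 (minpoly.irreducible hint).not_isUnit
  · exact eq_of_monic_of_associated hfm (minpoly.monic hint) h3

theorem exists_cyclotomic (θ : Module.End ℤ M) {N : ℕ} (hN : 0 < N) (hθ : θ ^ N = 1) {r : ℕ} (hr : r.Prime)
    (hrl : finrank ℤ M + 1 < r) {q : ℤ} (hq : (r : ℤ) ∣ θ.charpoly.eval q) :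
    0 < orderOf (q : ZMod r) ∧ cyclotomic (orderOf (q : ZMod r)) ℤ ∣ θ.charpoly := by
  have hrf : Fact r.Prime := ⟨hr⟩
  have hm : θ.charpoly.Monic := LinearMap.charpoly_monic θ
  -- an irreducible factor with value divisible by `r`
  obtain ⟨f, hf, hfm, hd, hfr⟩ : ∃ f : ℤ[X], Irreducible f ∧ f.Monic ∧ f ∣ θ.charpoly ∧ (r : ℤ) ∣ f.eval q := by
    have key : ∀ (n : ℕ) (g : ℤ[X]), g.natDegree ≤ n → g.Monic → (r : ℤ) ∣ g.eval q →
        ∃ f : ℤ[X], Irreducible f ∧ f.Monic ∧ f ∣ g ∧ (r : ℤ) ∣ f.eval q := by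
      intro n
      induction n with
      | zero =>
        intro g hg hgm hgr
        exfalso
        have h1 := hgm.natDegree_eq_zero.1 (Nat.le_zero.1 hg)
        rw [h1, eval_one] at hgr
        have h2 := Int.natAbs_dvd_natAbs.2 hgr
        rw [Int.natAbs_natCast, Int.natAbs_one, Nat.dvd_one] at h2
        exact hr.one_lt.ne' h2
      | succ n ih =>
        intro g hg hgm hgr
        by_cases hirr : Irreducible g
        · exact ⟨g, hirr, hgm, dvd_rfl, hgr⟩
        · have hg1 : g ≠ 1 := by
            rintro rfl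
            rw [eval_one] at hgr
            have h2 := Int.natAbs_dvd_natAbs.2 hgr
            rw [Int.natAbs_natCast, Int.natAbs_one, Nat.dvd_one] at h2
            exact hr.one_lt.ne' h2
          rw [hgm.irreducible_iff_natDegree] at hirr
          push Not at hirr
          obtain ⟨a, b, ha, hb, hab, hda, hdb⟩ := hirr hg1
          have hdeg := ha.natDegree_mul hb
          rw [hab] at hdeg
          rw [← hab, eval_mul] at hgr
          rcases (Nat.prime_iff_prime_int.1 hr).dvd_or_dvd hgr with h | h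
          · obtain ⟨f, h1, h2, h3, h4⟩ := ih a (by omega) ha h
            exact ⟨f, h1, h2, h3.trans (Dvd.intro b hab), h4⟩
          · obtain ⟨f, h1, h2, h3, h4⟩ := ih b (by omega) hb h
            exact ⟨f, h1, h2, h3.trans (Dvd.intro_left a hab), h4⟩
    exact key _ θ.charpoly le_rfl hm hq
  obtain ⟨k, hk, rfl⟩ := eq_cyclotomic θ hN hθ hf hfm hd
  have hdeg : k.totient ≤ finrank ℤ M := by
    have h1 := natDegree_le_of_dvd hd hm.ne_zero
    rwa [natDegree_cyclotomic, LinearMap.charpoly_natDegree] at h1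
  have hrk : ¬ r ∣ k := by
    intro h1
    have h2 := Nat.le_of_dvd (Nat.totient_pos.2 hk) (Nat.totient_dvd_of_dvd h1)
    rw [Nat.totient_prime hr] at h2
    omega
  have hkz : NeZero (k : ZMod r) := ⟨by
    rw [Ne, ZMod.natCast_eq_zero_iff]
    exact hrk⟩
  have hroot : IsRoot (cyclotomic k (ZMod r)) (q : ZMod r) := by
    rw [← map_cyclotomic k (Int.castRingHom (ZMod r)), IsRoot, eval_map]
    have h1 : eval₂ (Int.castRingHom (ZMod r)) (q : ZMod r) (cyclotomic k ℤ) =
        Int.castRingHom (ZMod r) (eval q (cyclotomic k ℤ)) := by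
      have := eval₂_at_apply (p := cyclotomic k ℤ) (Int.castRingHom (ZMod r)) q
      simpa using this
    rw [h1]
    exact (ZMod.intCast_zmod_eq_zero_iff_dvd _ _).2 hfr
  rw [isRoot_cyclotomic_iff] at hroot
  rw [← hroot.eq_orderOf]
  exact ⟨hk, hd⟩

/-- **Two primes of different orders.** -/
theorem totient_add_le (θ : Module.End ℤ M) {N : ℕ} (hN : 0 < N) (hθ : θ ^ N = 1) {r s : ℕ} (hr : r.Prime)
    (hs : s.Prime) (hrl : finrank ℤ M + 1 < r) (hsl : finrank ℤ M + 1 < s) {q : ℤ}
    (hqr : (r : ℤ) ∣ θ.charpoly.eval q) (hqs : (s : ℤ) ∣ θ.charpoly.eval q)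
    (hne : orderOf (q : ZMod r) ≠ orderOf (q : ZMod s)) :
    (orderOf (q : ZMod r)).totient + (orderOf (q : ZMod s)).totient ≤ finrank ℤ M := by
  obtain ⟨h1, h2⟩ := exists_cyclotomic θ hN hθ hr hrl hqr
  obtain ⟨h3, h4⟩ := exists_cyclotomic θ hN hθ hs hsl hqs
  have hm : θ.charpoly.Monic := LinearMap.charpoly_monic θ
  have h5 : cyclotomic (orderOf (q : ZMod r)) ℤ * cyclotomic (orderOf (q : ZMod s)) ℤ ∣ θ.charpoly := by
    have hirr := cyclotomic.irreducible h1
    have hirr' := cyclotomic.irreducible h3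
    have hprime := hirr.prime
    obtain ⟨g, hg⟩ := h2
    rw [hg] at h4 ⊢
    have hprime' := hirr'.prime
    rcases hprime'.dvd_or_dvd h4 with h6 | h6
    · exfalso
      have h7 := hirr.dvd_iff.1 h6
      rcases h7 with h8 | h8
      · exact hirr'.not_isUnit h8
      · have h9 := eq_of_monic_of_associated (cyclotomic.monic _ ℤ) (cyclotomic.monic _ ℤ) h8
        exact hne (cyclotomic_injective h9)
    · exact mul_dvd_mul_left _ h6
  have h6 := natDegree_le_of_dvd h5 hm.ne_zero
  rwa [(cyclotomic.monic _ ℤ).natDegree_mul (cyclotomic.monic _ ℤ), natDegree_cyclotomic, natDegree_cyclotomic,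
    LinearMap.charpoly_natDegree] at h6

end Cfsg.Agent.H169.CycDvd
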