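import Mathlib
import Cfsg.Agent.S2705
import Cfsg.Agent.S2706
import Cfsg.Agent.S2708
import Cfsg.Agent.H149.PGUGoal
import Cfsg.Agent.H163.PG.PslAut
import Cfsg.Agent.H163.PG.Prim
import Cfsg.Agent.FastGrp
import Cfsg.Agent.Prune
set_option linter.all false
prune_inst 0x7f00000000000000000000000000000000000000000000000000000000000000000000000000000000000000000000000000000000000000000000000000000000000000000000000000000000000000003fffffffffffffffffffffffffffbeffbdffffffff
open scoped Cfsg.Agent.FastGrp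

/-!
# Automorphisms of prime order of `PSU_n(q)`
-/

set_option autoImplicit false
set_option linter.unusedSectionVars false

namespace Cfsg.Agent.H169.UAut

open Cfsg Matrix Cfsg.Agent.H163.PG
open Cfsg.Agent.H202.Psu
open Cfsg.Agent.H201.PsuGraph (eq_conj graph_iff orderOf_conj)
open Cfsg.Agent.LieClassical.HermBasic (conj conj_apply)
open Cfsg.Agent.H202.PsuCount Cfsg.Agent.ClassicalGeometry.GUBasic
open Cfsg.Agent.ClassicalGeometry.PSUAutCount (gm semiConj toAut gm_mul gm_one eq_of_toAut_eq)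
open Cfsg.Agent.Schreier.PSU (f₁ f₂ toAut_eq mapGU conj_field)
open Cfsg.Agent.CpAutU.Desc (toAut_mul toAut_one exists_scalar)

universe u

variable {F : Type u} [Field F] [Fintype F] {n q : ℕ}

/-- the types of the automorphisms of prime order -/
theorem psu_types (hF : Fintype.card F = q ^ 2) (hn : 3 ≤ n) (h32 : ¬ (n = 3 ∧ q = 2)) {x : MulAut (PSU n F q)} {s : ℕ}
    (hs : s.Prime) (hx : orderOf x = s) :
    x ∈ inndiagPSU n F q ∨ (Odd s ∧ IsFieldAutClassPSU x) ∨ (s = 2 ∧ IsGraphAutClassPSU x) := by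
  obtain ⟨A, σ, rfl⟩ := ClassicalGeometry.PSUAutMain.exists_toAut hF hn h32 x
  by_cases hσ : σ = 1
  · left
    rw [hσ, toAut_eq, map_one, mul_one, inndiag_eq]
    exact ⟨A, rfl⟩
  right
  have h1 : toAut A σ ^ s = 1 := by rw [← hx]; exact pow_orderOf_eq_one _
  obtain ⟨h2, -⟩ := exists_scalar hF hn h1
  have hord : orderOf σ = s := by
    have : Fact s.Prime := ⟨hs⟩
    exact orderOf_eq_prime h2 hσ
  rcases hs.eq_two_or_odd' with h | h
  · right
    refine ⟨h, hn, f₁ A, f₂ σ, σ, by rw [hord, h]; exact even_two, (inndiag_iff _).2 ⟨A, rfl⟩, (isFieldAut_iff _ _).2 rfl, toAut_eq _ _⟩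
  · left
    refine ⟨h, ?_⟩
    obtain ⟨-, g, -, hg⟩ := exists_conj_field hF hn hσ (by rw [hord]; exact h) hs hx
    refine ⟨g⁻¹, f₂ σ, σ, hσ, by rw [hord]; exact h, (isFieldAut_iff _ _).2 rfl, ?_⟩
    rw [hg]
    group

/-- the centraliser of an element of odd prime order outside `Inndiag` -/
theorem psu_cent_field {p f : ℕ} (hp : p.Prime) (hf : 1 ≤ f) (hq : q = p ^ f) (hF : Fintype.card F = q ^ 2) (hn : 3 ≤ n)
    (h32 : ¬ (n = 3 ∧ q = 2)) {x : MulAut (PSU n F q)} {s : ℕ} (hs : s.Prime) (hso : Odd s) (hx : orderOf x = s)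
    (hxD : x ∉ inndiagPSU n F q) :
    s ∣ f ∧ ∀ {N r : ℕ}, Ppd p N r → 1 ≤ N → r ∣ Nat.card ↥(inndiagPSU n F q ⊓ Subgroup.centralizer {x}) →
      ∃ k, 1 ≤ k ∧ k ≤ n ∧ ((Odd k ∧ r ∣ p ^ ((f / s) * k) + 1) ∨ (Even k ∧ N ∣ (f / s) * k)) := by
  have hfield : IsFieldAutClassPSU x := by
    rcases psu_types hF hn h32 hs hx with h | h | h
    · exact absurd h hxD
    · exact h.2
    · exfalso
      rw [h.1] at hso
      exact absurd hso (by decide)
  have := Fact.mk hp
  have hsf : s ∣ f := by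
    obtain ⟨F₁, _, _, hF₁⟩ : ∃ (F₁ : Type) (_ : Field F₁) (_ : Fintype F₁), True := ⟨ZMod 2, inferInstance, inferInstance, trivial⟩
    obtain ⟨α, φ, σ, hσ1, hodd, hφ, hα⟩ := hfield
    rw [isFieldAut_iff] at hφ
    subst hφ
    obtain ⟨A, hA⟩ := exists_toAut_of_conj hF hn h32 hα
    have h1 : orderOf σ = s := (exists_conj_field hF hn hσ1 hodd hs (A := A) (by rw [← hA]; exact hx)).1
    have h2 : Nat.card (F ≃+* F) = 2 * f := Lib.FieldAutCard.card_ringAut (p := p) (by omega)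
      (by rw [hF, hq, ← pow_mul, mul_comm])
    have h3 : s ∣ 2 * f := by
      rw [← h2, ← h1]
      exact orderOf_dvd_natCard σ
    rcases (hs.dvd_mul).1 h3 with h4 | h4
    · exfalso
      have h5 := (Nat.prime_dvd_prime_iff_eq hs Nat.prime_two).1 h4
      rw [h5] at hso
      exact absurd hso (by decide)
    · exact h4
  have hfs : f / s ≠ 0 := by
    have := Nat.div_pos (Nat.le_of_dvd hf hsf) hs.pos
    omega
  refine ⟨hsf, fun {N r} hr hN hd => ?_⟩
  have hfin : Fintype (GaloisField p (2 * (f / s))) := Fintype.ofFinite _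
  have hcard : Fintype.card (GaloisField p (2 * (f / s))) = p ^ (2 * (f / s)) := by
    rw [← Nat.card_eq_fintype_card]
    exact GaloisField.card p _ (by omega)
  obtain ⟨-, ⟨e⟩, -⟩ := S2705.result hq hf hF hn h32 x hfield hs hso hx (GaloisField p (2 * (f / s))) hcard
  rw [Nat.card_congr e.toEquiv] at hd
  rcases of_dvd_pgu (by rw [hcard, ← pow_mul, mul_comm]) hr.prime hd with h | ⟨k, h1, h2, h3⟩
  · exact absurd (hr.prime.dvd_of_dvd_pow h) (hr.not_dvd hN)
  · refine ⟨k, h1, h2, ?_⟩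
    rcases h3 with ⟨ho, h3⟩ | ⟨he, h3⟩
    · left
      exact ⟨ho, by rwa [← pow_mul] at h3⟩
    · right
      refine ⟨he, ?_⟩
      rw [← pow_mul, hr.dvd_iff hp.pos] at h3
      exact h3

/-- the index of `Inn` in `Inndiag` -/
theorem relIndex_inn (hF : Fintype.card F = q ^ 2) (hn : 3 ≤ n) :
    (Inn (PSU n F q)).relIndex (inndiagPSU n F q) = Nat.gcd n (q + 1) := by
  have h1 : (Inn (PSU n F q)).comap (f₁ (F := F) (q := q) (n := n)) =
      ((powMonoidHom n : rootsOfUnity (q + 1) F →* rootsOfUnity (q + 1) F).range).comap (detHom n hF) := by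
    ext A
    rw [Subgroup.mem_comap, Subgroup.mem_comap]
    exact mem_inn_iff hF hn A
  rw [inndiag_eq, ← Subgroup.index_comap, h1, Subgroup.index_comap_of_surjective _ (detHom_surjective (by omega) hF),
    IsCyclic.index_powMonoidHom_range, card_rootsOfUnity_eq hF, Nat.gcd_comm]

theorem inn_le_inndiag (hF : Fintype.card F = q ^ 2) : Inn (PSU n F q) ≤ inndiagPSU n F q := inn_le hF

theorem inn_normal' : (Inn (PSU n F q)).Normal := inn_normal

/-- powers of inner-diagonal automorphisms are inner -/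
theorem pow_mem_inn (hF : Fintype.card F = q ^ 2) (hn : 3 ≤ n) {d : MulAut (PSU n F q)} (hd : d ∈ inndiagPSU n F q) :
    d ^ Nat.gcd n (q + 1) ∈ Inn (PSU n F q) := by
  have hN : (Inn (PSU n F q)).Normal := inn_normal
  have h1 := Subgroup.pow_index_mem ((Inn (PSU n F q)).subgroupOf (inndiagPSU n F q)) (⟨d, hd⟩ : inndiagPSU n F q)
  have h2 : ((Inn (PSU n F q)).subgroupOf (inndiagPSU n F q)).index = Nat.gcd n (q + 1) := relIndex_inn hF hn
  rw [h2] at h1
  exact h1

/-- `Inndiag = Inn` if `n` and `q + 1` are coprime -/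
theorem inndiag_eq_inn (hF : Fintype.card F = q ^ 2) (hn : 3 ≤ n) (h : Nat.gcd n (q + 1) = 1) :
    inndiagPSU n F q = Inn (PSU n F q) := by
  refine le_antisymm (fun d hd => ?_) (inn_le hF)
  have := pow_mem_inn hF hn hd
  rwa [h, pow_one] at this

/-- elements of order prime to `gcd (n, q + 1)` of `Inndiag` are inner -/
theorem mem_inn_of_coprime (hF : Fintype.card F = q ^ 2) (hn : 3 ≤ n) {d : MulAut (PSU n F q)}
    (hd : d ∈ inndiagPSU n F q) {k : ℕ} (hk : d ^ k = 1) (hco : Nat.Coprime k (Nat.gcd n (q + 1))) :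
    d ∈ Inn (PSU n F q) := by
  have h1 := pow_mem_inn hF hn hd
  have h2 : orderOf d ∣ k := orderOf_dvd_of_pow_eq_one hk
  have h3 : (orderOf d).Coprime (Nat.gcd n (q + 1)) := Nat.Coprime.coprime_dvd_left h2 hco
  obtain ⟨m, hm⟩ := exists_pow_eq_self_of_coprime h3.symm
  rw [← hm]
  exact Subgroup.pow_mem _ h1 m

/-- **An involution outside of `Inndiag` modulo `Inn`.** If `[A : A ∩ Inn]` is even and `gcd (n, q + 1)` odd, `A`
contains an involutory graph automorphism. -/
theorem exists_graph (hF : Fintype.card F = q ^ 2) (hn : 3 ≤ n) (h32 : ¬ (n = 3 ∧ q = 2))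
    (hodd : Odd (Nat.gcd n (q + 1))) {A : Subgroup (MulAut (PSU n F q))} (hA : Inn (PSU n F q) ≤ A)
    (h2 : 2 ∣ (Inn (PSU n F q)).relIndex A) :
    ∃ g ∈ inndiagPSU n F q, g * f₂ (conj hF) * g⁻¹ ∈ A := by
  have hN : (Inn (PSU n F q)).Normal := inn_normal
  have hN' : ((Inn (PSU n F q)).subgroupOf A).Normal := inferInstance
  have hfin : Finite (PSU n F q) := inferInstance
  have : Finite (MulAut (PSU n F q)) := inferInstance
  have hfA : Finite A := inferInstance
  -- an element `z` with `z ^ 2` inner, not inner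
  obtain ⟨z, hzA, hz2, hzI⟩ : ∃ z ∈ A, z * z ∈ Inn (PSU n F q) ∧ z ∉ Inn (PSU n F q) := by
    have h3 : 2 ∣ Nat.card (A ⧸ (Inn (PSU n F q)).subgroupOf A) := h2
    have : Fact (Nat.Prime 2) := ⟨Nat.prime_two⟩
    obtain ⟨y, hy⟩ := exists_prime_orderOf_dvd_card' 2 h3
    obtain ⟨z, rfl⟩ := QuotientGroup.mk_surjective y
    refine ⟨z, z.2, ?_, ?_⟩
    · have h4 : (QuotientGroup.mk (z * z) : A ⧸ (Inn (PSU n F q)).subgroupOf A) = 1 := by
        rw [QuotientGroup.mk_mul, ← pow_two, ← hy, pow_orderOf_eq_one]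
      exact (QuotientGroup.eq_one_iff (z * z)).1 h4
    · intro h4
      have h5 : (QuotientGroup.mk z : A ⧸ (Inn (PSU n F q)).subgroupOf A) = 1 := (QuotientGroup.eq_one_iff _).2 h4
      rw [h5, orderOf_one] at hy
      omega
  obtain ⟨B, τ, rfl⟩ := ClassicalGeometry.PSUAutMain.exists_toAut hF hn h32 z
  have hD : inndiagPSU n F q = (f₁ (F := F) (q := q) (n := n)).range := inndiag_eq
  -- the field part
  have hsq : τ * τ = 1 := by
    have h3 : toAut B τ * toAut B τ ∈ inndiagPSU n F q := inn_le hF hz2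
    rw [hD] at h3
    obtain ⟨C, hC⟩ := h3
    have h4 : (toAut C 1 : MulAut (PSU n F q)) = toAut (B * mapGU τ B) (τ * τ) := by
      rw [toAut_eq, toAut_eq, map_one, mul_one, hC, toAut_eq, map_mul, map_mul, ← conj_field]
      group
    exact (eq_of_toAut_eq hF hn h4).1
  have hτ : τ ≠ 1 := by
    rintro rfl
    apply hzI
    have h3 : toAut B 1 ∈ inndiagPSU n F q := by
      rw [hD, toAut_eq, map_one, mul_one]
      exact ⟨B, rfl⟩
    have h4 := pow_mem_inn hF hn h3
    obtain ⟨m, hm⟩ := hodd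
    rw [hm, pow_succ, pow_mul, pow_two] at h4
    exact (Subgroup.mul_mem_cancel_left _ (Subgroup.pow_mem _ hz2 m)).1 h4
  have hτ2 : orderOf τ = 2 := orderOf_eq_prime (by rw [pow_two, hsq]) hτ
  obtain rfl := eq_conj hF hτ2
  obtain ⟨g, hg, h⟩ := exists_conj_mem (Inn (PSU n F q)) (inndiagPSU n F q) A hA hodd
    (fun d hd => pow_mem_inn hF hn hd) hzA hz2 (t := f₂ (conj hF)) (by
      rw [← map_mul, hsq, map_one]
      exact one_mem _) (by
      rw [toAut_eq, mul_inv_cancel_right, hD]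
      exact ⟨B, rfl⟩) (inn_le hF)
  exact ⟨g, hg, h⟩

/-- the standard graph involution -/
theorem graph_std (hF : Fintype.card F = q ^ 2) (hn : 3 ≤ n) (g : MulAut (PSU n F q)) (hg : g ∈ inndiagPSU n F q) :
    IsGraphAutClassPSU (g * f₂ (conj hF) * g⁻¹) ∧ orderOf (g * f₂ (conj hF) * g⁻¹) = 2 := by
  have h1 : IsGraphAutClassPSU (f₂ (conj hF) : MulAut (PSU n F q)) ∧
      orderOf (f₂ (conj hF) : MulAut (PSU n F q)) = 2 := by
    refine (graph_iff hF hn).2 ⟨1, ?_, ?_⟩
    · rw [toAut_eq, map_one, one_mul]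
    · simp
  constructor
  · rw [inndiag_eq] at hg
    obtain ⟨C, rfl⟩ := hg
    refine ⟨hn, f₁ (C * (mapGU (conj hF) C)⁻¹), f₂ (conj hF), conj hF, by rw [orderOf_conj]; exact even_two,
      (inndiag_iff _).2 ⟨_, rfl⟩, (isFieldAut_iff _ _).2 rfl, ?_⟩
    rw [map_mul, map_inv, ← conj_field]
    group
  · rw [← h1.2]
    exact orderOf_injective (MulAut.conj g).toMonoidHom (MulAut.conj g).injective (f₂ (conj hF))

end Cfsg.Agent.H169.UAut
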