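import Cfsg.Agent.H169.TorPair
import Cfsg.Agent.H163.PG.Few_m3
import Cfsg.Agent.S1062
import Cfsg.Agent.S1063
import Cfsg.Agent.S1064
import Cfsg.Agent.S1065
import Cfsg.Agent.S2122
import Cfsg.Agent.S2123
import Cfsg.Agent.S2124
import Cfsg.Agent.S2125
import Cfsg.Agent.H720.TwFr
import Cfsg.Agent.S1066
import Cfsg.Agent.S1067
import Cfsg.Agent.S2129
import Cfsg.Agent.S2130
import Cfsg.Agent.H130.WeylCk
import Cfsg.Agent.H129.TorusChar
import Cfsg.Agent.H130.WeylTab
import Cfsg.Agent.Lib.WeylFast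
import Cfsg.Agent.S1059
import Cfsg.Agent.S2121
import Cfsg.Agent.Prune
set_option linter.all false

-- part: H169/ExcRows
section
set_option linter.all false
open scoped Cfsg.Agent.FastGrp

/-!
# `Has3Out` for the groups of type `F₄`, `E₆`, `E₇`, `E₈`
-/

set_option autoImplicit false

namespace Cfsg.Agent.H169.ExcRows

open Cfsg Cfsg.Lie Cfsg.Agent.H163.PG Cfsg.Agent.H169.ExcNum Cfsg.Agent.H169.TorPair
  Cfsg.Agent.ChevalleyStructure.CoxeterGeomTypes Cfsg.Agent.Nodes.RGDChev

universe u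

theorem exists_pf (F : Type u) [Field F] [Fintype F] :
    ∃ (p f : ℕ) (_ : Fact p.Prime) (_ : CharP F p), 0 < f ∧ Fintype.card F = p ^ f := by
  obtain ⟨p, hp⟩ := CharP.exists F
  obtain ⟨n, hpp, hn⟩ := FiniteField.card F p
  exact ⟨p, n, ⟨hpp⟩, hp, n.pos, hn⟩

theorem no_adj {D : ChevalleyDatum} {l : ℕ} {M : CoxeterMatrix (Fin l)} (hp : IsType D l M)
    {F : Type u} [Field F] [Fintype F] {q : ℕ} (hq : Fintype.card F = q) {r s m m' : ℕ} (hr : r.Prime) (hs : s.Prime)
    (hrq : ¬ r ∣ q) (hsq : ¬ s ∣ q) (hrl : l + 1 < r) (hsl : l + 1 < s) (hm : orderOf ((q : ℕ) : ZMod r) = m)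
    (hm' : orderOf ((q : ℕ) : ZMod s) = m') (hne : m ≠ m') (hl : l < m.totient + m'.totient) :
    ¬ Adj ↥(D.group F) r s := by
  rintro ⟨x, hx⟩
  exact untw_no_pair hp hq hr hs hrq hsq hrl hsl (by rw [hm, hm']; exact hne) (by rw [hm, hm']; exact hl) x hx

theorem E8 (F : Type u) [Field F] [Fintype F] : Has3Out ↥(chevE8.group F) := by
  obtain ⟨p, f, hpp, hpc, hf, hF⟩ := exists_pf F
  have hp : IsType chevE8 8 CoxeterMatrix.E₈ := by simp [IsType, typeList]
  obtain ⟨r, hr, -, hr1, hr2, hr3, hr4⟩ := ppd (p := p) (f := f) (m := 15) Fact.out (by omega) (by omega) (by omega)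
  obtain ⟨s, hs, -, hs1, hs2, hs3, hs4⟩ := ppd (p := p) (f := f) (m := 20) Fact.out (by omega) (by omega) (by omega)
  obtain ⟨t, ht, -, ht1, ht2, ht3, ht4⟩ := ppd (p := p) (f := f) (m := 24) Fact.out (by omega) (by omega) (by omega)
  have hcard := Cfsg.Agent.S1065.result (F := F) hF
  have hout := Cfsg.Agent.S2125.result (F := F) p f hF
  refine mk_has3Out (f := f) hr hs ht hf (by omega) (by omega) (by omega) (by omega) (by omega) (by omega)
    (by rw [hout]; exact Dvd.intro_left _ rfl) ?_ ?_ ?_ ?_ ?_ ?_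
    (no_adj hp hF hr hs hr2 hs2 (by omega) (by omega) hr3 hs3 (by decide) (by decide))
    (no_adj hp hF hs ht hs2 ht2 (by omega) (by omega) hs3 ht3 (by decide) (by decide))
    (no_adj hp hF hr ht hr2 ht2 (by omega) (by omega) hr3 ht3 (by decide) (by decide))
  · rintro rfl; rw [hr3] at hs3; omega
  · rintro rfl; rw [hs3] at ht3; omega
  · rintro rfl; rw [hr3] at ht3; omega
  · rw [hcard]
    exact Dvd.dvd.mul_left ((hr4 30).2 (by norm_num)) _
  · rw [hcard]
    exact Dvd.dvd.mul_right (Dvd.dvd.mul_right (Dvd.dvd.mul_left ((hs4 20).2 (by norm_num)) _) _) _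
  · rw [hcard]
    exact Dvd.dvd.mul_right (Dvd.dvd.mul_left ((ht4 24).2 (by norm_num)) _) _

theorem E7 (F : Type u) [Field F] [Fintype F] : Has3Out ↥(chevE7.group F) := by
  obtain ⟨p, f, hpp, hpc, hf, hF⟩ := exists_pf F
  have hp : IsType chevE7 7 CoxeterMatrix.E₇ := by simp [IsType, typeList]
  obtain ⟨r, hr, -, hr1, hr2, hr3, hr4⟩ := ppd (p := p) (f := f) (m := 18) Fact.out (by omega) (by omega) (by omega)
  obtain ⟨s, hs, -, hs1, hs2, hs3, hs4⟩ := ppd (p := p) (f := f) (m := 14) Fact.out (by omega) (by omega) (by omega)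
  obtain ⟨t, ht, -, ht1, ht2, ht3, ht4⟩ := ppd (p := p) (f := f) (m := 9) Fact.out (by omega) (by omega) (by omega)
  have hcard := Cfsg.Agent.S1064.result (F := F) hF
  have hout := Cfsg.Agent.S2124.result (F := F) p f hF
  refine mk_has3Out (f := f) hr hs ht hf (by omega) (by omega) (by omega) (by omega) (by omega) (by omega)
    (by rw [hout]; exact Nat.mul_dvd_mul_right ((Nat.gcd_dvd_left _ _).trans (by norm_num)) f) ?_ ?_ ?_ ?_ ?_ ?_
    (no_adj hp hF hr hs hr2 hs2 (by omega) (by omega) hr3 hs3 (by decide) (by decide))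
    (no_adj hp hF hs ht hs2 ht2 (by omega) (by omega) hs3 ht3 (by decide) (by decide))
    (no_adj hp hF hr ht hr2 ht2 (by omega) (by omega) hr3 ht3 (by decide) (by decide))
  · rintro rfl; rw [hr3] at hs3; omega
  · rintro rfl; rw [hs3] at ht3; omega
  · rintro rfl; rw [hr3] at ht3; omega
  · exact dvd_of_mul hr (not_dvd_gcd (by norm_num) (by omega)) hcard (Dvd.dvd.mul_left ((hr4 18).2 (by norm_num)) _)
  · exact dvd_of_mul hs (not_dvd_gcd (by norm_num) (by omega)) hcard
      (Dvd.dvd.mul_right (Dvd.dvd.mul_left ((hs4 14).2 (by norm_num)) _) _)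
  · exact dvd_of_mul ht (not_dvd_gcd (by norm_num) (by omega)) hcard (Dvd.dvd.mul_left ((ht4 18).2 (by norm_num)) _)

theorem E6 (F : Type u) [Field F] [Fintype F] : Has3Out ↥(chevE6.group F) := by
  obtain ⟨p, f, hpp, hpc, hf, hF⟩ := exists_pf F
  have hp : IsType chevE6 6 CoxeterMatrix.E₆ := by simp [IsType, typeList]
  obtain ⟨r, hr, -, hr1, hr2, hr3, hr4⟩ := ppd (p := p) (f := f) (m := 9) Fact.out (by omega) (by omega) (by omega)
  obtain ⟨s, hs, -, hs1, hs2, hs3, hs4⟩ := ppd (p := p) (f := f) (m := 12) Fact.out (by omega) (by omega) (by omega)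
  obtain ⟨t, ht, -, ht1, ht2, ht3, ht4⟩ := ppd (p := p) (f := f) (m := 8) Fact.out (by omega) (by omega) (by omega)
  have hcard := Cfsg.Agent.S1063.result (F := F) hF
  have hout := Cfsg.Agent.S2123.result (F := F) p f hF
  refine mk_has3Out (f := f) hr hs ht hf (by omega) (by omega) (by omega) (by omega) (by omega) (by omega)
    (by rw [hout]; exact Nat.mul_dvd_mul_right (Nat.mul_dvd_mul_left 2 (Nat.gcd_dvd_left 3 _)) f) ?_ ?_ ?_ ?_ ?_ ?_
    (no_adj hp hF hr hs hr2 hs2 (by omega) (by omega) hr3 hs3 (by decide) (by decide))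
    (no_adj hp hF hs ht hs2 ht2 (by omega) (by omega) hs3 ht3 (by decide) (by decide))
    (no_adj hp hF hr ht hr2 ht2 (by omega) (by omega) hr3 ht3 (by decide) (by decide))
  · rintro rfl; rw [hr3] at hs3; omega
  · rintro rfl; rw [hs3] at ht3; omega
  · rintro rfl; rw [hr3] at ht3; omega
  · exact dvd_of_mul hr (not_dvd_gcd (by norm_num) (by omega)) hcard
      (Dvd.dvd.mul_right (Dvd.dvd.mul_left ((hr4 9).2 (by norm_num)) _) _)
  · exact dvd_of_mul hs (not_dvd_gcd (by norm_num) (by omega)) hcard (Dvd.dvd.mul_left ((hs4 12).2 (by norm_num)) _)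
  · exact dvd_of_mul ht (not_dvd_gcd (by norm_num) (by omega)) hcard
      (Dvd.dvd.mul_right (Dvd.dvd.mul_right (Dvd.dvd.mul_left ((ht4 8).2 (by norm_num)) _) _) _)

/-- a prime of order `3` modulo which -/
theorem ppd_three {p f : ℕ} (hp : p.Prime) (hf : 0 < f) :
    ∃ r : ℕ, r.Prime ∧ 6 < r ∧ f < r ∧ ¬ r ∣ p ^ f ∧ orderOf ((p ^ f : ℕ) : ZMod r) = 3 ∧
      ∀ j, r ∣ (p ^ f) ^ j - 1 ↔ 3 ∣ j := by
  by_cases h6 : p = 2 ∧ f * 3 = 6
  · obtain ⟨rfl, h6⟩ := h6
    obtain rfl : f = 2 := by omega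
    obtain ⟨r, hr, hr0, hr1, hr2, hr3, hr4⟩ := ppd (p := 2) (f := 1) (m := 3) Nat.prime_two (by omega) (by omega)
      (by omega)
    rw [pow_one] at hr2 hr3 hr4
    have h7 : r ∣ 7 := (hr4 3).2 dvd_rfl
    have hr7 : r = 7 := (Nat.prime_dvd_prime_iff_eq hr (by norm_num)).1 h7
    subst hr7
    have h5 : ∀ j, 7 ∣ (2 ^ 2) ^ j - 1 ↔ 3 ∣ j := by
      intro j
      rw [← pow_mul, hr4]
      exact ⟨fun h => (Nat.Coprime.dvd_mul_left (by norm_num)).1 h, fun h => h.mul_left 2⟩
    refine ⟨7, hr, by norm_num, by norm_num, by norm_num, ?_, h5⟩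
    apply Nat.dvd_antisymm
    · rw [← Cfsg.Agent.Lib.Zsigmondy.dvd_pow_sub_one_iff (by norm_num)]
      exact (h5 3).2 dvd_rfl
    · rw [← h5, Cfsg.Agent.Lib.Zsigmondy.dvd_pow_sub_one_iff (by norm_num)]
  · obtain ⟨r, hr, hr0, hr1, hr2, hr3, hr4⟩ := ppd (p := p) (f := f) (m := 3) hp (by omega) (by omega) h6
    refine ⟨r, hr, ?_, by omega, hr2, hr3, hr4⟩
    have h1 : 3 ∣ r - 1 := (Dvd.intro_left f rfl).trans hr0
    by_contra hcon
    have h2 : r = 4 := by omega
    rw [h2] at hr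
    exact absurd hr (by norm_num)

theorem F4 (F : Type u) [Field F] [Fintype F] : Has3Out ↥(chevF4.group F) := by
  obtain ⟨p, f, hpp, hpc, hf, hF⟩ := exists_pf F
  have hp : IsType chevF4 4 CoxeterMatrix.F₄ := by simp [IsType, typeList]
  obtain ⟨r, hr, -, hr1, hr2, hr3, hr4⟩ := ppd (p := p) (f := f) (m := 12) Fact.out (by omega) (by omega) (by omega)
  obtain ⟨s, hs, -, hs1, hs2, hs3, hs4⟩ := ppd (p := p) (f := f) (m := 8) Fact.out (by omega) (by omega) (by omega)
  obtain ⟨t, ht, ht1, ht0, ht2, ht3, ht4⟩ := ppd_three (p := p) (f := f) Fact.out hf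
  have hcard := Cfsg.Agent.S1062.result (F := F) hF
  have hout := Cfsg.Agent.S2122.result (F := F) p f hF
  refine mk_has3Out (f := f) hr hs ht hf (by omega) (by omega) (by omega) (by omega) (by omega) (by omega)
    (by rw [hout]; exact Nat.mul_dvd_mul_right ((Nat.gcd_dvd_left _ _).trans (by norm_num)) f) ?_ ?_ ?_ ?_ ?_ ?_
    (no_adj hp hF hr hs hr2 hs2 (by omega) (by omega) hr3 hs3 (by decide) (by decide))
    (no_adj hp hF hs ht hs2 ht2 (by omega) (by omega) hs3 ht3 (by decide) (by decide))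
    (no_adj hp hF hr ht hr2 ht2 (by omega) (by omega) hr3 ht3 (by decide) (by decide))
  · rintro rfl; rw [hr3] at hs3; omega
  · rintro rfl; rw [hs3] at ht3; omega
  · rintro rfl; rw [hr3] at ht3; omega
  · rw [hcard]
    exact Dvd.dvd.mul_left ((hr4 12).2 (by norm_num)) _
  · rw [hcard]
    exact Dvd.dvd.mul_right (Dvd.dvd.mul_left ((hs4 8).2 (by norm_num)) _) _
  · rw [hcard]
    exact Dvd.dvd.mul_left ((ht4 12).2 (by norm_num)) _

end Cfsg.Agent.H169.ExcRows
end

-- part: H169/ExcD4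
section
set_option linter.all false
open scoped Cfsg.Agent.FastGrp

-- part: H169/ExcTw
section
/-!
# `Has3Out` for the groups `²E₆(q)`
-/

set_option autoImplicit false

namespace Cfsg.Agent.H169.ExcTw

open Cfsg Cfsg.Lie Cfsg.Agent.H163.PG Cfsg.Agent.H169.ExcNum Cfsg.Agent.H169.ExcRows Cfsg.Agent.H169.TorPair
  Cfsg.Agent.ChevalleyStructure.CoxeterGeomTypes Cfsg.Agent.Nodes.RGDChev Cfsg.Agent.H720.TwFr
  Cfsg.Agent.H129.TorusUntw Cfsg.Agent.BpExc.Tow Cfsg.Agent.BpExc.TowChev Cfsg.Agent.H129.TorusMain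

universe u

theorem closure_data {K : Type u} [Field K] [Fintype K] {p n : ℕ} [Fact p.Prime] [CharP K p]
    (hK : Fintype.card K = p ^ n) : CharP (AlgebraicClosure K) p ∧ LocFin (AlgebraicClosure K) := by
  have h1 : CharP (AlgebraicClosure K) p :=
    charP_of_injective_algebraMap (algebraMap K (AlgebraicClosure K)).injective p
  obtain ⟨p', e, hpF, hpc, hpk, he, hpe, hk⟩ := exists_closure hK
  exact ⟨h1, hk⟩

theorem six_no_pair {K : Type u} [Field K] [Fintype K] {p f : ℕ} [Fact p.Prime] [CharP K p] (hf : 0 < f)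
    (hK : Fintype.card K = (p ^ f) ^ 2) {r s m m' : ℕ} (hr : r.Prime) (hs : s.Prime)
    (hrq : ¬ r ∣ p ^ f) (hsq : ¬ s ∣ p ^ f) (hrl : 7 < r) (hsl : 7 < s)
    (hm : orderOf ((p ^ f : ℕ) : ZMod r) = m) (hm' : orderOf ((p ^ f : ℕ) : ZMod s) = m') (hne : m ≠ m')
    (hl : 6 < m.totient + m'.totient) : ¬ Adj ↥(twistedE6 K (p ^ f)) r s := by
  rintro ⟨x, hx⟩
  obtain ⟨hpk, hk⟩ := closure_data (K := K) (p := p) (n := f * 2) (by rw [hK, pow_mul])
  have hAk : Cfsg.Agent.BpExc.TorAll.HAlg p (AlgebraicClosure K) := Cfsg.Agent.H944.RootVals.hAlg_closure p K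
  have cs := CoxeterMatrix.E₆.toCoxeterSystem
  have : Finite CoxeterMatrix.E₆.Group := finite_W hp6 cs
  have hrp : r ≠ p := fun h => hrq (by rw [h]; exact dvd_pow_self p hf.ne')
  have hsp : s ≠ p := fun h => hsq (by rw [h]; exact dvd_pow_self p hf.ne')
  have h1 := no_pair (σ := sig6 (AlgebraicClosure K) p f) hp6 cs hAk hk (isFrob_sig6 p f) (fr_sig6 hk p hp6 cs f)
    hr hs hrp hsp (by omega) (by omega) (by rw [hm, hm']; exact hne) (by rw [hm, hm']; exact hl)
    (em6_fix (algebraMap K (AlgebraicClosure K)) p hf rfl hK x)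
  rw [orderOf_injective _ (Cfsg.Agent.BpExc.FamTw.Six.em_injective (algebraMap K (AlgebraicClosure K)))] at h1
  exact h1 hx

theorem pow_succ_dvd {q r a : ℕ} (hr : r.Prime) (h : r ∣ q ^ (2 * a) - 1) (h' : ¬ r ∣ q ^ a - 1) : r ∣ q ^ a + 1 := by
  have h1 : q ^ (2 * a) - 1 = (q ^ a + 1) * (q ^ a - 1) := by
    rw [two_mul, pow_add]
    exact (Nat.mul_self_sub_mul_self_eq (q ^ a) 1 ▸ by rw [one_mul])
  rw [h1] at h
  exact (hr.dvd_mul.1 h).resolve_right h'

theorem twE6 {K : Type u} [Field K] [Fintype K] {q : ℕ} (hq : IsPrimePow q) (hK : Fintype.card K = q ^ 2) :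
    Has3Out ↥(twistedE6 K q) := by
  obtain ⟨p, f, hp, hf, rfl⟩ := (isPrimePow_nat_iff q).1 hq
  have hpf : Fact p.Prime := ⟨hp⟩
  have hch : CharP K p := by
    obtain ⟨p', hp'⟩ := CharP.exists K
    obtain ⟨n, hpp, hn⟩ := FiniteField.card K p'
    rw [hK, ← pow_mul] at hn
    have h1 : p = p' := by
      have h2 : p' ∣ p ^ (f * 2) := by rw [hn]; exact dvd_pow_self p' n.pos.ne'
      exact ((Nat.prime_dvd_prime_iff_eq hpp hp).1 (hpp.dvd_of_dvd_pow h2)).symm
    rw [h1]; exact hp'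
  obtain ⟨r, hr, -, hr1, hr2, hr3, hr4⟩ := ppd (p := p) (f := f) (m := 18) hp (by omega) (by omega) (by omega)
  obtain ⟨s, hs, -, hs1, hs2, hs3, hs4⟩ := ppd (p := p) (f := f) (m := 12) hp (by omega) (by omega) (by omega)
  obtain ⟨t, ht, -, ht1, ht2, ht3, ht4⟩ := ppd (p := p) (f := f) (m := 8) hp (by omega) (by omega) (by omega)
  have hcard := Cfsg.Agent.S1066.result (K := K) hq hK
  have hout := Cfsg.Agent.S2130.result (K := K) p f (by rw [hK, ← pow_mul, mul_comm]) hf
  refine mk_has3Out (f := f) hr hs ht hf (by omega) (by omega) (by omega) (by omega) (by omega) (by omega)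
    (by rw [hout]; exact Nat.mul_dvd_mul_right (Nat.mul_dvd_mul_left 2 (Nat.gcd_dvd_left 3 _)) f) ?_ ?_ ?_ ?_ ?_ ?_
    (six_no_pair hf hK hr hs hr2 hs2 (by omega) (by omega) hr3 hs3 (by decide) (by decide))
    (six_no_pair hf hK hs ht hs2 ht2 (by omega) (by omega) hs3 ht3 (by decide) (by decide))
    (six_no_pair hf hK hr ht hr2 ht2 (by omega) (by omega) hr3 ht3 (by decide) (by decide))
  · rintro rfl; rw [hr3] at hs3; omega
  · rintro rfl; rw [hs3] at ht3; omega
  · rintro rfl; rw [hr3] at ht3; omega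
  · refine dvd_of_mul hr (not_dvd_gcd (by norm_num) (by omega)) hcard
      (Dvd.dvd.mul_right (Dvd.dvd.mul_left (pow_succ_dvd hr ((hr4 18).2 (by norm_num)) ?_) _) _)
    intro h
    have := (hr4 9).1 h
    omega
  · exact dvd_of_mul hs (not_dvd_gcd (by norm_num) (by omega)) hcard (Dvd.dvd.mul_left ((hs4 12).2 (by norm_num)) _)
  · exact dvd_of_mul ht (not_dvd_gcd (by norm_num) (by omega)) hcard
      (Dvd.dvd.mul_right (Dvd.dvd.mul_right (Dvd.dvd.mul_left ((ht4 8).2 (by norm_num)) _) _) _)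

end Cfsg.Agent.H169.ExcTw
end

-- part: H169/WTab
section
/-!
# Tables of cosets of Weyl groups

`IsFrame l A θ` : the list `A` lists the images of the basis vectors under `θ`; `Closed Al l tab` : the table `tab` is
closed under left multiplication by the simple reflections; `forall_coset` : then all `w g` are in the table.
`Ann l A p` : the polynomial with coefficient list `p` annihilates `θ`.
-/

set_option autoImplicit false

namespace Cfsg.Agent.H169.WTab

open Cfsg.Agent.ChevalleyStructure.CoxeterGeom Cfsg.Agent.H130.PolyL Cfsg.Agent.H130.WeylCk Polynomial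
  Cfsg.Agent.H129.TorusChar Cfsg.Agent.Tits.Roots Cfsg.Agent.Tits.Core

/-- left multiplication by a simple reflection -/
def stp (Al : List (List ℤ)) (j : ℕ) (A : List (List ℤ)) : List (List ℤ) := A.map (rf Al j)

/-- decode a vector (base `b`, offset `o`) -/
def decL (b : ℕ) (o : ℤ) : ℕ → ℕ → List ℤ
  | 0, _ => []
  | n + 1, c => (((c % b : ℕ) : ℤ) - o) :: decL b o n (c / b)

/-- encode a vector -/
def encL (b : ℕ) (o : ℤ) : List ℤ → ℕ
  | [] => 0
  | a :: v => (a + o).toNat + b * encL b o v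

/-- decode `n` vectors of length `l` -/
def decM (b : ℕ) (o : ℤ) (l : ℕ) : ℕ → ℕ → List (List ℤ)
  | 0, _ => []
  | n + 1, c => decL b o l (c % b ^ l) :: decM b o l n (c / b ^ l)

/-- encode vectors -/
def encM (b : ℕ) (o : ℤ) (l : ℕ) : List (List ℤ) → ℕ
  | [] => 0
  | a :: v => encL b o a + b ^ l * encM b o l v

/-- decode a frame -/
def dec (b : ℕ) (o : ℤ) (l : ℕ) (c : ℕ) : List (List ℤ) := decM b o l l c

/-- the table of codes is closed -/
def Closed (Al : List (List ℤ)) (b : ℕ) (o : ℤ) (l : ℕ) (tab : List ℕ) : Bool :=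
  tab.all fun c => (List.range l).all fun j =>
    (fun B => (fun e => tab.contains e && dec b o l e == B) (encM b o l B)) (stp Al j (dec b o l c))

/-- frames -/
structure IsFrame (l : ℕ) (A : List (List ℤ)) (θ : Module.End ℤ (Fin l → ℤ)) : Prop where
  len : A.length = l
  row : ∀ i : Fin l, (A.getD i []).length = l
  val : ∀ i : Fin l, toFn l (A.getD i []) = θ (sr i)

theorem IsFrame.step {l : ℕ} {C : Fin l → Fin l → ℤ} {Al : List (List ℤ)} (hA : MatList C Al) {A : List (List ℤ)}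
    {θ : Module.End ℤ (Fin l → ℤ)} (h : IsFrame l A θ) (j : Fin l) : IsFrame l (stp Al j A) (refl C j * θ) := by
  have h1 : ∀ i : Fin l, (stp Al j A).getD i [] = rf Al j (A.getD i []) := by
    intro i
    have hi : (i : ℕ) < A.length := by rw [h.len]; exact i.2
    rw [stp, List.getD_eq_getElem _ _ (by rw [List.length_map]; exact hi), List.getElem_map,
      List.getD_eq_getElem _ _ hi]
  refine ⟨by rw [stp, List.length_map, h.len], fun i => by rw [h1, length_rf, h.row], fun i => ?_⟩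
  rw [h1, toFn_rf hA j _ (h.row i), h.val, Module.End.mul_apply]

variable {l : ℕ} {C : Fin l → Fin l → ℤ} {Al : List (List ℤ)} {W : Type*} [Group W] {M : CoxeterMatrix (Fin l)}
  (cs : CoxeterSystem M W) (hC : IsCartan M C)

theorem forall_coset (hA : MatList C Al) {b : ℕ} {o : ℤ} {tab : List ℕ} (hcl : Closed Al b o l tab = true)
    {θ₀ : Module.End ℤ (Fin l → ℤ)} {c₀ : ℕ} (h0 : c₀ ∈ tab) (hf : IsFrame l (dec b o l c₀) θ₀) (w : W) :
    ∃ c ∈ tab, IsFrame l (dec b o l c) (rep cs hC w * θ₀) := by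
  induction w using cs.simple_induction_left with
  | one => exact ⟨c₀, h0, by rw [map_one, one_mul]; exact hf⟩
  | mul_simple_left w i ih =>
    obtain ⟨c, hmem, hfr⟩ := ih
    have h1 := List.all_eq_true.1 (List.all_eq_true.1 hcl c hmem) i (List.mem_range.2 i.2)
    simp only [Bool.and_eq_true] at h1
    refine ⟨encM b o l (stp Al i (dec b o l c)), List.contains_iff_mem.1 h1.1, ?_⟩
    rw [eq_of_beq h1.2, map_mul, rep_simple, mul_assoc]
    exact hfr.step hA i

/-- application of a frame -/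
def apF (l : ℕ) : List (List ℤ) → List ℤ → List ℤ
  | [], _ => List.replicate l 0
  | _ :: _, [] => List.replicate l 0
  | a :: A, c :: v => addV (a.map (fun b => c * b)) (apF l A v)

theorem length_apF (l : ℕ) : ∀ (A : List (List ℤ)) (v : List ℤ), (∀ a ∈ A, a.length = l) → (apF l A v).length = l
  | [], _, _ => List.length_replicate
  | _ :: _, [], _ => List.length_replicate
  | a :: A, c :: v, h => by
    have h1 := length_apF l A v (fun b hb => h b (List.mem_cons_of_mem _ hb))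
    rw [apF, length_addV _ _ (by rw [List.length_map, h a List.mem_cons_self, h1]), h1]

theorem toFn_apF_aux (l : ℕ) : ∀ (A : List (List ℤ)) (v : List ℤ) (n : ℕ), (∀ a ∈ A, a.length = l) → A.length = n →
    v.length = n → toFn l (apF l A v) = ∑ i : Fin n, (v.getD i 0) • toFn l (A.getD i [])
  | [], v, n, _, hn, _ => by
    subst hn
    rw [apF, toFn_replicate]
    rfl
  | a :: A, v, n, h, hn, hv => by
    subst hn
    cases v with
    | nil => simp at hv
    | cons c v =>
      have h1 := toFn_apF_aux l A v A.length (fun b hb => h b (List.mem_cons_of_mem _ hb)) rfl (by simpa using hv)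
      have h2 := length_apF l A v (fun b hb => h b (List.mem_cons_of_mem _ hb))
      rw [apF, toFn_addV _ _ (by rw [List.length_map, h a List.mem_cons_self]) h2, toFn_smul, h1]
      show _ = ∑ i : Fin (A.length + 1), _
      rw [Fin.sum_univ_succ]
      rfl

theorem IsFrame.mem_len {A : List (List ℤ)} {θ : Module.End ℤ (Fin l → ℤ)} (h : IsFrame l A θ) :
    ∀ a ∈ A, a.length = l := by
  intro a ha
  obtain ⟨i, hi, rfl⟩ := List.getElem_of_mem ha
  have h1 := h.row ⟨i, by rw [← h.len]; exact hi⟩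
  rwa [List.getD_eq_getElem _ _ hi] at h1

theorem IsFrame.apply {A : List (List ℤ)} {θ : Module.End ℤ (Fin l → ℤ)} (h : IsFrame l A θ) (v : List ℤ)
    (hv : v.length = l) : toFn l (apF l A v) = θ (toFn l v) := by
  rw [toFn_apF_aux l A v l h.mem_len h.len hv]
  conv_rhs => rw [IsMC.eq_sum_sr (toFn l v)]
  rw [map_sum]
  refine Finset.sum_congr rfl fun i _ => ?_
  rw [map_smul, h.val]
  rfl

/-- polynomials -/
def hoF (l : ℕ) (A : List (List ℤ)) (x : List ℤ) : List ℤ → List ℤ
  | [] => List.replicate l 0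
  | c :: p => addV (x.map (fun a => c * a)) (apF l A (hoF l A x p))

theorem length_hoF {A : List (List ℤ)} {θ : Module.End ℤ (Fin l → ℤ)} (h : IsFrame l A θ) (x : List ℤ)
    (hx : x.length = l) (p : List ℤ) : (hoF l A x p).length = l := by
  cases p with
  | nil => exact List.length_replicate
  | cons c p =>
    have h1 := length_apF l A (hoF l A x p) h.mem_len
    rw [hoF, length_addV _ _ (by rw [List.length_map, hx, h1]), h1]

theorem toFn_hoF {A : List (List ℤ)} {θ : Module.End ℤ (Fin l → ℤ)} (h : IsFrame l A θ) (x : List ℤ)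
    (hx : x.length = l) (p : List ℤ) : toFn l (hoF l A x p) = aeval θ (ofL p) (toFn l x) := by
  induction p with
  | nil =>
    rw [hoF, toFn_replicate]
    simp [ofL]
  | cons c p ih =>
    have h1 := length_hoF h x hx p
    have h2 := length_apF l A (hoF l A x p) h.mem_len
    rw [hoF, toFn_addV _ _ (by rw [List.length_map, hx]) h2, toFn_smul, h.apply _ h1, ih]
    simp [ofL, Module.End.mul_apply]

/-- the polynomial `p` annihilates the frame -/
def Ann (l : ℕ) (A : List (List ℤ)) (p : List ℤ) : Bool :=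
  (List.range l).all fun i => hoF l A (bas l i) p == List.replicate l 0

theorem IsFrame.ann {A : List (List ℤ)} {θ : Module.End ℤ (Fin l → ℤ)} (h : IsFrame l A θ) {p : List ℤ}
    (hp : Ann l A p = true) : aeval θ (ofL p) = 0 := by
  have h1 : ∀ i : Fin l, aeval θ (ofL p) (sr i) = 0 := by
    intro i
    have h2 := List.all_eq_true.1 hp i (List.mem_range.2 i.2)
    have h3 : (sr i : Fin l → ℤ) = toFn l (bas l i) := (toFn_bas i).symm
    rw [h3, ← toFn_hoF h _ (length_bas i.1), eq_of_beq h2, toFn_replicate]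
  apply LinearMap.ext
  intro x
  rw [IsMC.eq_sum_sr x, map_sum, LinearMap.zero_apply]
  refine Finset.sum_eq_zero fun i _ => ?_
  rw [map_smul, h1, smul_zero]

section Fast

open Cfsg.Agent.WeylFast

/-- reflect all rows -/
private noncomputable def stK {α : Type} (a : List ℤ) (j : ℕ) (A : List (List ℤ)) : (List (List ℤ) → α) → α :=
  @List.rec (List ℤ) (fun _ => (List (List ℤ) → α) → α) (fun k => k [])
    (fun v _ ih k => rfK a v v j fun x => ih fun u => k (x :: u)) A

private theorem stK_eq {α : Type} (Al : List (List ℤ)) (j : ℕ) (A : List (List ℤ)) (k : List (List ℤ) → α) :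
    stK ((Al.getD j []).map Int.neg) j A k = k (stp Al j A) := by
  induction A generalizing k with
  | nil => rfl
  | cons v A ih => exact (rfK_eq _ _ _ _ _).trans (ih _)

/-- membership -/
private noncomputable def memN (e : ℕ) (T : List ℕ) : Bool :=
  @List.rec ℕ (fun _ => Bool) false (fun a _ ih => @Bool.rec (fun _ => Bool) ih true (Nat.beq e a)) T

private theorem memN_eq (e : ℕ) (T : List ℕ) : memN e T = T.contains e := by
  induction T with
  | nil => rfl
  | cons a T ih =>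
    show @Bool.rec (fun _ => Bool) (memN e T) true (Nat.beq e a) = _
    rw [ih, List.contains_cons, show (e == a) = Nat.beq e a from by rw [Bool.eq_iff_iff, beq_iff_eq, Nat.beq_eq]]
    cases Nat.beq e a <;> rfl

/-- decode a vector -/
private noncomputable def dlK {α : Type} (b o n : ℕ) : ℕ → (List ℤ → α) → α :=
  @Nat.rec (fun _ => ℕ → (List ℤ → α) → α) (fun _ k => k []) (fun _ ih c k =>
    fZ (zs (Nat.mod c b) o) fun x => ih (Nat.div c b) fun u => k (x :: u)) n

private theorem dlK_eq {α : Type} (b o n c : ℕ) (k : List ℤ → α) : dlK b o n c k = k (decL b o n c) := by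
  induction n generalizing c k with
  | zero => rfl
  | succ n ih =>
    refine (fZ_eq (zs (Nat.mod c b) o) fun x => dlK b o n (Nat.div c b) fun u => k (x :: u)).trans ?_
    exact (ih _ _).trans (congrArg (fun x => k (x :: _)) (zs_eq _ _))

/-- decode a frame -/
private noncomputable def dmK {α : Type} (b o l q n : ℕ) : ℕ → (List (List ℤ) → α) → α :=
  @Nat.rec (fun _ => ℕ → (List (List ℤ) → α) → α) (fun _ k => k []) (fun _ ih c k =>
    fN (Nat.mod c q) fun d => dlK b o l d fun x => fN (Nat.div c q) fun d => ih d fun u => k (x :: u)) n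

private theorem dmK_eq {α : Type} (b o l n c : ℕ) (k : List (List ℤ) → α) :
    dmK b o l (b ^ l) n c k = k (decM b o l n c) := by
  induction n generalizing c k with
  | zero => rfl
  | succ n ih =>
    refine (fN_eq (Nat.mod c (b ^ l)) fun d => dlK b o l d fun x => fN (Nat.div c (b ^ l)) fun d =>
      dmK b o l (b ^ l) n d fun u => k (x :: u)).trans ((dlK_eq _ _ _ _ _).trans ?_)
    exact (fN_eq _ _).trans (ih _ _)

/-- encode a vector -/
private noncomputable def elN (b o : ℕ) (v : List ℤ) : ℕ :=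
  @List.rec ℤ (fun _ => ℕ) 0 (fun a _ ih => Nat.add
    (@Int.rec (fun _ => ℕ) (fun n => Nat.add n o) (fun n => Nat.sub o (Nat.succ n)) a) (Nat.mul b ih)) v

private theorem elN_eq (b o : ℕ) (v : List ℤ) : elN b o v = encL b o v := by
  induction v with
  | nil => rfl
  | cons a v ih =>
    refine congrArg₂ Nat.add ?_ (congrArg _ ih)
    cases a with
    | ofNat n => rfl
    | negSucc n =>
      show o - (n + 1) = (Int.negSucc n + o).toNat
      omega

/-- encode a frame -/
private noncomputable def emN (b o q : ℕ) (A : List (List ℤ)) : ℕ :=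
  @List.rec (List ℤ) (fun _ => ℕ) 0 (fun a _ ih => Nat.add (elN b o a) (Nat.mul q ih)) A

private theorem emN_eq (b o l : ℕ) (A : List (List ℤ)) : emN b o (b ^ l) A = encM b o l A := by
  induction A with
  | nil => rfl
  | cons a A ih => exact congrArg₂ Nat.add (elN_eq _ _ _) (congrArg _ ih)

private theorem closed_of {Al : List (List ℤ)} {b o l : ℕ} {tab : List ℕ}
    (h : (fW tab fun T => fN (b ^ l) fun q => T.all fun c => dmK b o l q l c fun A => (List.range l).all fun j =>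
      fL ((Al.getD j []).map Int.neg) fun a => stK a j A fun B => fN (emN b o q B) fun e =>
        memN e T && dmK b o l q l e fun B' => B' == B) = true) :
    Closed Al b o l tab = true := by
  simp only [fW_eq, fL_eq, dmK_eq, stK_eq, fN_eq, memN_eq, emN_eq] at h
  exact h

/-- the columns -/
private def tr (l : ℕ) (m : List (List ℤ)) : List (List ℤ) := (List.range l).map fun j => m.map fun b => b.getD j 0

private theorem addV_map (a : ℤ) (f : ℕ → ℤ) (b : List ℤ) :
    addV (b.map fun x => a * x) ((List.range b.length).map f) = (List.range b.length).map fun j => b.getD j 0 * a + f j := by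
  induction b generalizing f with
  | nil => rfl
  | cons x b ih =>
    rw [List.length_cons, List.range_succ_eq_map, List.map_cons, List.map_cons, List.map_cons, List.map_map, List.map_map]
    exact congrArg₂ List.cons (congrArg (· + f 0) (mul_comm a x)) (ih _)

private theorem apF_eq (v : List ℤ) (m : List (List ℤ)) (h : ∀ b ∈ m, b.length = l) :
    apF l m v = (tr l m).map fun c => dot c v := by
  rw [tr, List.map_map]
  induction m generalizing v with
  | nil => exact ((List.map_const' ..).trans (by rw [List.length_range]; rfl)).symm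
  | cons b m ih =>
    cases v with
    | nil => exact ((List.map_const' ..).trans (by rw [List.length_range]; rfl)).symm
    | cons a v =>
      obtain rfl := h b (List.mem_cons_self ..)
      exact (congrArg _ (ih v fun c hc => h c (List.mem_cons_of_mem _ hc))).trans (addV_map a _ b)

private theorem addV_dot (c : ℤ) (u x : List ℤ) (t : List (List ℤ)) :
    (List.zipWith List.cons x t).map (fun r => dot r (c :: u)) = addV (x.map fun a => c * a) (t.map fun r => dot r u) := by
  induction x generalizing t with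
  | nil => rfl
  | cons a x ih =>
    cases t with
    | nil => rfl
    | cons r t => exact congrArg₂ List.cons (congrArg (· + dot r u) (mul_comm a c)) (ih t)

/-- the polynomial -/
private noncomputable def hoK {α : Type} (l : ℕ) (t : List (List ℤ)) (p : List ℤ) : (List ℤ → α) → α :=
  @List.rec ℤ (fun _ => (List ℤ → α) → α) (fun k => fL (List.replicate l 0) k) (fun c _ ih k =>
    ih fun u => mpK (fun r => dotF r (c :: u) 0 0) t k) p

private theorem hoK_eq {α : Type} {m : List (List ℤ)} (h : ∀ b ∈ m, b.length = l) (x p : List ℤ) (k : List ℤ → α) :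
    hoK l (List.zipWith List.cons x (tr l m)) p k = k (hoF l m x p) := by
  induction p generalizing k with
  | nil => exact fL_eq _ _
  | cons c p ih =>
    refine (ih _).trans ((mpK_eq _ _ _).trans ?_)
    simp only [dotF_zero]
    rw [addV_dot, ← apF_eq _ m h]
    rfl

private theorem ann_of {b o l : ℕ} {tab : List ℕ} {P : List (List ℤ)} (f : List (List ℤ) → List (List ℤ))
    (hf : ∀ A, ∀ p ∈ f A, p ∈ P)
    (h : (fN (b ^ l) fun q => tab.all fun c => dmK b o l q l c fun A => decide (∀ a ∈ A, a.length = l) &&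
      fM (tr l A) fun t => (f A).any fun p => (List.range l).all fun i => fM (List.zipWith List.cons (bas l i) t) fun s =>
        hoK l s p fun u => u == List.replicate l 0) = true) :
    (tab.all fun c => P.any fun p => Ann l (dec b o l c) p) = true := by
  rw [fN_eq] at h
  refine List.all_eq_true.2 fun c hc => ?_
  have h1 := List.all_eq_true.1 h c hc
  rw [dmK_eq, fM_eq, Bool.and_eq_true] at h1
  have h2 := h1.2
  simp only [fM_eq, hoK_eq (of_decide_eq_true h1.1)] at h2
  obtain ⟨p, hp, h3⟩ := List.any_eq_true.1 h2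
  exact List.any_eq_true.2 ⟨p, hf _ p hp, h3⟩

/-- the trace -/
private def trc (A : List (List ℤ)) : ℤ := (A.getD 0 []).getD 0 0 + (A.getD 1 []).getD 1 0 + (A.getD 2 []).getD 2 0 +
  (A.getD 3 []).getD 3 0

end Fast

end Cfsg.Agent.H169.WTab
end

-- part: H169/WTabD4
section
/-!
# The coset of the triality in `Aut(D₄)`: generated table and the annihilating polynomials
-/

set_option autoImplicit false

namespace Cfsg.Agent.H169.WTabD4

open Cfsg.Agent.H169.WTab Cfsg.Agent.H130.WeylTab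

/-- the codes of the `192` frames -/
def tabD4 : List ℕ := [
  76586917212, 76098636587, 77809567217, 76586932787, 76489339087, 76001058462, 77708085967, 76489354662,
  76001074037, 77708104657, 77463574031, 83801839057, 108274432657, 108029902031, 108278335782, 114368167057,
  114123636431, 115590817062, 115590816437, 115610332687, 115590739187, 115590738562, 114368086067, 115610254812,
  115610254187, 114391504817, 114147754193, 108278239217, 83922832817, 83679082193, 83922835932, 83679085931,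
  77809585907, 114391585807, 114147835806, 114147832681, 108034585781, 106811932651, 77565835906, 75124432781,
  74879902157, 69030667181, 44558104531, 44313573907, 45776854526, 38464338931, 38219808307, 38464335806,
  38219804557, 44558085781, 69030585931, 68786054682, 70253239061, 75124335906, 74879804657, 77565739031,
  77809488407, 83679004681, 108034567031, 108278316407, 106811917026, 106811136401, 45776838901, 45776058276,
  44553402031, 45776073901, 44553420781, 106811152026, 44309670782, 38440139556, 75022170906, 74778420907,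
  68908889681, 68665139682, 70127636561, 70127635938, 82334652186, 70127558436, 70127557813, 68908808431,
  82334574061, 82334573438, 83557227181, 83801757182, 77463477156, 114123633306, 114368163307, 108029883281,
  108274413282, 77708007157, 76489254037, 76000973412, 76489238462, 76586832162, 76098551537, 76586816587,
  76098535962, 77809469717, 77565719718, 83922750942, 108278219842, 108034469843, 108274316717, 114391501067,
  114147751068, 83679000943, 82460254063, 82460254686, 70253238438, 82460332188, 82460332811, 70253316563,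
  70253317186, 69030663443, 68786133442, 75124413468, 38464257318, 38219727317, 38464254193, 44558007343,
  44313477342, 45776754223, 45775973598, 45776738598, 106811832348, 106811051723, 108034488593, 106811816723,
  106811036098, 108029786093, 45775957973, 44553304843, 44309554842, 38440054818, 75022054718, 74778304717,
  77463457843, 68908804693, 68665054692, 68665057807, 38196304817, 36977557937, 36977558562, 36997073562,
  36977635812, 36977636437, 38196385807, 36997151437, 36997152062, 36997074187, 38440136431, 44309651407,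
  44313554532, 74778323407, 75022074031, 38196389557, 38219723567, 44313457967, 68786051567, 69030582193,
  74879785967, 75124316593, 44557988593, 38196308567, 38440057943, 44309574217, 68665136567, 68908885943,
  74778402217, 75022151593, 77463554718, 44553323593, 83557304693, 108029804843, 108274336092, 114123554818,
  114123551693, 114368082317, 83557223443, 83801754067, 77707988467, 83801835942, 82334651563, 76000957837,
  77565816593, 74879883467, 68786136557, 83922754057, 114391582057, 115610332062, 83557308431, 76098652162]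

/-- the annihilating polynomials -/
def polsD4 : List (List ℤ) := [[1, 0, -1, 0, 1], [1, 1, 1], [1, -1, 1], [-1, -1, 0, 1, 1], [-1, 1, 0, -1, 1],
  [1, -1, 0, -1, 1], [1, 1, 0, 1, 1]]

theorem closed_D4 : Closed alD4 5 2 4 tabD4 = true := closed_of (o := 2) (by decide +kernel)

theorem ann_D4 : (tabD4.all fun c => polsD4.any fun p => Ann 4 (dec 5 2 4 c) p) = true :=
  ann_of (o := 2) (fun A => if trc A = 0 then [[1, 0, -1, 0, 1]] else if 0 < trc A then [[-1, 1, 0, -1, 1], [-1, -1, 0, 1, 1]]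
    else [[-1, -1, 0, 1, 1], [-1, 1, 0, -1, 1]]) (fun A => by split_ifs <;> decide) (by decide +kernel)

theorem dec_D4 : dec 5 2 4 76586917212 = [[0, 0, 1, 0], [0, 1, 0, 0], [0, 0, 0, 1], [1, 0, 0, 0]] := by decide +kernel

theorem mem_D4 : 76586917212 ∈ tabD4 := List.mem_cons_self

end Cfsg.Agent.H169.WTabD4
end

-- part: H169/ExcD4
section
/-!
# `Has3Out` for the groups `³D₄(q)`
-/

set_option autoImplicit false

namespace Cfsg.Agent.H169.TorPair

open CoxeterSystem Cfsg Cfsg.Lie Cfsg.Lie.ChevalleyDatum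
open Cfsg.Agent.ChevalleyStructure Cfsg.Agent.ChevalleyStructure.Elts Cfsg.Agent.ChevalleyStructure.CoxeterGeom
  Cfsg.Agent.ChevalleyStructure.CoxeterGeomTypes Cfsg.Agent.ChevalleyStructure.NPerm
open Cfsg.Agent.Tits.Roots Cfsg.Agent.Tits.Core Cfsg.Agent.Nodes Cfsg.Agent.Nodes.Reps Cfsg.Agent.Nodes.BNOf
  Cfsg.Agent.Nodes.RGDChev Cfsg.Agent.Nodes.Bruhat Cfsg.Agent.Nodes.SubComb Cfsg.Agent.Nodes.Coroot
open Cfsg.Agent.KFacts.RgdField Cfsg.Agent.KFacts.RgdChevCoord Cfsg.Agent.BpExc.TorCent Cfsg.Agent.BpExc.TorChev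
open Cfsg.Agent.GpExc.Field Cfsg.Agent.BpExc.Tow Cfsg.Agent.BpExc.TowChev Cfsg.Agent.BpExc.Fr
  Cfsg.Agent.BpExc.LangFr Cfsg.Agent.LangThm Cfsg.Agent.BpExc Cfsg.Agent.H129.TorusChar Cfsg.Agent.H129.TorusCent
  Cfsg.Agent.H129.TorusTw Cfsg.Agent.H129.TorusMain Cfsg.Agent.H129.TorusUntw Cfsg.Agent.H720.TorusReal

open Polynomial (aeval)

universe u

variable {D : ChevalleyDatum} {l : ℕ} {M : CoxeterMatrix (Fin l)} (hp : IsType D l M) {k : Type u} [Field k]
  {W : Type*} [Group W] (cs : CoxeterSystem M W) {p e : ℕ} [Fact p.Prime] [CharP k p] {σ : MulAut ↥(D.group k)}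
  {g : (Fin l → ℤ) ≃+ (Fin l → ℤ)}

/-- **Orders of semisimple elements.** -/
theorem order_dvd_all [IsAlgClosed k] [Finite W] (hA : Cfsg.Agent.BpExc.TorAll.HAlg p k) (hk : LocFin k)
    (hσ : IsFrob p e σ) (F : Fr cs hp.isCartan (TT D k) (XX D l k) σ g) {x : ↥(D.group k)} (hx : σ x = x)
    (hx0 : orderOf x ≠ 0) (hxp : (orderOf x).Coprime p) :
    ∃ w : W, ∀ h : Polynomial ℤ, aeval (thL hp cs w g) h = 0 → (orderOf x : ℤ) ∣ h.eval ((p ^ e : ℕ) : ℤ) := by
  obtain ⟨z₁, t, n, w, hxt, ht, hn, hfix⟩ := exists_toral hp cs hA hk F (nsys_of_locFin hp cs hk p) hx hx0 hxp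
    (pow_orderOf_eq_one x)
  refine ⟨w, fun h hh => ?_⟩
  have h1 := (tau_iff hp cs hk hσ F hn ht).1 hfix
  have h2 : ∀ y, cX hp t y ^ h.eval ((p ^ e : ℕ) : ℤ) = 1 := by
    intro y
    rw [← mc_aeval (isMC_cX hp ht) (θ := thL hp cs w g) h1, hh, LinearMap.zero_apply, (isMC_cX hp ht).zero]
  have h3 : t ^ (h.eval ((p ^ e : ℕ) : ℤ)).natAbs = 1 := by
    refine cX_inj hp (pow_mem ht _) (one_mem _) fun i => ?_
    rw [cX_pow hp ht, cX_one]
    have h4 := h2 (sr i)
    rcases Int.natAbs_eq (h.eval ((p ^ e : ℕ) : ℤ)) with h5 | h5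
    · rw [h5, zpow_natCast] at h4
      exact h4
    · rw [h5, zpow_neg, zpow_natCast, inv_eq_one] at h4
      exact h4
  have h6 : orderOf x = orderOf t := by
    rw [hxt]
    exact orderOf_injective (MulAut.conj z₁).toMonoidHom (MulAut.conj z₁).injective t
  rw [h6]
  exact Int.natCast_dvd.2 (orderOf_dvd_of_pow_eq_one h3)

theorem thL_eq (w : W) (g : (Fin l → ℤ) ≃+ (Fin l → ℤ)) :
    thL hp cs w g = rep cs hp.isCartan w * (g.toAddMonoidHom.toIntLinearMap : Module.End ℤ (Fin l → ℤ)) := by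
  apply LinearMap.ext
  intro x
  rw [thL_apply, theta_apply]
  rfl

end Cfsg.Agent.H169.TorPair

namespace Cfsg.Agent.H169.ExcD4

open Cfsg Cfsg.Lie Cfsg.Agent.H163.PG Cfsg.Agent.H169.ExcNum Cfsg.Agent.H169.ExcRows Cfsg.Agent.H169.TorPair
  Cfsg.Agent.ChevalleyStructure.CoxeterGeomTypes Cfsg.Agent.Nodes.RGDChev Cfsg.Agent.H720.TwFr
  Cfsg.Agent.H129.TorusUntw Cfsg.Agent.BpExc.Tow Cfsg.Agent.BpExc.TowChev Cfsg.Agent.H129.TorusMain
  Cfsg.Agent.H169.ExcTw Cfsg.Agent.H169.WTab Cfsg.Agent.H169.WTabD4 Cfsg.Agent.H130.WeylTab Cfsg.Agent.H130.PolyL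
  Cfsg.Agent.H130.WeylCk

open Polynomial (aeval)

universe u

theorem isFrame0 : IsFrame 4 (dec 5 2 4 76586917212)
    ((permE rho4).toAddMonoidHom.toIntLinearMap : Module.End ℤ (Fin 4 → ℤ)) := by
  rw [dec_D4]
  refine ⟨rfl, by decide, ?_⟩
  intro i
  fin_cases i <;> · funext j; fin_cases j <;> rfl

/-- the values of the annihilating polynomials at `q` -/
theorem exists_pol {K : Type u} [Field K] [Fintype K] {p f : ℕ} [Fact p.Prime] [CharP K p] (hf : 0 < f)
    (hK : Fintype.card K = (p ^ f) ^ 3) (x : ↥(twistedD4 K (p ^ f))) (hx : (orderOf x).Coprime p) :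
    ∃ a ∈ polsD4, (orderOf x : ℤ) ∣ (ofL a).eval ((p ^ f : ℕ) : ℤ) := by
  obtain ⟨hpk, hk⟩ := closure_data (K := K) (p := p) (n := f * 3) (by rw [hK, pow_mul])
  have hAk : Cfsg.Agent.BpExc.TorAll.HAlg p (AlgebraicClosure K) := Cfsg.Agent.H944.RootVals.hAlg_closure p K
  have cs := coxeterD4.toCoxeterSystem
  have : Finite coxeterD4.Group := finite_W hp4 cs
  have hq : IsPrimePow (p ^ f) := (Fact.out : p.Prime).isPrimePow.pow hf.ne'
  have hle := tw4_le hq hK
  have hfin : orderOf x ≠ 0 := by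
    have : Finite ↥(chevD4.group K) := inferInstance
    have : Finite ↥(twistedD4 K (p ^ f)) := inferInstance
    exact (orderOf_pos x).ne'
  have ho : orderOf (em4 (algebraMap K (AlgebraicClosure K)) hle x) = orderOf x :=
    orderOf_injective _ (em4_injective _ hle) x
  obtain ⟨w, hw⟩ := order_dvd_all (σ := sig4 (AlgebraicClosure K) p f) hp4 cs hAk hk (isFrob_sig4 p f)
    (fr_sig4 hk p hp4 cs f) (em4_fix (algebraMap K (AlgebraicClosure K)) p hle hf rfl hK x) (by rw [ho]; exact hfin)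
    (by rw [ho]; exact hx)
  rw [ho] at hw
  obtain ⟨c, hc, hfr⟩ := forall_coset cs hp4.isCartan lists_D4 closed_D4 mem_D4 isFrame0 w
  have h1 := List.all_eq_true.1 ann_D4 c hc
  obtain ⟨a, ha, h2⟩ := List.any_eq_true.1 h1
  refine ⟨a, ha, hw _ ?_⟩
  rw [thL_eq]
  exact hfr.ann h2

theorem not_dvd_one {s : ℕ} (hs : s.Prime) : ¬ (s : ℤ) ∣ 1 := by
  intro h
  have h1 : s ∣ 1 := by exact_mod_cast h
  exact hs.one_lt.ne' (Nat.dvd_one.1 h1)

theorem not_dvd_two {s : ℕ} (h2 : 2 < s) : ¬ (s : ℤ) ∣ 2 := by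
  intro h
  have h1 : s ∣ 2 := by exact_mod_cast h
  exact absurd (Nat.le_of_dvd (by norm_num) h1) (by omega)

/-- no annihilating polynomial is divisible by both primes -/
theorem pol_excl {Q : ℤ} {r s : ℕ} (hr : r.Prime) (hs : s.Prime) (r2 : 2 < r) (s2 : 2 < s)
    (h3 : (r : ℤ) ∣ Q ^ 2 + Q + 1) (h3' : ¬ (r : ℤ) ∣ Q - 1) (h6 : (s : ℤ) ∣ Q ^ 2 - Q + 1)
    (h6' : ¬ (s : ℤ) ∣ Q + 1) {a : List ℤ} (ha : a ∈ polsD4) (hr' : (r : ℤ) ∣ (ofL a).eval Q)
    (hs' : (s : ℤ) ∣ (ofL a).eval Q) : False := by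
  have hrp := Nat.prime_iff_prime_int.1 hr
  have hsp := Nat.prime_iff_prime_int.1 hs
  have r1 := not_dvd_one hr
  have s1 := not_dvd_one hs
  have r2' := not_dvd_two r2
  have s2' := not_dvd_two s2
  -- basic non-divisibilities
  have sQ : ¬ (s : ℤ) ∣ Q := fun h => s1 (by
    have h1 := dvd_sub h6 (Dvd.dvd.mul_right h (Q - 1))
    have e : Q ^ 2 - Q + 1 - Q * (Q - 1) = 1 := by ring
    rwa [e] at h1)
  have rQ : ¬ (r : ℤ) ∣ Q := fun h => r1 (by
    have h1 := dvd_sub h3 (Dvd.dvd.mul_right h (Q + 1))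
    have e : Q ^ 2 + Q + 1 - Q * (Q + 1) = 1 := by ring
    rwa [e] at h1)
  have sQ1 : ¬ (s : ℤ) ∣ Q - 1 := fun h => s1 (by
    have h1 := dvd_sub h6 (Dvd.dvd.mul_right h Q)
    have e : Q ^ 2 - Q + 1 - (Q - 1) * Q = 1 := by ring
    rwa [e] at h1)
  have rQ1 : ¬ (r : ℤ) ∣ Q + 1 := fun h => r1 (by
    have h1 := dvd_sub h3 (Dvd.dvd.mul_right h Q)
    have e : Q ^ 2 + Q + 1 - (Q + 1) * Q = 1 := by ring
    rwa [e] at h1)
  simp only [polsD4, List.mem_cons, List.not_mem_nil, or_false] at ha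
  rcases ha with rfl | rfl | rfl | rfl | rfl | rfl | rfl <;>
    simp only [ofL, Polynomial.eval_add, Polynomial.eval_mul, Polynomial.eval_C, Polynomial.eval_X,
      Polynomial.eval_zero] at hr' hs'
  · have h1 := dvd_sub hs' (Dvd.dvd.mul_right h6 (Q ^ 2 + Q - 1))
    have e : (1 + Q * (0 + Q * (-1 + Q * (0 + Q * (1 + Q * 0))))) - (Q ^ 2 - Q + 1) * (Q ^ 2 + Q - 1) =
      2 * -(Q - 1) := by ring
    rw [e] at h1
    rcases hsp.dvd_or_dvd h1 with h | h
    · exact s2' h
    · exact sQ1 ((dvd_neg).1 h)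
  · have h1 := dvd_sub hs' h6
    have e : (1 + Q * (1 + Q * (1 + Q * 0))) - (Q ^ 2 - Q + 1) = 2 * Q := by ring
    rw [e] at h1
    exact (hsp.dvd_or_dvd h1).elim s2' sQ
  · have h1 := dvd_sub h3 hr'
    have e : (Q ^ 2 + Q + 1) - (1 + Q * (-1 + Q * (1 + Q * 0))) = 2 * Q := by ring
    rw [e] at h1
    exact (hrp.dvd_or_dvd h1).elim r2' rQ
  · have h1 := dvd_sub (Dvd.dvd.mul_right h6 ((Q + 1) ^ 2)) hs'
    have e : (Q ^ 2 - Q + 1) * (Q + 1) ^ 2 - (-1 + Q * (-1 + Q * (0 + Q * (1 + Q * (1 + Q * 0))))) =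
      2 * (Q + 1) := by ring
    rw [e] at h1
    exact (hsp.dvd_or_dvd h1).elim s2' h6'
  · have h1 := dvd_sub hr' (Dvd.dvd.mul_right h3 ((Q - 1) ^ 2))
    have e : (-1 + Q * (1 + Q * (0 + Q * (-1 + Q * (1 + Q * 0))))) - (Q ^ 2 + Q + 1) * (Q - 1) ^ 2 =
      2 * (Q - 1) := by ring
    rw [e] at h1
    exact (hrp.dvd_or_dvd h1).elim r2' h3'
  · have h1 := dvd_sub (Dvd.dvd.mul_right h6 ((Q + 1) * (Q - 1))) hs'
    have e : (Q ^ 2 - Q + 1) * ((Q + 1) * (Q - 1)) - (1 + Q * (-1 + Q * (0 + Q * (-1 + Q * (1 + Q * 0))))) =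
      2 * (Q - 1) := by ring
    rw [e] at h1
    exact (hsp.dvd_or_dvd h1).elim s2' sQ1
  · have h1 := dvd_sub hr' (Dvd.dvd.mul_right h3 ((Q - 1) * (Q + 1)))
    have e : (1 + Q * (1 + Q * (0 + Q * (1 + Q * (1 + Q * 0))))) - (Q ^ 2 + Q + 1) * ((Q - 1) * (Q + 1)) =
      2 * (Q + 1) := by ring
    rw [e] at h1
    exact (hrp.dvd_or_dvd h1).elim r2' rQ1

theorem int_dvd_iff {r q : ℕ} (hq : 0 < q) (j : ℕ) : (r : ℤ) ∣ (q : ℤ) ^ j - 1 ↔ r ∣ q ^ j - 1 := by
  rw [← Int.natCast_dvd_natCast, Nat.cast_sub (Nat.one_le_pow _ _ hq), Nat.cast_pow, Nat.cast_one]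

/-- the values at an element of order `3` -/
theorem val_three {r q : ℕ} (hr : r.Prime) (hq : 0 < q) (h : ∀ j, r ∣ q ^ j - 1 ↔ 3 ∣ j) :
    (r : ℤ) ∣ (q : ℤ) ^ 2 + q + 1 ∧ ¬ (r : ℤ) ∣ (q : ℤ) - 1 := by
  have h1 : ¬ (r : ℤ) ∣ (q : ℤ) - 1 := by
    intro h0
    have h2 := (int_dvd_iff hq 1).1 (by rwa [pow_one])
    have h3 := (h 1).1 h2
    omega
  refine ⟨?_, h1⟩
  have h2 := (int_dvd_iff hq 3).2 ((h 3).2 dvd_rfl)
  have e : (q : ℤ) ^ 3 - 1 = ((q : ℤ) - 1) * ((q : ℤ) ^ 2 + q + 1) := by ring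
  rw [e] at h2
  exact ((Nat.prime_iff_prime_int.1 hr).dvd_or_dvd h2).resolve_left h1

/-- the values at an element of order `6` -/
theorem val_six {s q : ℕ} (hs : s.Prime) (hq : 0 < q) (h : ∀ j, s ∣ q ^ j - 1 ↔ 6 ∣ j) :
    (s : ℤ) ∣ (q : ℤ) ^ 2 - q + 1 ∧ ¬ (s : ℤ) ∣ (q : ℤ) + 1 := by
  have hsp := Nat.prime_iff_prime_int.1 hs
  have h1 : ¬ (s : ℤ) ∣ (q : ℤ) + 1 := by
    intro h0
    have h2 := (int_dvd_iff hq 2).1 (by
      have e : (q : ℤ) ^ 2 - 1 = ((q : ℤ) + 1) * (q - 1) := by ring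
      rw [e]
      exact Dvd.dvd.mul_right h0 _)
    have h3 := (h 2).1 h2
    omega
  have h4 : ¬ (s : ℤ) ∣ (q : ℤ) ^ 3 - 1 := by
    intro h0
    have h3 := (h 3).1 ((int_dvd_iff hq 3).1 h0)
    omega
  refine ⟨?_, h1⟩
  have h2 := (int_dvd_iff hq 6).2 ((h 6).2 dvd_rfl)
  have e : (q : ℤ) ^ 6 - 1 = ((q : ℤ) ^ 3 - 1) * (((q : ℤ) + 1) * ((q : ℤ) ^ 2 - q + 1)) := by ring
  rw [e] at h2
  exact ((hsp.dvd_or_dvd ((hsp.dvd_or_dvd h2).resolve_left h4))).resolve_left h1

theorem four_no_pair {K : Type u} [Field K] [Fintype K] {p f : ℕ} [Fact p.Prime] [CharP K p] (hf : 0 < f)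
    (hK : Fintype.card K = (p ^ f) ^ 3) {r s m m' : ℕ} (hr : r.Prime) (hs : s.Prime)
    (hrq : ¬ r ∣ p ^ f) (hsq : ¬ s ∣ p ^ f) (hrl : 5 < r) (hsl : 5 < s)
    (hm : orderOf ((p ^ f : ℕ) : ZMod r) = m) (hm' : orderOf ((p ^ f : ℕ) : ZMod s) = m') (hne : m ≠ m')
    (hl : 4 < m.totient + m'.totient) : ¬ Adj ↥(twistedD4 K (p ^ f)) r s := by
  rintro ⟨x, hx⟩
  obtain ⟨hpk, hk⟩ := closure_data (K := K) (p := p) (n := f * 3) (by rw [hK, pow_mul])
  have hAk : Cfsg.Agent.BpExc.TorAll.HAlg p (AlgebraicClosure K) := Cfsg.Agent.H944.RootVals.hAlg_closure p K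
  have cs := coxeterD4.toCoxeterSystem
  have : Finite coxeterD4.Group := finite_W hp4 cs
  have hq : IsPrimePow (p ^ f) := (Fact.out : p.Prime).isPrimePow.pow hf.ne'
  have hle := tw4_le hq hK
  have hrp : r ≠ p := fun h => hrq (by rw [h]; exact dvd_pow_self p hf.ne')
  have hsp : s ≠ p := fun h => hsq (by rw [h]; exact dvd_pow_self p hf.ne')
  have h1 := no_pair (σ := sig4 (AlgebraicClosure K) p f) hp4 cs hAk hk (isFrob_sig4 p f) (fr_sig4 hk p hp4 cs f)
    hr hs hrp hsp (by omega) (by omega) (by rw [hm, hm']; exact hne) (by rw [hm, hm']; exact hl)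
    (em4_fix (algebraMap K (AlgebraicClosure K)) p hle hf rfl hK x)
  rw [orderOf_injective _ (em4_injective (algebraMap K (AlgebraicClosure K)) hle)] at h1
  exact h1 hx

theorem four_no_36 {K : Type u} [Field K] [Fintype K] {p f : ℕ} [Fact p.Prime] [CharP K p] (hf : 0 < f)
    (hK : Fintype.card K = (p ^ f) ^ 3) {r s : ℕ} (hr : r.Prime) (hs : s.Prime) (r2 : 2 < r) (s2 : 2 < s)
    (hrq : ¬ r ∣ p ^ f) (hsq : ¬ s ∣ p ^ f) (h3 : ∀ j, r ∣ (p ^ f) ^ j - 1 ↔ 3 ∣ j)
    (h6 : ∀ j, s ∣ (p ^ f) ^ j - 1 ↔ 6 ∣ j) : ¬ Adj ↥(twistedD4 K (p ^ f)) r s := by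
  rintro ⟨x, hx⟩
  have hp : p.Prime := Fact.out
  have hq : 0 < p ^ f := pow_pos hp.pos f
  have hrp : r ≠ p := fun h => hrq (by rw [h]; exact dvd_pow_self p hf.ne')
  have hsp : s ≠ p := fun h => hsq (by rw [h]; exact dvd_pow_self p hf.ne')
  obtain ⟨a, ha, hd⟩ := exists_pol hf hK x (by
    rw [hx]
    exact Nat.Coprime.mul_left ((Nat.coprime_primes hr hp).2 hrp) ((Nat.coprime_primes hs hp).2 hsp))
  rw [hx, Nat.cast_mul] at hd
  obtain ⟨a1, a2⟩ := val_three hr hq h3
  obtain ⟨b1, b2⟩ := val_six hs hq h6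
  exact pol_excl hr hs r2 s2 a1 a2 b1 b2 ha ((Dvd.intro _ rfl).trans hd) ((Dvd.intro_left _ rfl).trans hd)

/-- `|³D₄(q)|` is divisible by ... -/
theorem twD4 {K : Type u} [Field K] [Fintype K] {q : ℕ} (hq : IsPrimePow q) (hK : Fintype.card K = q ^ 3)
    (h2 : q ≠ 2) : Has3Out ↥(twistedD4 K q) := by
  obtain ⟨p, f, hp, hf, rfl⟩ := (isPrimePow_nat_iff q).1 hq
  have hpf : Fact p.Prime := ⟨hp⟩
  have hch : CharP K p := by
    obtain ⟨p', hp'⟩ := CharP.exists K
    obtain ⟨n, hpp, hn⟩ := FiniteField.card K p'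
    rw [hK, ← pow_mul] at hn
    have h1 : p = p' := by
      have h2 : p' ∣ p ^ (f * 3) := by rw [hn]; exact dvd_pow_self p' n.pos.ne'
      exact ((Nat.prime_dvd_prime_iff_eq hpp hp).1 (hpp.dvd_of_dvd_pow h2)).symm
    rw [h1]; exact hp'
  have h6 : ¬ (p = 2 ∧ f * 6 = 6) := by
    rintro ⟨rfl, h⟩
    obtain rfl : f = 1 := by omega
    exact h2 rfl
  obtain ⟨r, hr, -, hr1, hr2, hr3, hr4⟩ := ppd (p := p) (f := f) (m := 12) hp (by omega) (by omega) (by omega)
  obtain ⟨s, hs, -, hs1, hs2, hs3, hs4⟩ := ppd (p := p) (f := f) (m := 6) hp (by omega) (by omega) h6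
  obtain ⟨t, ht, ht1, ht0, ht2, ht3, ht4⟩ := ppd_three (p := p) (f := f) hp hf
  have hcard := Cfsg.Agent.S1067.result (K := K) hq hK
  have hout := Cfsg.Agent.S2129.result (K := K) p f (by rw [hK, ← pow_mul, mul_comm]) hf
  refine mk_has3Out (f := f) hr hs ht hf (by omega) (by omega) (by omega) (by omega) (by omega) (by omega)
    (by rw [hout]; exact Nat.mul_dvd_mul_right (by norm_num) f) ?_ ?_ ?_ ?_ ?_ ?_
    (four_no_pair hf hK hr hs hr2 hs2 (by omega) (by omega) hr3 hs3 (by decide) (by decide))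
    (fun h => four_no_36 hf hK ht hs (by omega) (by omega) ht2 hs2 ht4 hs4 h.symm)
    (four_no_pair hf hK hr ht hr2 ht2 (by omega) (by omega) hr3 ht3 (by decide) (by decide))
  · rintro rfl; rw [hr3] at hs3; omega
  · rintro rfl; rw [hs3] at ht3; omega
  · rintro rfl; rw [hr3] at ht3; omega
  · rw [hcard]
    refine Dvd.dvd.mul_left ?_ _
    have h4 : r ∣ ((p ^ f) ^ 8 + (p ^ f) ^ 4 + 1) * ((p ^ f) ^ 4 - 1) := by
      have h5 : ((p ^ f) ^ 8 + (p ^ f) ^ 4 + 1) * ((p ^ f) ^ 4 - 1) = (p ^ f) ^ 12 - 1 := by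
        obtain ⟨c, hc⟩ : ∃ c, (p ^ f) ^ 4 = c + 1 :=
          ⟨(p ^ f) ^ 4 - 1, by have := Nat.one_le_pow 4 (p ^ f) (pow_pos hp.pos f); omega⟩
        have e1 : (p ^ f) ^ 8 = (c + 1) ^ 2 := by rw [← hc]; ring
        have e2 : (p ^ f) ^ 12 = (c + 1) ^ 3 := by rw [← hc]; ring
        rw [e1, e2, hc, Nat.add_sub_cancel]
        refine (Nat.sub_eq_of_eq_add ?_).symm
        ring
      rw [h5]
      exact (hr4 12).2 dvd_rfl
    refine (hr.dvd_mul.1 h4).resolve_right fun h => ?_
    have := (hr4 4).1 h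
    omega
  · rw [hcard]
    exact Dvd.dvd.mul_right (Dvd.dvd.mul_left ((hs4 6).2 dvd_rfl) _) _
  · rw [hcard]
    exact Dvd.dvd.mul_right (Dvd.dvd.mul_left ((ht4 6).2 (by norm_num)) _) _

theorem twD4_goal.{a, b} {K : Type a} [Field K] [Fintype K] {q : ℕ} (hq : IsPrimePow q)
    (hK : Fintype.card K = q ^ 3) : Goal.{a, b} ↥(twistedD4 K q) := by
  by_cases h2 : q = 2
  · subst h2
    have hcard := Cfsg.Agent.S1067.result (K := K) hq hK
    have hpf : Fact (Nat.Prime 2) := ⟨Nat.prime_two⟩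
    have hch : CharP K 2 := by
      obtain ⟨p', hp'⟩ := CharP.exists K
      obtain ⟨n, hpp, hn⟩ := FiniteField.card K p'
      rw [hK] at hn
      have h1 : 2 = p' := by
        have h2 : p' ∣ 2 ^ 3 := by rw [hn]; exact dvd_pow_self p' n.pos.ne'
        exact ((Nat.prime_dvd_prime_iff_eq hpp Nat.prime_two).1 (hpp.dvd_of_dvd_pow h2)).symm
      rw [h1]; exact hp'
    have hout := Cfsg.Agent.S2129.result (K := K) 2 1 (by rw [hK]) le_rfl
    rw [pow_one] at hout
    have hfin : Finite ↥(twistedD4 K 2) := by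
      have : Finite (GL chevD4.Idx K) := inferInstance
      infer_instance
    refine goal_of_primes {2, 3, 7, 13} (by decide) ?_ ?_
    · intro p hp h
      rw [hcard] at h
      have e : 2 ^ 12 * (2 ^ 2 - 1) * (2 ^ 6 - 1) * (2 ^ 8 + 2 ^ 4 + 1) = 2 ^ 12 * 3 ^ 4 * 7 ^ 2 * 13 := by norm_num
      rw [e] at h
      simp only [Finset.mem_insert, Finset.mem_singleton]
      rcases hp.dvd_mul.1 h with h | h
      · rcases hp.dvd_mul.1 h with h | h
        · rcases hp.dvd_mul.1 h with h | h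
          · exact Or.inl ((Nat.prime_dvd_prime_iff_eq hp Nat.prime_two).1 (hp.dvd_of_dvd_pow h))
          · exact Or.inr (Or.inl ((Nat.prime_dvd_prime_iff_eq hp Nat.prime_three).1 (hp.dvd_of_dvd_pow h)))
        · exact Or.inr (Or.inr (Or.inl ((Nat.prime_dvd_prime_iff_eq hp (by norm_num)).1 (hp.dvd_of_dvd_pow h))))
      · exact Or.inr (Or.inr (Or.inr ((Nat.prime_dvd_prime_iff_eq hp (by norm_num)).1 h)))
    · intro p hp h
      rw [hout] at h
      simp only [Finset.mem_insert, Finset.mem_singleton]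
      exact Or.inr (Or.inl ((Nat.prime_dvd_prime_iff_eq hp Nat.prime_three).1 h))
  · exact goal_of_has3Out (twD4 hq hK h2)

end Cfsg.Agent.H169.ExcD4
end

private theorem dce_927262bf9260 : _root_.True := by
  try have : _root_.True := by simp only [_root_.Cfsg.Agent.H169.WTab.apF.eq_def]
  try have : _root_.True := by simp only [_root_.Cfsg.Agent.H169.WTab.apF.eq_3]
  try have : _root_.True := by simp only [_root_.Cfsg.Agent.H169.WTab.hoF.eq_2]
  try have : _root_.True := by simp only [_root_.Cfsg.Agent.H169.WTabD4.polsD4.eq_1]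
  try have : _root_.True := by simp only [_root_.Cfsg.Agent.H169.WTab.apF.eq_2]
  try have : _root_.True := by simp only [_root_.Cfsg.Agent.H169.WTab.apF.eq_1]
  try have : _root_.True := by simp only [_root_.Cfsg.Agent.H169.WTab.stp.eq_1]
  try have : _root_.True := by simp only [_root_.Cfsg.Agent.H169.WTab.hoF.eq_1]
  try have : _root_.True := by simp only [_root_.Cfsg.Agent.H169.WTab.hoF.eq_def]
  exact _root_.True.intro
end

-- part: H169/ExcG2
section
set_option linter.all false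
open scoped Cfsg.Agent.FastGrp

/-!
# The goal for the groups `G₂(q)`, `q ≥ 3`
-/

set_option autoImplicit false
set_option linter.unusedSectionVars false

namespace Cfsg.Agent.H169.ExcG2

open CoxeterSystem Cfsg Cfsg.Lie Cfsg.Lie.ChevalleyDatum
open Cfsg.Agent.ChevalleyStructure Cfsg.Agent.ChevalleyStructure.Elts Cfsg.Agent.ChevalleyStructure.CoxeterGeom
  Cfsg.Agent.ChevalleyStructure.CoxeterGeomTypes Cfsg.Agent.ChevalleyStructure.NPerm
open Cfsg.Agent.Tits.Roots Cfsg.Agent.Tits.Core Cfsg.Agent.Nodes Cfsg.Agent.Nodes.Reps Cfsg.Agent.Nodes.BNOf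
  Cfsg.Agent.Nodes.RGDChev Cfsg.Agent.Nodes.Bruhat Cfsg.Agent.Nodes.SubComb Cfsg.Agent.Nodes.Coroot
open Cfsg.Agent.KFacts.RgdField Cfsg.Agent.KFacts.RgdChevCoord Cfsg.Agent.BpExc.TorCent Cfsg.Agent.BpExc.TorChev
open Cfsg.Agent.GpExc.Field Cfsg.Agent.BpExc.Tow Cfsg.Agent.BpExc.TowChev Cfsg.Agent.BpExc.Fr
  Cfsg.Agent.BpExc.LangFr Cfsg.Agent.LangThm Cfsg.Agent.BpExc Cfsg.Agent.H129.TorusChar Cfsg.Agent.H129.TorusCent
  Cfsg.Agent.H129.TorusTw Cfsg.Agent.H129.TorusMain Cfsg.Agent.H129.TorusUntw Cfsg.Agent.H720.TorusReal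
open Cfsg.Agent.H163.PG Cfsg.Agent.H169.ExcNum Cfsg.Agent.H169.ExcRows Cfsg.Agent.H169.TorPair

universe u

/-- elements of order `2 r`, `r` a prime divisor of `q² ± q + 1` -/
theorem two_no {F : Type u} [Field F] [Fintype F] {q : ℕ} (hq : Fintype.card F = q) (hodd : Odd q) {r m : ℕ}
    (hr : r.Prime) (hrl : 3 < r) (hrq : ¬ r ∣ q) (hm : orderOf (q : ZMod r) = m) (h36 : m = 3 ∨ m = 6) :
    ¬ Adj ↥(chevG2.group F) 2 r := by
  rintro ⟨x, hx⟩
  have hp : IsType chevG2 2 CoxeterMatrix.G₂ := by simp [IsType, typeList]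
  obtain ⟨p, e, hpF, hpc, hpk, he, rfl, hk⟩ := exists_closure hq
  have hAk : Cfsg.Agent.BpExc.TorAll.HAlg p (AlgebraicClosure F) := Cfsg.Agent.H944.RootVals.hAlg_closure p F
  have cs := CoxeterMatrix.G₂.toCoxeterSystem
  have : Finite CoxeterMatrix.G₂.Group := finite_W hp cs
  have hrp : r ≠ p := fun h => hrq (by rw [h]; exact dvd_pow_self p he.ne')
  have hpp : p.Prime := Fact.out
  have h2p : 2 ≠ p := by
    rintro rfl
    have : Odd 2 := (Nat.odd_pow_iff he.ne').1 hodd
    exact absurd this (by decide)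
  have ho : orderOf (Cfsg.Agent.GpExc.Field.emb hp.inList (algebraMap F (AlgebraicClosure F)) x) = 2 * r := by
    rw [orderOf_injective _ (emb_injective hp.inList (algebraMap F (AlgebraicClosure F)))]
    exact hx
  obtain ⟨w, N, hN, hθ, hd⟩ := order_dvd hp cs hAk hk isFrob_phi (fr_phi hp cs)
    (phi_emb hp (algebraMap F (AlgebraicClosure F)) hq x)
    (by rw [ho]; exact (Nat.mul_pos Nat.two_pos hr.pos).ne')
    (by rw [ho]; exact Nat.Coprime.mul_left ((Nat.coprime_primes Nat.prime_two hpp).2 h2p)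
          ((Nat.coprime_primes hr hpp).2 hrp))
  rw [ho, Nat.cast_mul] at hd
  have hrank : Module.finrank ℤ (Fin 2 → ℤ) = 2 := by rw [Module.finrank_fintype_fun_eq_card, Fintype.card_fin]
  obtain ⟨h1, h2⟩ := Cfsg.Agent.H169.CycDvd.exists_cyclotomic (thL hp cs w _) hN hθ hr (by rw [hrank]; exact hrl)
    ((Dvd.intro_left _ rfl).trans hd)
  simp only [Int.cast_natCast] at h1 h2
  rw [hm] at h1 h2
  have hmon : (thL hp cs w (AddEquiv.refl (Fin 2 → ℤ))).charpoly.Monic := LinearMap.charpoly_monic _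
  have h3 : Polynomial.cyclotomic m ℤ = (thL hp cs w (AddEquiv.refl (Fin 2 → ℤ))).charpoly := by
    refine (Polynomial.eq_of_monic_of_dvd_of_natDegree_le (Polynomial.cyclotomic.monic m ℤ) hmon h2 ?_).symm
    rw [LinearMap.charpoly_natDegree, hrank, Polynomial.natDegree_cyclotomic]
    rcases h36 with rfl | rfl <;> decide
  have h4 : (2 : ℤ) ∣ (Polynomial.cyclotomic m ℤ).eval ((p ^ e : ℕ) : ℤ) := by
    rw [h3]
    exact (Dvd.intro _ rfl).trans hd
  have hO : Odd ((p ^ e : ℕ) : ℤ) := by exact_mod_cast hodd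
  have h5 : ¬ (2 : ℤ) ∣ (Polynomial.cyclotomic m ℤ).eval ((p ^ e : ℕ) : ℤ) := by
    generalize ((p ^ e : ℕ) : ℤ) = a at hO
    rcases h36 with rfl | rfl
    · rw [Polynomial.cyclotomic_three]
      simp only [Polynomial.eval_add, Polynomial.eval_pow, Polynomial.eval_X, Polynomial.eval_one]
      intro h
      obtain ⟨k, rfl⟩ := hO
      obtain ⟨c, hc⟩ := h
      have : (2 * k + 1) ^ 2 + (2 * k + 1) + 1 = 2 * (2 * k ^ 2 + 3 * k + 1) + 1 := by ring
      omega
    · rw [Polynomial.cyclotomic_six]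
      simp only [Polynomial.eval_add, Polynomial.eval_sub, Polynomial.eval_pow, Polynomial.eval_X,
        Polynomial.eval_one]
      intro h
      obtain ⟨k, rfl⟩ := hO
      obtain ⟨c, hc⟩ := h
      have : (2 * k + 1) ^ 2 - (2 * k + 1) + 1 = 2 * (2 * k ^ 2 + k) + 1 := by ring
      omega
  exact h5 h4

theorem g2_of_three_le (F : Type u) [Field F] [Fintype F] {p f : ℕ} [Fact p.Prime] [CharP F p] (hf : 0 < f)
    (hF : Fintype.card F = p ^ f) (h3 : 3 ≤ p ^ f) (hp3 : p ^ f ≠ 3) : Has3Out ↥(chevG2.group F) := by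
  have hp : IsType chevG2 2 CoxeterMatrix.G₂ := by simp [IsType, typeList]
  have hpp : p.Prime := Fact.out
  obtain ⟨r, hr, hr1, hr0, hr2, hr3, hr4⟩ := ppd_three (p := p) (f := f) Fact.out hf
  obtain ⟨s, hs, -, hs1, hs2, hs3, hs4⟩ := ppd (p := p) (f := f) (m := 6) Fact.out (by omega) (by omega) (by
    rintro ⟨rfl, h⟩
    obtain rfl : f = 1 := by omega
    omega)
  have hcard := Cfsg.Agent.S1059.result (F := F) hF
  have hout := Cfsg.Agent.S2121.result (F := F) p f hF h3
  have hrs : ¬ Adj ↥(chevG2.group F) r s :=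
    no_adj hp hF hr hs hr2 hs2 (by omega) (by omega) hr3 hs3 (by decide) (by decide)
  have drG : r ∣ Nat.card ↥(chevG2.group F) := by
    rw [hcard]
    exact Dvd.dvd.mul_left ((hr4 6).2 (by norm_num)) _
  have dsG : s ∣ Nat.card ↥(chevG2.group F) := by
    rw [hcard]
    exact Dvd.dvd.mul_left ((hs4 6).2 (by norm_num)) _
  have nrs : r ≠ s := by rintro rfl; rw [hr3] at hs3; omega
  by_cases hf1 : f = 1
  · subst hf1
    rw [pow_one] at *
    have hp2 : p ≠ 2 := by rintro rfl; omega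
    have hodd : Odd p := hpp.odd_of_ne_two hp2
    rw [if_neg hp3] at hout
    have h2 : ∀ t : ℕ, t.Prime → ¬ t ∣ Nat.card (Cfsg.Out ↥(chevG2.group F)) := by
      intro t ht h
      rw [hout] at h
      exact ht.one_lt.ne' (Nat.dvd_one.1 h)
    refine ⟨2, r, s, Nat.prime_two, hr, hs, by omega, nrs, by omega, ?_, drG, dsG,
      two_no hF hodd hr (by omega) hr2 hr3 (Or.inl rfl), hrs,
      two_no hF hodd hs (by omega) hs2 hs3 (Or.inr rfl), h2 2 Nat.prime_two, h2 r hr, h2 s hs⟩
    rw [hcard]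
    refine Dvd.dvd.mul_right (Dvd.dvd.mul_left ?_ _) _
    obtain ⟨k, hk⟩ := hodd
    refine ⟨2 * k ^ 2 + 2 * k, ?_⟩
    rw [hk]
    refine Nat.sub_eq_of_eq_add ?_
    ring
  · -- a prime of order `1` or `2`
    obtain ⟨t, m, ht, ht1, ht0, ht2, ht3, ht4, hm⟩ : ∃ t m : ℕ, t.Prime ∧ f < t ∧ 3 < t ∧ ¬ t ∣ p ^ f ∧
        orderOf ((p ^ f : ℕ) : ZMod t) = m ∧ (∀ j, t ∣ (p ^ f) ^ j - 1 ↔ m ∣ j) ∧ (m = 1 ∨ m = 2) := by
      by_cases h8 : p = 2 ∧ f * 2 = 6
      · obtain ⟨rfl, h8⟩ := h8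
        obtain rfl : f = 3 := by omega
        obtain ⟨t, ht, -, ht1, ht2, ht3, ht4⟩ := ppd (p := 2) (f := 3) (m := 1) Nat.prime_two (by omega) (by omega)
          (by omega)
        exact ⟨t, 1, ht, by omega, by omega, ht2, ht3, ht4, Or.inl rfl⟩
      · obtain ⟨t, ht, -, ht1, ht2, ht3, ht4⟩ := ppd (p := p) (f := f) (m := 2) hpp (by omega) (by omega) h8
        exact ⟨t, 2, ht, by omega, by omega, ht2, ht3, ht4, Or.inr rfl⟩
    have hmr : 2 < (3 : ℕ).totient + m.totient := by rcases hm with rfl | rfl <;> decide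
    have hms : 2 < m.totient + (6 : ℕ).totient := by rcases hm with rfl | rfl <;> decide
    refine mk_has3Out (f := f) hr ht hs hf (by omega) (by omega) (by omega) (by omega) (by omega) (by omega)
      (by
        rw [hout]
        split_ifs
        · exact Nat.mul_dvd_mul_right (by norm_num) f
        · exact Dvd.intro_left 6 rfl) ?_ ?_ nrs drG ?_ dsG
      (no_adj hp hF hr ht hr2 ht2 (by omega) (by omega) hr3 ht3 (by omega) hmr)
      (no_adj hp hF ht hs ht2 hs2 (by omega) (by omega) ht3 hs3 (by omega) hms) hrs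
    · rintro rfl; rw [hr3] at ht3; omega
    · rintro rfl; rw [ht3] at hs3; omega
    · rw [hcard]
      exact Dvd.dvd.mul_left ((ht4 6).2 (by rcases hm with rfl | rfl <;> decide)) _

theorem g2_goal.{a, b} (F : Type a) [Field F] [Fintype F] (h3 : 3 ≤ Fintype.card F) :
    Goal.{a, b} ↥(chevG2.group F) := by
  obtain ⟨p, f, hpp, hpc, hf, hF⟩ := exists_pf F
  by_cases hq : p ^ f = 3
  · rw [hq] at hF
    have hcard := Cfsg.Agent.S1059.result (F := F) hF
    have hp3 : p = 3 := by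
      have h1 : p ∣ 3 := by rw [← hq]; exact dvd_pow_self p hf.ne'
      exact (Nat.prime_dvd_prime_iff_eq Fact.out Nat.prime_three).1 h1
    subst hp3
    have hf1 : f = 1 := by
      by_contra h
      have h2 : 3 ^ 2 ≤ 3 ^ f := Nat.pow_le_pow_right (by norm_num) (by omega)
      omega
    subst hf1
    have hout := Cfsg.Agent.S2121.result (F := F) 3 1 hF (by norm_num)
    rw [if_pos rfl] at hout
    refine goal_of_primes {2, 3, 7, 13} (by decide) ?_ ?_
    · intro p hp h
      rw [hcard] at h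
      have e : 3 ^ 6 * (3 ^ 2 - 1) * (3 ^ 6 - 1) = 2 ^ 6 * 3 ^ 6 * 7 * 13 := by norm_num
      rw [e] at h
      simp only [Finset.mem_insert, Finset.mem_singleton]
      rcases hp.dvd_mul.1 h with h | h
      · rcases hp.dvd_mul.1 h with h | h
        · rcases hp.dvd_mul.1 h with h | h
          · exact Or.inl ((Nat.prime_dvd_prime_iff_eq hp Nat.prime_two).1 (hp.dvd_of_dvd_pow h))
          · exact Or.inr (Or.inl ((Nat.prime_dvd_prime_iff_eq hp Nat.prime_three).1 (hp.dvd_of_dvd_pow h)))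
        · exact Or.inr (Or.inr (Or.inl ((Nat.prime_dvd_prime_iff_eq hp (by norm_num)).1 h)))
      · exact Or.inr (Or.inr (Or.inr ((Nat.prime_dvd_prime_iff_eq hp (by norm_num)).1 h)))
    · intro p hp h
      rw [hout] at h
      simp only [Finset.mem_insert, Finset.mem_singleton]
      exact Or.inl ((Nat.prime_dvd_prime_iff_eq hp Nat.prime_two).1 h)
  · exact goal_of_has3Out (g2_of_three_le F hf hF (hF ▸ h3) hq)

end Cfsg.Agent.H169.ExcG2

private theorem dce_b7a2cfdcb2ac : _root_.True := by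
  try have : _root_.True := by simp only [_root_.Cfsg.Agent.H169.TorPair.thL.congr_simp]
  exact _root_.True.intro
end
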