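import Mathlib
import Cfsg.Agent.H194.NilFormD
import Cfsg.Agent.H194.Cayley
import Cfsg.Agent.ClassicalGeometry.SymmNormalForm
import Cfsg.Agent.ClassicalGeometry.Discriminant
import Cfsg.Agent.H152.Blocks
import Cfsg.Agent.H171.Typ
import Cfsg.Agent.H193.InvForm
set_option linter.all false

-- part: H169/OddUnip
section
/-!
# Unipotent isometries of symmetric forms over finite fields of odd characteristic

`HasU B g m s` : `g` has `m i` Jordan blocks of size `i`, and `s i` tells whether the discriminant of the Gram block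
of (odd) size `i` is a nonsquare.

* `exists_hasU`, `HasU.exists_isometry`, `HasU.disc`.
-/

set_option autoImplicit false

namespace Cfsg.Agent.H169.OddUnip

open Module Cfsg.Agent.H194.NilForm Cfsg.Agent.H194.Cayley Matrix

universe u
variable {F : Type*} [Field F] {V : Type u} [AddCommGroup V] [Module F V]

theorem sc (h2 : (2 : F) ≠ 0) : Sc (RingHom.id F) 1 (-1) (2⁻¹ : F) where
  invol := fun _ => rfl
  eps := by simp
  eta := by simp
  tau := by
    rw [RingHom.id_apply, ← two_mul, mul_inv_cancel₀ h2]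

theorem isUnit_two (h2 : (2 : F) ≠ 0) : IsUnit (2 : Module.End F V) := by
  rw [← map_ofNat (algebraMap F (Module.End F V)) 2]
  exact (IsUnit.mk0 _ h2).map _

/-- the pair of a skew map -/
theorem pair (B : V →ₗ[F] V →ₗ[F] F) (hsym : ∀ u v, B u v = B v u) (hnd : ∀ u, (∀ v, B u v = 0) → u = 0)
    {N : Module.End F V} (hN : ∀ x y, B (N x) y = - B x (N y)) :
    Pair (RingHom.id F) 1 (-1) (fun u v => B u v) N where
  add_left := fun x x' y => by rw [map_add, LinearMap.add_apply]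
  smul_left := fun c x y => by rw [map_smul, LinearMap.smul_apply, smul_eq_mul]
  symm := fun x y => by rw [hsym, RingHom.id_apply, one_mul]
  adj := fun x y => by rw [hN]; ring
  nondeg := hnd

/-- the type of a unipotent isometry -/
def HasU (B : V →ₗ[F] V →ₗ[F] F) (g : Module.End F V) (m : ℕ → ℕ) (s : ℕ → Bool) : Prop :=
  ∃ N : Module.End F V, Cay g N ∧ ∃ (ι : Type) (_ : Fintype ι) (_ : DecidableEq ι) (ℓ : ι → ℕ) (S : Matrix ι ι F)
    (x : ι → V), IsNB (fun u v => B u v) N ℓ S x ∧ (∀ i, Fintype.card {a // ℓ a = i} = m i) ∧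
    ∀ i, (s i = true ↔ (Odd i ∧ ¬ IsSquare (S.toSquareBlock ℓ i).det))

theorem gram_symm {f : V → V → F} {N : V →ₗ[F] V}
    (h : Pair (RingHom.id F) 1 (-1) f N) {ι : Type*} [Fintype ι] [DecidableEq ι]
    {ℓ : ι → ℕ} {S : Matrix ι ι F} {x : ι → V} (hx : IsNB f N ℓ S x) (a b : ι) :
    S b a = ((-1 : F) ^ (ℓ a + 1)) * S a b := by
  by_cases hab : ℓ a = ℓ b
  · obtain ⟨k, hk⟩ : ∃ k, k + 1 = ℓ a := ⟨ℓ a - 1, by have := hx.pos a; omega⟩
    have h1 := hx.form b a k
    have h3 := hx.form a b k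
    rw [if_pos hk] at h1
    rw [if_pos (hk.trans hab)] at h3
    rw [← h1, ← h3, h.symm_pow, RingHom.id_apply, RingHom.id_apply, ← hk, pow_succ, pow_succ]
    ring
  · rw [hx.blk a b hab, hx.blk b a (Ne.symm hab), mul_zero]

theorem block_symm {f : V → V → F} {N : V →ₗ[F] V}
    (h : Pair (RingHom.id F) 1 (-1) f N) {ι : Type*} [Fintype ι] [DecidableEq ι]
    {ℓ : ι → ℕ} {S : Matrix ι ι F} {x : ι → V} (hx : IsNB f N ℓ S x) (i : ℕ) :
    (S.toSquareBlock ℓ i)ᵀ = ((-1 : F) ^ (i + 1)) • S.toSquareBlock ℓ i := by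
  ext a b
  rw [Matrix.transpose_apply, Matrix.smul_apply]
  simp only [Matrix.toSquareBlock_def, Matrix.of_apply, smul_eq_mul]
  have := gram_symm h hx a b
  rwa [a.2] at this

/-- every unipotent isometry has a type -/
theorem exists_hasU [Finite F] (h2 : (2 : F) ≠ 0) [FiniteDimensional F V] (B : V →ₗ[F] V →ₗ[F] F)
    (hsym : ∀ u v, B u v = B v u) (hnd : ∀ u, (∀ v, B u v = 0) → u = 0) (g : Module.End F V)
    (hg : ∀ u v, B (g u) (g v) = B u v) {p : ℕ} (hp : (g - 1) ^ p = 0) :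
    ∃ (m : ℕ → ℕ) (s : ℕ → Bool), HasU B g m s ∧ m 0 = 0 ∧ (∀ i, Even i → Even (m i)) ∧
      (∀ i, s i = true → Odd i ∧ 0 < m i) ∧ (∀ i, finrank F V < i → m i = 0) ∧
      ∑ i ∈ Finset.range (finrank F V + 1), i * m i = finrank F V := by
  classical
  obtain ⟨N, hc, hN⟩ := exists_cay (isUnit_two h2) hp
  have hskew := skew_of_isometry (f := fun u v => B u v) h2 (fun x x' y => by rw [map_add, LinearMap.add_apply])
    (fun x y y' => by rw [map_add]) hg hc
  have hP := pair B hsym hnd hskew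
  obtain ⟨ι, _, _, ℓ, S, x, hx, hℓ⟩ := exists_nb (sc h2) p hP hN
  have hη : (-1 : F) ≠ 0 := by simp
  have hrank : finrank F V = ∑ a, ℓ a := hx.finrank_eq hP hη
  have hle : ∀ a, ℓ a ≤ finrank F V := by
    intro a
    rw [hrank]
    exact Finset.single_le_sum (fun b _ => Nat.zero_le _) (Finset.mem_univ a)
  refine ⟨fun i => Fintype.card {a // ℓ a = i},
    fun i => decide (Odd i ∧ ¬ IsSquare (S.toSquareBlock ℓ i).det),
    ⟨N, hc, ι, inferInstance, inferInstance, ℓ, S, x, hx, fun i => rfl, fun i => by simp⟩, ?_, ?_, ?_, ?_, ?_⟩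
  · exact Fintype.card_eq_zero_iff.2 ⟨fun a => (hx.pos a).ne' a.2⟩
  · intro i hi
    have h3 := block_symm hP hx i
    rw [(hi.add_one).neg_one_pow, neg_one_smul] at h3
    obtain ⟨k, hk⟩ := even_card_of_alt h2 h3 (hx.block_isUnit i)
    change Even (Fintype.card {a // ℓ a = i})
    rw [hk]
    exact even_two_mul k
  · intro i hi
    simp only [decide_eq_true_eq] at hi
    refine ⟨hi.1, ?_⟩
    by_contra h0
    have h1 := Fintype.card_eq_zero_iff.1 (Nat.eq_zero_of_not_pos h0)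
    apply hi.2
    rw [Matrix.det_isEmpty]
    exact ⟨1, by ring⟩
  · intro i hi
    exact Fintype.card_eq_zero_iff.2 ⟨fun a => by have := hle a.1; rw [a.2] at this; omega⟩
  · rw [hrank]
    have h4 : ∀ i, i * Fintype.card {a // ℓ a = i} = ∑ a ∈ Finset.univ.filter (fun a => ℓ a = i), ℓ a := by
      intro i
      rw [Finset.sum_congr rfl (fun a ha => (Finset.mem_filter.1 ha).2), Finset.sum_const, Fintype.card_subtype,
        smul_eq_mul, mul_comm]
    rw [Finset.sum_congr rfl (fun i _ => h4 i)]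
    exact Finset.sum_fiberwise_of_maps_to (s := Finset.univ) (t := Finset.range ((∑ a, ℓ a) + 1)) (g := ℓ)
      (fun a _ => Finset.mem_range.2 (by have := hle a; rw [hrank] at this; omega)) ℓ

theorem exists_sq_mul [Finite F] {a b : F} (ha : a ≠ 0) (h : IsSquare a ↔ IsSquare b) :
    ∃ s : F, b = s ^ 2 * a := by
  by_cases hsa : IsSquare a
  · obtain ⟨t, ht⟩ := h.1 hsa
    obtain ⟨r, hr⟩ := hsa
    have hr0 : r ≠ 0 := fun h0 => ha (by rw [hr, h0, mul_zero])
    exact ⟨t / r, by rw [hr, ht]; field_simp⟩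
  · have hsb : ¬ IsSquare b := fun hb => hsa (h.2 hb)
    obtain ⟨r, hr⟩ := Cfsg.Agent.ClassicalGeometry.SymmNormalForm.isSquare_div_of_not hsa hsb
    refine ⟨r / a, ?_⟩
    field_simp
    linear_combination hr

/-- **Unipotent isometries of the same type are equivalent.** -/
theorem HasU.exists_isometry [Finite F] (h2 : (2 : F) ≠ 0) {V' : Type*} [AddCommGroup V'] [Module F V']
    {B : V →ₗ[F] V →ₗ[F] F} {B' : V' →ₗ[F] V' →ₗ[F] F}
    (hsym : ∀ u v, B u v = B v u) (hnd : ∀ u, (∀ v, B u v = 0) → u = 0)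
    (hsym' : ∀ u v, B' u v = B' v u) (hnd' : ∀ u, (∀ v, B' u v = 0) → u = 0)
    {g : Module.End F V} {g' : Module.End F V'} (hg : ∀ u v, B (g u) (g v) = B u v)
    (hg' : ∀ u v, B' (g' u) (g' v) = B' u v) {m : ℕ → ℕ} {s : ℕ → Bool} (H : HasU B g m s) (H' : HasU B' g' m s) :
    ∃ e : V ≃ₗ[F] V', (∀ u v, B' (e u) (e v) = B u v) ∧ ∀ v, e (g v) = g' (e v) := by
  obtain ⟨N, hc, ι, _, _, ℓ, S, x, hx, hm, hs⟩ := H
  obtain ⟨N', hc', ι', _, _, ℓ', S', x', hx', hm', hs'⟩ := H'
  have hP := pair B hsym hnd (skew_of_isometry (f := fun u v => B u v) h2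
    (fun x x' y => by rw [map_add, LinearMap.add_apply]) (fun x y y' => by rw [map_add]) hg hc)
  have hP' := pair B' hsym' hnd' (skew_of_isometry (f := fun u v => B' u v) h2
    (fun x x' y => by rw [map_add, LinearMap.add_apply]) (fun x y y' => by rw [map_add]) hg' hc')
  have hη : (-1 : F) ≠ 0 := by simp
  have hcard : ∀ i, Fintype.card {a // ℓ a = i} = Fintype.card {a // ℓ' a = i} := by
    intro i; rw [hm, hm']
  obtain ⟨e, he, heN⟩ := exists_isometry_of_blocks hP hP' hη hx hx' (by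
    intro i hi
    have h3 := block_symm hP hx i
    have h3' := block_symm hP' hx' i
    rcases Nat.even_or_odd i with hev | hodd
    · rw [(hev.add_one).neg_one_pow, neg_one_smul] at h3 h3'
      exact cg_alt h2 h3 h3' (hx.block_isUnit i) (hx'.block_isUnit i) (hcard i)
    · rw [(hodd.add_one).neg_one_pow, one_smul] at h3 h3'
      have hiff : IsSquare (S.toSquareBlock ℓ i).det ↔ IsSquare (S'.toSquareBlock ℓ' i).det := by
        have h5 := (hs i).symm.trans (hs' i)
        constructor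
        · intro h6
          by_contra h7
          exact (h5.2 ⟨hodd, h7⟩).2 h6
        · intro h6
          by_contra h7
          exact (h5.1 ⟨hodd, h7⟩).2 h6
      obtain ⟨c, hc⟩ := exists_sq_mul (F := F) (a := (S.toSquareBlock ℓ i).det) (b := (S'.toSquareBlock ℓ' i).det)
          ((Matrix.isUnit_iff_isUnit_det _).1 (hx.block_isUnit i)).ne_zero hiff
      exact cg_symm h2 h3 h3' (hx.block_isUnit i) (hx'.block_isUnit i) (hcard i) hc)
  refine ⟨e, he, ?_⟩
  have hsurj : ∀ v : V, ∃ w, w - N w = v := by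
    intro v
    refine ⟨(2 : F)⁻¹ • (g + 1) v, ?_⟩
    have h1 := congrArg (fun T : Module.End F V => T v) hc.mul_add
    have h3 : (g + 1) v - N ((g + 1) v) = (2 : F) • v := by
      have h4 : ((2 : Module.End F V)) v = (2 : F) • v := by
        rw [← one_add_one_eq_two, ← one_add_one_eq_two, LinearMap.add_apply, Module.End.one_apply, add_smul, one_smul]
      rw [← h4]
      exact h1
    rw [map_smul, ← smul_sub, h3, smul_smul, inv_mul_cancel₀ h2, one_smul]
  intro v
  obtain ⟨w, rfl⟩ := hsurj v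
  have h5 : g (w - N w) = w + N w := congrArg (fun T : Module.End F V => T w) hc.mul
  have h6 : g' (e w - N' (e w)) = e w + N' (e w) := congrArg (fun T : Module.End F V' => T (e w)) hc'.mul
  rw [h5, map_add, map_sub, heN, h6]

end Cfsg.Agent.H169.OddUnip
end

-- part: H169/OddDisc
section
/-!
# Discriminants of unipotent isometries

`qd B` : quadratic character of the discriminant; `HasU.qd_mul` : comparison of two spaces whose unipotent isometries
have the same Jordan type.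
-/

set_option autoImplicit false

namespace Cfsg.Agent.H169.OddUnip

open Module Cfsg.Agent.H194.NilForm Cfsg.Agent.H194.Cayley Matrix

universe u
variable {F : Type*} [Field F] [Fintype F] [DecidableEq F] {V : Type u} [AddCommGroup V] [Module F V]

/-- quadratic character of the discriminant -/
noncomputable def qd [FiniteDimensional F V] (B : V →ₗ[F] V →ₗ[F] F) : ℤ :=
  quadraticChar F (LinearMap.BilinForm.toMatrix (Module.finBasis F V) B).det

theorem nondegenerate_of {B : V →ₗ[F] V →ₗ[F] F} (hsym : ∀ u v, B u v = B v u)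
    (hnd : ∀ u, (∀ v, B u v = 0) → u = 0) : B.Nondegenerate :=
  ⟨hnd, fun v hv => hnd v fun u => by rw [hsym]; exact hv u⟩

theorem quadraticChar_sq_mul {s a : F} (hs : s ≠ 0) : quadraticChar F (s ^ 2 * a) = quadraticChar F a := by
  rw [map_mul, quadraticChar_sq_one' hs, one_mul]

theorem qd_eq [FiniteDimensional F V] (B : V →ₗ[F] V →ₗ[F] F) {κ : Type*} [Fintype κ] [DecidableEq κ]
    (b : Basis κ F V) : quadraticChar F (LinearMap.BilinForm.toMatrix b B).det = qd B := by
  obtain ⟨s, hs, h⟩ := Cfsg.Agent.ClassicalGeometry.Discriminant.det_toMatrix_change (Module.finBasis F V) b B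
  rw [h, quadraticChar_sq_mul hs, qd]

section Block

variable {ι : Type*} [Fintype ι] [DecidableEq ι] (ℓ : ι → ℕ) (S : Matrix ι ι F)

/-- the matrix `S ⊗ 1` -/
def tt : Matrix ((a : ι) × Fin (ℓ a)) ((a : ι) × Fin (ℓ a)) F :=
  Matrix.of fun p q => if (p.2 : ℕ) = q.2 then S p.1 q.1 else 0

/-- the antidiagonal matrix -/
def kk (F : Type*) [Field F] : Matrix ((a : ι) × Fin (ℓ a)) ((a : ι) × Fin (ℓ a)) F :=
  Matrix.of fun p q => if p.1 = q.1 ∧ (p.2 : ℕ) + q.2 + 1 = ℓ q.1 then (-1) ^ (p.2 : ℕ) else 0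

theorem tt_mul_kk : tt ℓ S * kk ℓ F = Matrix.of fun p q : (a : ι) × Fin (ℓ a) =>
    if (p.2 : ℕ) + q.2 + 1 = ℓ q.1 then (-1) ^ (p.2 : ℕ) * S p.1 q.1 else 0 := by
  ext p q
  rw [Matrix.mul_apply, Matrix.of_apply]
  simp only [tt, kk, Matrix.of_apply]
  split_ifs with h
  · have hj : (p.2 : ℕ) < ℓ q.1 := by omega
    rw [Finset.sum_eq_single (⟨q.1, ⟨p.2, hj⟩⟩ : (a : ι) × Fin (ℓ a))]
    · simp only [if_true, true_and, h]
      ring
    · rintro ⟨c, k⟩ - hne
      by_cases hk : (p.2 : ℕ) = k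
      · have h1 : ¬ (c = q.1 ∧ (k : ℕ) + q.2 + 1 = ℓ q.1) := by
          rintro ⟨hc, -⟩
          apply hne
          subst hc
          congr 1
          exact Fin.ext hk.symm
        simp only
        rw [if_neg h1, mul_zero]
      · simp only
        rw [if_neg hk, zero_mul]
    · intro h1; exact absurd (Finset.mem_univ _) h1
  · refine Finset.sum_eq_zero fun r _ => ?_
    by_cases hk : (p.2 : ℕ) = r.2
    · have h1 : ¬ (r.1 = q.1 ∧ (r.2 : ℕ) + q.2 + 1 = ℓ q.1) := by
        rintro ⟨-, hc⟩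
        exact h (by omega)
      rw [if_neg h1, mul_zero]
    · rw [if_neg hk, zero_mul]

/-- the block index -/
def bi (p : (a : ι) × Fin (ℓ a)) : ℕ ×ₗ ℕ := toLex (ℓ p.1, (p.2 : ℕ))

variable {ℓ S}

theorem tt_triangular (hS : ∀ a b, ℓ a ≠ ℓ b → S a b = 0) : (tt ℓ S).BlockTriangular (bi ℓ) := by
  intro p q hpq
  rw [tt, Matrix.of_apply]
  by_cases h1 : (p.2 : ℕ) = q.2
  · rw [if_pos h1]
    apply hS
    intro h2
    apply lt_irrefl (bi ℓ p)
    have : bi ℓ p = bi ℓ q := by rw [bi, bi, h1, h2]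
    rwa [← this] at hpq
  · rw [if_neg h1]

theorem det_block {i j : ℕ} (hj : j < i) :
    ((tt ℓ S).toSquareBlock (bi ℓ) (toLex (i, j))).det = (S.toSquareBlock ℓ i).det := by
  let e : {p : (a : ι) × Fin (ℓ a) // bi ℓ p = toLex (i, j)} ≃ {a // ℓ a = i} :=
    { toFun := fun p => ⟨p.1.1, by
        have h1 : (ℓ p.1.1, (p.1.2 : ℕ)) = (i, j) := toLex.injective p.2
        exact (Prod.mk.inj h1).1⟩
      invFun := fun a => ⟨⟨a.1, ⟨j, by rw [a.2]; exact hj⟩⟩, congrArg (fun i => toLex (i, j)) a.2⟩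
      left_inv := by
        rintro ⟨⟨a, k⟩, hp⟩
        have h1 : (ℓ a, (k : ℕ)) = (i, j) := toLex.injective hp
        have h2 := (Prod.mk.inj h1).2
        apply Subtype.ext
        simp only
        congr 1
        exact Fin.ext h2.symm
      right_inv := fun a => rfl }
  rw [← Matrix.det_reindex_self e]
  congr 1
  ext a b
  simp only [Matrix.reindex_apply, Matrix.submatrix_apply, Matrix.toSquareBlock_def, Matrix.of_apply, tt, e,
    Equiv.coe_fn_symm_mk, if_true]

theorem char_tt (hS : ∀ a b, ℓ a ≠ ℓ b → S a b = 0)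
    (hu : ∀ i, (S.toSquareBlock ℓ i).det ≠ 0) :
    quadraticChar F (tt ℓ S).det =
      ∏ i ∈ Finset.univ.image ℓ, (if Odd i then quadraticChar F (S.toSquareBlock ℓ i).det else 1) := by
  classical
  rw [(tt_triangular hS).det, map_prod]
  have himg : (Finset.univ.image (bi ℓ)) =
      ((Finset.univ.image ℓ).sigma (fun i => Finset.range i)).map
        ⟨fun p : (_ : ℕ) × ℕ => (toLex (p.1, p.2) : ℕ ×ₗ ℕ), by
          rintro ⟨a, b⟩ ⟨c, d⟩ h
          have h1 : (a, b) = (c, d) := toLex.injective h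
          obtain ⟨rfl, rfl⟩ := Prod.mk.inj h1
          rfl⟩ := by
    ext x
    simp only [Finset.mem_image, Finset.mem_univ, true_and, Finset.mem_map, Finset.mem_sigma, Finset.mem_range,
      Function.Embedding.coeFn_mk]
    constructor
    · rintro ⟨⟨a, k⟩, rfl⟩
      exact ⟨⟨ℓ a, k⟩, ⟨⟨a, rfl⟩, k.2⟩, rfl⟩
    · rintro ⟨⟨i, j⟩, ⟨⟨a, ha⟩, hj⟩, rfl⟩
      simp only at ha hj
      subst ha
      exact ⟨⟨a, ⟨j, hj⟩⟩, rfl⟩
  rw [himg, Finset.prod_map, Finset.prod_sigma]
  refine Finset.prod_congr rfl fun i _ => ?_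
  have h1 : ∀ j ∈ Finset.range i, quadraticChar F ((tt ℓ S).toSquareBlock (bi ℓ)
      ((⟨fun p : (_ : ℕ) × ℕ => (toLex (p.1, p.2) : ℕ ×ₗ ℕ), by
          rintro ⟨a, b⟩ ⟨c, d⟩ h
          have h1 : (a, b) = (c, d) := toLex.injective h
          obtain ⟨rfl, rfl⟩ := Prod.mk.inj h1
          rfl⟩ : ((_ : ℕ) × ℕ) ↪ (ℕ ×ₗ ℕ)) ⟨i, j⟩)).det = quadraticChar F (S.toSquareBlock ℓ i).det := by
    intro j hj
    exact congrArg _ (det_block (Finset.mem_range.1 hj))
  rw [Finset.prod_congr rfl h1, Finset.prod_const, Finset.card_range]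
  have hsq : quadraticChar F (S.toSquareBlock ℓ i).det ^ 2 = 1 := quadraticChar_sq_one (hu i)
  have hpow : ∀ x : ℤ, x ^ 2 = 1 → x ^ i = if Odd i then x else 1 := by
    intro x hx
    rcases Nat.even_or_odd i with ⟨k, hk⟩ | ⟨k, hk⟩
    · rw [if_neg (by rw [Nat.not_odd_iff_even]; exact ⟨k, hk⟩), hk, ← two_mul, pow_mul, hx, one_pow]
    · rw [if_pos ⟨k, hk⟩, hk, pow_succ, pow_mul, hx, one_pow, one_mul]
  exact hpow _ hsq

theorem det_kk_eq {ι' : Type*} [Fintype ι'] [DecidableEq ι'] {ℓ' : ι' → ℕ} (σ : ι ≃ ι') (hσ : ∀ a, ℓ' (σ a) = ℓ a) :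
    (kk ℓ F).det = (kk ℓ' F).det := by
  let e : ((a : ι) × Fin (ℓ a)) ≃ ((a : ι') × Fin (ℓ' a)) :=
    Equiv.sigmaCongr σ (fun a => finCongr (hσ a).symm)
  rw [← Matrix.det_submatrix_equiv_self e (kk ℓ' F)]
  congr 1
  ext p q
  have h1 : (e p).1 = σ p.1 := rfl
  have h1' : (e q).1 = σ q.1 := rfl
  have h2 : ((e p).2 : ℕ) = p.2 := rfl
  have h2' : ((e q).2 : ℕ) = q.2 := rfl
  rw [Matrix.submatrix_apply]
  simp only [kk, Matrix.of_apply, h1, h1', h2, h2', hσ, EmbeddingLike.apply_eq_iff_eq]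

theorem toMatrix_basis {B : V →ₗ[F] V →ₗ[F] F} {N : V →ₗ[F] V}
    (hP : Pair (RingHom.id F) 1 (-1) (fun u v => B u v) N) (hη : (-1 : F) ≠ 0) {x : ι → V}
    (hx : IsNB (fun u v => B u v) N ℓ S x) :
    LinearMap.BilinForm.toMatrix (hx.basis hP hη) B = tt ℓ S * kk ℓ F := by
  rw [tt_mul_kk]
  ext p q
  rw [LinearMap.BilinForm.toMatrix_apply, Matrix.of_apply, hx.basis_apply hP hη, hx.basis_apply hP hη]
  have h1 : B ((N ^ (p.2 : ℕ)) (x p.1)) ((N ^ (q.2 : ℕ)) (x q.1)) =
      (-1) ^ (p.2 : ℕ) * B (x p.1) ((N ^ (p.2 : ℕ)) ((N ^ (q.2 : ℕ)) (x q.1))) := hP.adj_pow _ _ _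
  have h2 : B (x p.1) ((N ^ ((p.2 : ℕ) + q.2)) (x q.1)) =
      if (p.2 : ℕ) + q.2 + 1 = ℓ q.1 then S p.1 q.1 else 0 := hx.form _ _ _
  rw [h1, ← Module.End.mul_apply, ← pow_add, h2, mul_ite, mul_zero]

end Block

/-- the sign of a type -/
def sgn (d : ℕ) (s : ℕ → Bool) : ℤ := ∏ i ∈ Finset.range (d + 1), if s i = true then -1 else 1

theorem sgn_sq (d : ℕ) (s : ℕ → Bool) : sgn d s * sgn d s = 1 := by
  rw [sgn, ← Finset.prod_mul_distrib]
  refine Finset.prod_eq_one fun i _ => ?_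
  split_ifs <;> norm_num

theorem char_eq_ite {a : F} (ha : a ≠ 0) : quadraticChar F a = if IsSquare a then 1 else -1 := by
  split_ifs with h
  · exact (quadraticChar_one_iff_isSquare ha).2 h
  · rcases quadraticChar_dichotomy ha with h1 | h1
    · exact absurd ((quadraticChar_one_iff_isSquare ha).1 h1) h
    · exact h1

theorem qd_nb {W : Type*} [AddCommGroup W] [Module F W] [FiniteDimensional F W] {C : W →ₗ[F] W →ₗ[F] F}
    {M : W →ₗ[F] W} (hη : (-1 : F) ≠ 0) (hQ : Pair (RingHom.id F) 1 (-1) (fun u v => C u v) M) {κ : Type} [Fintype κ]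
    [DecidableEq κ] {l : κ → ℕ} {T : Matrix κ κ F} {y : κ → W} (hy : IsNB (fun u v => C u v) M l T y) {t : ℕ → Bool}
    (ht : ∀ i, (t i = true ↔ (Odd i ∧ ¬ IsSquare (T.toSquareBlock l i).det))) {d : ℕ} (hdW : finrank F W ≤ d) :
    qd C = sgn d t * quadraticChar F (kk l F).det := by
  rw [← qd_eq C (hy.basis hQ hη), toMatrix_basis hQ hη hy, Matrix.det_mul, map_mul]
  congr 1
  rw [char_tt hy.blk (fun i => ((Matrix.isUnit_iff_isUnit_det _).1 (hy.block_isUnit i)).ne_zero), sgn]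
  have hsub : Finset.univ.image l ⊆ Finset.range (d + 1) := by
    intro i hi
    obtain ⟨a, -, rfl⟩ := Finset.mem_image.1 hi
    rw [Finset.mem_range, Nat.lt_succ_iff]
    refine le_trans ?_ hdW
    rw [hy.finrank_eq hQ hη]
    exact Finset.single_le_sum (fun b _ => Nat.zero_le _) (Finset.mem_univ a)
  rw [← Finset.prod_subset hsub]
  · refine Finset.prod_congr rfl fun i _ => ?_
    have h3 := ((Matrix.isUnit_iff_isUnit_det _).1 (hy.block_isUnit i)).ne_zero
    by_cases ho : Odd i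
    · rw [if_pos ho, char_eq_ite h3]
      by_cases hq : IsSquare (T.toSquareBlock l i).det
      · rw [if_pos hq, if_neg (fun h => ((ht i).1 h).2 hq)]
      · rw [if_neg hq, if_pos ((ht i).2 ⟨ho, hq⟩)]
    · rw [if_neg ho, if_neg (fun h => ho ((ht i).1 h).1)]
  · intro i _ hi
    rw [if_neg]
    intro h
    have h3 := ((ht i).1 h).2
    have : IsEmpty {a // l a = i} := ⟨fun a => hi (Finset.mem_image.2 ⟨a.1, Finset.mem_univ _, a.2⟩)⟩
    rw [Matrix.det_isEmpty] at h3
    exact h3 ⟨1, by ring⟩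

/-- **Discriminants of spaces with unipotent isometries of the same Jordan type.** -/
theorem HasU.qd_mul (h2 : (2 : F) ≠ 0) {V' : Type*} [AddCommGroup V'] [Module F V'] [FiniteDimensional F V]
    [FiniteDimensional F V']
    {B : V →ₗ[F] V →ₗ[F] F} {B' : V' →ₗ[F] V' →ₗ[F] F}
    (hsym : ∀ u v, B u v = B v u) (hnd : ∀ u, (∀ v, B u v = 0) → u = 0)
    (hsym' : ∀ u v, B' u v = B' v u) (hnd' : ∀ u, (∀ v, B' u v = 0) → u = 0)
    {g : Module.End F V} {g' : Module.End F V'} (hg : ∀ u v, B (g u) (g v) = B u v)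
    (hg' : ∀ u v, B' (g' u) (g' v) = B' u v) {m : ℕ → ℕ} {s s' : ℕ → Bool} (H : HasU B g m s) (H' : HasU B' g' m s')
    {d : ℕ} (hd : finrank F V ≤ d) (hd' : finrank F V' ≤ d) :
    qd B * qd B' = sgn d s * sgn d s' := by
  obtain ⟨N, hc, ι, _, _, ℓ, S, x, hx, hm, hs⟩ := H
  obtain ⟨N', hc', ι', _, _, ℓ', S', x', hx', hm', hs'⟩ := H'
  have hP := pair B hsym hnd (skew_of_isometry (f := fun u v => B u v) h2
    (fun x x' y => by rw [map_add, LinearMap.add_apply]) (fun x y y' => by rw [map_add]) hg hc)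
  have hP' := pair B' hsym' hnd' (skew_of_isometry (f := fun u v => B' u v) h2
    (fun x x' y => by rw [map_add, LinearMap.add_apply]) (fun x y y' => by rw [map_add]) hg' hc')
  have hη : (-1 : F) ≠ 0 := by simp
  obtain ⟨σ, hσ⟩ := Cfsg.Agent.H152.exists_equiv_of_fiber ℓ ℓ' (fun i => by
    rw [← Fintype.card_subtype, ← Fintype.card_subtype, hm, hm'])
  rw [qd_nb hη hP hx hs hd, qd_nb hη hP' hx' hs' hd', det_kk_eq σ hσ]
  have hne : (kk ℓ' F).det ≠ 0 := by
    have h4 : (LinearMap.BilinForm.toMatrix (hx'.basis hP' hη) B').det ≠ 0 :=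
      (LinearMap.BilinForm.nondegenerate_iff_det_ne_zero _).1 (nondegenerate_of hsym' hnd')
    rw [toMatrix_basis hP' hη hx', Matrix.det_mul] at h4
    exact right_ne_zero_of_mul h4
  have h5 : quadraticChar F (kk ℓ' F).det * quadraticChar F (kk ℓ' F).det = 1 := by
    rw [← sq, quadraticChar_sq_one hne]
  linear_combination (sgn d s * sgn d s') * h5

end Cfsg.Agent.H169.OddUnip
end

-- part: H169/ODat
section
/-!
# Combinatorial data of conjugacy classes of orthogonal groups in odd characteristic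

`ODat F` : for an isometry `g` of a nondegenerate quadratic space over the finite field `F` of odd characteristic:
* `f j` : (product of the irreducible polynomials `≠ X ∓ 1` occurring with exponent exactly `j`), a palindromic
  polynomial without root `±1`;
* `a e j` : number of Jordan blocks of size `j` for the eigenvalue `1` (`e = true`) or `-1` (`e = false`);
* `s e j` : sign (square class of the discriminant of the Gram block) for `j` odd.
`Ok N D` : `D` is a normal form of total dimension `N`.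
`Free D` : no sign occurs.
-/

set_option autoImplicit false

namespace Cfsg.Agent.H169

open Polynomial

/-- the data -/
structure ODat (F : Type*) [Field F] where
  /-- the part without eigenvalues `±1` -/
  f : ℕ → F[X]
  /-- number of Jordan blocks of size `j` for the eigenvalue `1` (`true`), `-1` (`false`) -/
  a : Bool → ℕ → ℕ
  /-- signs -/
  s : Bool → ℕ → Bool

/-- normal forms of dimension `N` -/
structure ODat.Ok {F : Type*} [Field F] (N : ℕ) (D : ODat F) : Prop where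
  monic : ∀ j, (D.f j).Monic
  pal : ∀ j, (D.f j).reverse = D.f j
  one : ∀ j, (D.f j).eval 1 ≠ 0
  neg_one : ∀ j, (D.f j).eval (-1) ≠ 0
  even : ∀ j, Even (D.f j).natDegree
  zero : D.f 0 = 1 ∧ ∀ e, D.a e 0 = 0
  big : ∀ j, N < j → D.f j = 1 ∧ ∀ e, D.a e j = 0
  a_even : ∀ e j, Even j → Even (D.a e j)
  s_imp : ∀ e j, D.s e j = true → Odd j ∧ 0 < D.a e j
  size : ∑ j ∈ Finset.range (N + 1), j * ((D.f j).natDegree + D.a true j + D.a false j) = N

/-- no block of odd size for the eigenvalues `±1` -/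
def ODat.Free {F : Type*} [Field F] (D : ODat F) : Prop := ∀ e j, Odd j → D.a e j = 0

end Cfsg.Agent.H169
end

-- part: H169/OddGlue
section
/-!
# Orthogonal decomposition of an isometry (odd characteristic)
-/

set_option autoImplicit false

namespace Cfsg.Agent.H169.OddGlue

open Module Cfsg.Agent.H169.OddUnip Polynomial

section Basic

variable {F : Type*} [Field F] {V : Type*} [AddCommGroup V] [Module F V] {V' : Type*} [AddCommGroup V'] [Module F V']

/-- restriction of a linear automorphism -/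
noncomputable def res [FiniteDimensional F V] (g : V ≃ₗ[F] V) (U : Submodule F V) (h : ∀ u ∈ U, g u ∈ U) : U ≃ₗ[F] U :=
  LinearEquiv.ofInjectiveEndo (g.toLinearMap.restrict h) (by
    intro a b hab
    have := congrArg Subtype.val hab
    exact Subtype.ext (g.injective this))

theorem coe_res [FiniteDimensional F V] (g : V ≃ₗ[F] V) (U : Submodule F V) (h : ∀ u ∈ U, g u ∈ U) (u : U) :
    ((res g U h u : U) : V) = g u := rfl

/-- restriction of a form -/
def bres (B : V →ₗ[F] V →ₗ[F] F) (U : Submodule F V) : U →ₗ[F] U →ₗ[F] F := B.domRestrict₁₂ U U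

theorem bres_apply (B : V →ₗ[F] V →ₗ[F] F) (U : Submodule F V) (u v : U) : bres B U u v = B u v := rfl

/-- invariant orthogonal decomposition -/
structure OSum (B : V →ₗ[F] V →ₗ[F] F) (g : V ≃ₗ[F] V) (U W : Submodule F V) : Prop where
  compl : IsCompl U W
  orth : ∀ u ∈ U, ∀ w ∈ W, B u w = 0
  invU : ∀ u ∈ U, g u ∈ U
  invW : ∀ w ∈ W, g w ∈ W

variable {B : V →ₗ[F] V →ₗ[F] F} {g : V ≃ₗ[F] V} {U W : Submodule F V}
  {B' : V' →ₗ[F] V' →ₗ[F] F} {g' : V' ≃ₗ[F] V'} {U' W' : Submodule F V'}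

theorem OSum.swap (hs : ∀ u v, B u v = B v u) (h : OSum B g U W) : OSum B g W U where
  compl := h.compl.symm
  orth := fun u hu w hw => by rw [hs]; exact h.orth w hw u hu
  invU := h.invW
  invW := h.invU

theorem OSum.exists_add (h : OSum B g U W) (v : V) : ∃ u ∈ U, ∃ w ∈ W, u + w = v := by
  have h1 : v ∈ U ⊔ W := by rw [h.compl.sup_eq_top]; exact Submodule.mem_top
  exact Submodule.mem_sup.1 h1

theorem OSum.nondeg (h : OSum B g U W) (hnd : ∀ u, (∀ v, B u v = 0) → u = 0) (u : U)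
    (hu : ∀ v, bres B U u v = 0) : u = 0 := by
  apply Subtype.ext
  apply hnd
  intro v
  obtain ⟨a, ha, b, hb, rfl⟩ := h.exists_add v
  rw [map_add, h.orth _ u.2 _ hb, add_zero]
  exact hu ⟨a, ha⟩

theorem OSum.finrank [FiniteDimensional F V] (h : OSum B g U W) :
    finrank F U + finrank F W = finrank F V := Submodule.finrank_add_eq_of_isCompl h.compl

/-- gluing isometries -/
theorem OSum.glue [FiniteDimensional F V] [FiniteDimensional F V'] (hs : ∀ u v, B u v = B v u)
    (hs' : ∀ u v, B' u v = B' v u) (h : OSum B g U W) (h' : OSum B' g' U' W')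
    (e₁ : U ≃ₗ[F] U') (he₁ : ∀ u v, bres B' U' (e₁ u) (e₁ v) = bres B U u v)
    (hg₁ : ∀ u, e₁ (res g U h.invU u) = res g' U' h'.invU (e₁ u))
    (e₂ : W ≃ₗ[F] W') (he₂ : ∀ u v, bres B' W' (e₂ u) (e₂ v) = bres B W u v)
    (hg₂ : ∀ u, e₂ (res g W h.invW u) = res g' W' h'.invW (e₂ u)) :
    ∃ e : V ≃ₗ[F] V', (∀ u v, B' (e u) (e v) = B u v) ∧ ∀ v, e (g v) = g' (e v) := by
  let e : V ≃ₗ[F] V' := (Submodule.prodEquivOfIsCompl U W h.compl).symm ≪≫ₗ (e₁.prodCongr e₂) ≪≫ₗ
    Submodule.prodEquivOfIsCompl U' W' h'.compl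
  have he : ∀ (u : U) (w : W), e ((u : V) + w) = (e₁ u : V') + e₂ w := by
    intro u w
    have h1 : (Submodule.prodEquivOfIsCompl U W h.compl).symm ((u : V) + w) = (u, w) := by
      rw [LinearEquiv.symm_apply_eq]; rfl
    change Submodule.prodEquivOfIsCompl U' W' h'.compl ((e₁.prodCongr e₂)
      ((Submodule.prodEquivOfIsCompl U W h.compl).symm ((u : V) + w))) = _
    rw [h1]; rfl
  refine ⟨e, ?_, ?_⟩
  · intro x y
    obtain ⟨a, ha, b, hb, rfl⟩ := h.exists_add x
    obtain ⟨c, hc, d, hd, rfl⟩ := h.exists_add y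
    have h1 := he ⟨a, ha⟩ ⟨b, hb⟩
    have h2 := he ⟨c, hc⟩ ⟨d, hd⟩
    simp only at h1 h2
    rw [h1, h2]
    simp only [map_add, LinearMap.add_apply]
    have h3 := he₁ ⟨a, ha⟩ ⟨c, hc⟩
    have h4 := he₂ ⟨b, hb⟩ ⟨d, hd⟩
    simp only [bres_apply] at h3 h4
    rw [h3, h4, h.orth a ha d hd, hs b c, h.orth c hc b hb, h'.orth _ (e₁ ⟨a, ha⟩).2 _ (e₂ ⟨d, hd⟩).2,
      hs' (e₂ ⟨b, hb⟩ : V') (e₁ ⟨c, hc⟩ : V'), h'.orth _ (e₁ ⟨c, hc⟩).2 _ (e₂ ⟨b, hb⟩).2]
  · intro x
    obtain ⟨a, ha, b, hb, rfl⟩ := h.exists_add x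
    have h1 := he ⟨a, ha⟩ ⟨b, hb⟩
    have h2 := he ⟨g a, h.invU a ha⟩ ⟨g b, h.invW b hb⟩
    simp only at h1 h2
    rw [map_add, h1, h2, map_add]
    have h3 := congrArg Subtype.val (hg₁ ⟨a, ha⟩)
    have h4 := congrArg Subtype.val (hg₂ ⟨b, hb⟩)
    rw [coe_res] at h3 h4
    rw [← h3, ← h4]
    rfl

/-- the eigenvalue `c = ± 1` splits off orthogonally -/
theorem exists_osum [FiniteDimensional F V] (B : V →ₗ[F] V →ₗ[F] F) (hs : ∀ u v, B u v = B v u) (g : V ≃ₗ[F] V)
    (hg : ∀ u v, B (g u) (g v) = B u v) (c : F) (hc : c * c = 1) :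
    ∃ U W : Submodule F V, OSum B g U W ∧ (∃ p : ℕ, ∀ u ∈ U, ((g.toLinearMap - c • (1 : Module.End F V)) ^ p) u = 0) ∧
      ∀ w ∈ W, g w = c • w → w = 0 := by
  let T : Module.End F V := g.toLinearMap - c • (1 : Module.End F V)
  obtain ⟨n, h0, hn⟩ := ((Filter.eventually_ge_atTop 1).and T.eventually_isCompl_ker_pow_range_pow).exists
  have hT : ∀ v, T v = g v - c • v := fun v => rfl
  have hcomm : Commute g.toLinearMap T := by
    apply Commute.sub_right (Commute.refl _)
    exact (Commute.one_right _).smul_right c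
  have hcomm' : ∀ (p : ℕ) (v : V), (T ^ p) (g v) = g ((T ^ p) v) := by
    intro p v
    have h1 := congrArg (fun S : Module.End F V => S v) ((hcomm.pow_right p).eq)
    exact h1.symm
  have hadj : ∀ (p : ℕ) (x y : V), B ((T ^ p) x) ((g.toLinearMap ^ p : Module.End F V) y) = (-c) ^ p * B x ((T ^ p) y) := by
    intro p
    induction p with
    | zero => intro x y; simp
    | succ p ih =>
      intro x y
      have h1 : ∀ a b : V, B (T a) (g b) = -c * B a (T b) := by
        intro a b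
        rw [hT, hT, map_sub, LinearMap.sub_apply, map_smul, LinearMap.smul_apply, hg, map_sub, map_smul, smul_eq_mul,
          smul_eq_mul]
        linear_combination (- B a b) * hc
      have e1 : (T ^ (p + 1)) x = T ((T ^ p) x) := by rw [pow_succ', Module.End.mul_apply]
      have e2 : (g.toLinearMap ^ (p + 1) : Module.End F V) y = g ((g.toLinearMap ^ p : Module.End F V) y) := by
        rw [pow_succ', Module.End.mul_apply]; rfl
      have e3 : (T ^ (p + 1)) y = (T ^ p) (T y) := by rw [pow_succ, Module.End.mul_apply]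
      have h2 : T ((g.toLinearMap ^ p : Module.End F V) y) = (g.toLinearMap ^ p : Module.End F V) (T y) := by
        have h3 := congrArg (fun S : Module.End F V => S y) ((hcomm.pow_left p).eq)
        exact h3.symm
      rw [e1, e2, e3, h1, h2, ih, pow_succ]
      ring
  have hinv : ∀ u ∈ LinearMap.ker (T ^ n), g u ∈ LinearMap.ker (T ^ n) := by
    intro u hu
    rw [LinearMap.mem_ker] at hu ⊢
    rw [hcomm', hu, map_zero]
  have hsurj : ∀ p : ℕ, ∀ u ∈ LinearMap.ker (T ^ n), ∃ v ∈ LinearMap.ker (T ^ n),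
      (g.toLinearMap ^ p : Module.End F V) v = u := by
    intro p
    induction p with
    | zero => intro u hu; exact ⟨u, hu, by simp⟩
    | succ p ih =>
      intro u hu
      obtain ⟨w, hw⟩ := (res g (LinearMap.ker (T ^ n)) hinv).surjective ⟨u, hu⟩
      obtain ⟨v, hv, hvw⟩ := ih w w.2
      refine ⟨v, hv, ?_⟩
      rw [pow_succ', Module.End.mul_apply, hvw]
      exact congrArg Subtype.val hw
  refine ⟨LinearMap.ker (T ^ n), LinearMap.range (T ^ n), ⟨hn, ?_, hinv, ?_⟩, ⟨n, fun u hu => hu⟩, ?_⟩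
  · rintro u hu _ ⟨x, rfl⟩
    obtain ⟨v, hv, rfl⟩ := hsurj n u hu
    rw [hs, hadj, LinearMap.mem_ker.1 hv, map_zero, mul_zero]
  · rintro _ ⟨v, rfl⟩
    exact ⟨g v, hcomm' n v⟩
  · intro w hw hgw
    have h1 : T w = 0 := by rw [hT, hgw, sub_self]
    have h2 : w ∈ LinearMap.ker (T ^ n) := by
      rw [LinearMap.mem_ker, show n = (n - 1) + 1 by omega, pow_succ, Module.End.mul_apply, h1, map_zero]
    exact Submodule.disjoint_def.1 hn.disjoint w h2 hw

end Basic

section Disc

variable {F : Type*} [Field F] [Fintype F] [DecidableEq F] {V : Type*} [AddCommGroup V] [Module F V] {V' : Type*}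
  [AddCommGroup V'] [Module F V'] [FiniteDimensional F V] [FiniteDimensional F V']

variable {B : V →ₗ[F] V →ₗ[F] F} {g : V ≃ₗ[F] V} {U W : Submodule F V}
  {B' : V' →ₗ[F] V' →ₗ[F] F} {g' : V' ≃ₗ[F] V'} {U' W' : Submodule F V'}

theorem qd_isometry (e : V ≃ₗ[F] V') (he : ∀ u v, B' (e u) (e v) = B u v) : qd B = qd B' := by
  rw [← qd_eq B' ((Module.finBasis F V).map e), qd]
  congr 2
  ext i j
  rw [LinearMap.BilinForm.toMatrix_apply, LinearMap.BilinForm.toMatrix_apply, Basis.map_apply, Basis.map_apply, he]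

theorem OSum.qd (hs : ∀ u v, B u v = B v u) (h : OSum B g U W) :
    OddUnip.qd B = OddUnip.qd (bres B U) * OddUnip.qd (bres B W) := by
  let b : Basis _ F V := ((Module.finBasis F U).prod (Module.finBasis F W)).map
    (Submodule.prodEquivOfIsCompl U W h.compl)
  have h1 : LinearMap.BilinForm.toMatrix b B = Matrix.fromBlocks
      (LinearMap.BilinForm.toMatrix (Module.finBasis F U) (bres B U)) 0 0
      (LinearMap.BilinForm.toMatrix (Module.finBasis F W) (bres B W)) := by
    have hl : ∀ i, b (Sum.inl i) = (Module.finBasis F U i : V) := by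
      intro i
      simp [b]
    have hr : ∀ i, b (Sum.inr i) = (Module.finBasis F W i : V) := by
      intro i
      simp [b]
    ext i j
    rcases i with i | i <;> rcases j with j | j
    · rw [LinearMap.BilinForm.toMatrix_apply, Matrix.fromBlocks_apply₁₁, LinearMap.BilinForm.toMatrix_apply, hl, hl]
      rfl
    · rw [LinearMap.BilinForm.toMatrix_apply, Matrix.fromBlocks_apply₁₂, hl, hr, h.orth _ (Submodule.coe_mem _) _
        (Submodule.coe_mem _)]
      rfl
    · rw [LinearMap.BilinForm.toMatrix_apply, Matrix.fromBlocks_apply₂₁, hl, hr, hs, h.orth _ (Submodule.coe_mem _) _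
        (Submodule.coe_mem _)]
      rfl
    · rw [LinearMap.BilinForm.toMatrix_apply, Matrix.fromBlocks_apply₂₂, LinearMap.BilinForm.toMatrix_apply, hr, hr]
      rfl
  rw [← qd_eq B b, h1, Matrix.det_fromBlocks_zero₂₁, map_mul]
  rfl

end Disc

section Types

open Cfsg.Agent.H171 (typ)

variable {F : Type*} [Field F] {V : Type*} [AddCommGroup V] [Module F V] [FiniteDimensional F V]
  {V' : Type*} [AddCommGroup V'] [Module F V'] [FiniteDimensional F V']

/-- the type, no eigenvalue `1` -/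
def HasM (B : V →ₗ[F] V →ₗ[F] F) (g : V ≃ₗ[F] V) (m : ℕ → ℕ) (s : ℕ → Bool) (f : ℕ → F[X]) : Prop :=
  ∃ (U W : Submodule F V) (h : OSum B g U W),
    HasU (bres B U) (-(res g U h.invU).toLinearMap) m s ∧ (∀ w ∈ W, g (g w) = w → w = 0) ∧
      ∀ j, typ (res g W h.invW).toLinearMap j = f j

/-- the type of an isometry -/
def HasO (B : V →ₗ[F] V →ₗ[F] F) (g : V ≃ₗ[F] V) (D : ODat F) : Prop :=
  ∃ (U W : Submodule F V) (h : OSum B g U W),
    HasU (bres B U) (res g U h.invU).toLinearMap (D.a true) (D.s true) ∧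
      HasM (bres B W) (res g W h.invW) (D.a false) (D.s false) D.f

variable {B : V →ₗ[F] V →ₗ[F] F} {g : V ≃ₗ[F] V} {B' : V' →ₗ[F] V' →ₗ[F] F} {g' : V' ≃ₗ[F] V'}

theorem HasM.exists_isometry [Finite F] (h2 : (2 : F) ≠ 0) (hsym : ∀ u v, B u v = B v u)
    (hnd : ∀ u, (∀ v, B u v = 0) → u = 0) (hsym' : ∀ u v, B' u v = B' v u)
    (hnd' : ∀ u, (∀ v, B' u v = 0) → u = 0) (hg : ∀ u v, B (g u) (g v) = B u v)
    (hg' : ∀ u v, B' (g' u) (g' v) = B' u v) {m : ℕ → ℕ} {s : ℕ → Bool} {f : ℕ → F[X]}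
    (H : HasM B g m s f) (H' : HasM B' g' m s f) :
    ∃ e : V ≃ₗ[F] V', (∀ u v, B' (e u) (e v) = B u v) ∧ ∀ v, e (g v) = g' (e v) := by
  obtain ⟨U, W, h, hU, hW, hf⟩ := H
  obtain ⟨U', W', h', hU', hW', hf'⟩ := H'
  obtain ⟨e₁, he₁, hg₁⟩ := hU.exists_isometry h2 (B := bres B U) (B' := bres B' U')
    (fun u v => hsym u v) (h.nondeg hnd) (fun u v => hsym' u v) (h'.nondeg hnd')
    (fun u v => by
      rw [LinearMap.neg_apply, LinearMap.neg_apply, map_neg, map_neg, LinearMap.neg_apply, neg_neg]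
      exact hg u v)
    (fun u v => by
      rw [LinearMap.neg_apply, LinearMap.neg_apply, map_neg, map_neg, LinearMap.neg_apply, neg_neg]
      exact hg' u v) hU'
  obtain ⟨x, hx⟩ := Cfsg.Agent.H171.exists_equiv_of_typ_eq (T := (res g W h.invW).toLinearMap)
    (U := (res g' W' h'.invW).toLinearMap) (fun j => by rw [hf, hf'])
  obtain ⟨e₂, hg₂, he₂⟩ := Cfsg.Agent.H193.InvForm.exists_isometry (bres B W) (bres B' W') 1
    ((h.swap hsym).nondeg hnd) ((h'.swap hsym').nondeg hnd') (fun u v => by rw [one_mul]; exact hsym v u)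
    (fun u v => by rw [one_mul]; exact hsym' v u) (res g W h.invW) (res g' W' h'.invW) (fun u v => hg u v)
    (fun u v => hg' u v) (fun v hv => Subtype.ext (hW v v.2 (congrArg Subtype.val hv))) x hx
  refine h.glue hsym hsym' h' e₁ he₁ (fun u => ?_) e₂ he₂ hg₂
  have h3 := hg₁ u
  rw [LinearMap.neg_apply, LinearMap.neg_apply, map_neg, neg_inj] at h3
  exact h3

/-- **Isometries of the same type are equivalent.** -/
theorem HasO.exists_isometry [Finite F] (h2 : (2 : F) ≠ 0) (hsym : ∀ u v, B u v = B v u)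
    (hnd : ∀ u, (∀ v, B u v = 0) → u = 0) (hsym' : ∀ u v, B' u v = B' v u)
    (hnd' : ∀ u, (∀ v, B' u v = 0) → u = 0) (hg : ∀ u v, B (g u) (g v) = B u v)
    (hg' : ∀ u v, B' (g' u) (g' v) = B' u v) {D : ODat F} (H : HasO B g D) (H' : HasO B' g' D) :
    ∃ e : V ≃ₗ[F] V', (∀ u v, B' (e u) (e v) = B u v) ∧ ∀ v, e (g v) = g' (e v) := by
  obtain ⟨U, W, h, hU, hW⟩ := H
  obtain ⟨U', W', h', hU', hW'⟩ := H'
  obtain ⟨e₁, he₁, hg₁⟩ := hU.exists_isometry h2 (B := bres B U) (B' := bres B' U')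
    (fun u v => hsym u v) (h.nondeg hnd) (fun u v => hsym' u v) (h'.nondeg hnd')
    (fun u v => hg u v) (fun u v => hg' u v) hU'
  obtain ⟨e₂, he₂, hg₂⟩ := hW.exists_isometry h2 (B := bres B W) (B' := bres B' W') (fun u v => hsym u v) ((h.swap hsym).nondeg hnd)
    (fun u v => hsym' u v) ((h'.swap hsym').nondeg hnd') (fun u v => hg u v) (fun u v => hg' u v) hW'
  exact h.glue hsym hsym' h' e₁ he₁ hg₁ e₂ he₂ hg₂

section Disc

variable [Fintype F] [DecidableEq F]

theorem HasM.qd_mul (h2 : (2 : F) ≠ 0) (hsym : ∀ u v, B u v = B v u)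
    (hnd : ∀ u, (∀ v, B u v = 0) → u = 0) (hsym' : ∀ u v, B' u v = B' v u)
    (hnd' : ∀ u, (∀ v, B' u v = 0) → u = 0) (hg : ∀ u v, B (g u) (g v) = B u v)
    (hg' : ∀ u v, B' (g' u) (g' v) = B' u v) {m : ℕ → ℕ} {s s' : ℕ → Bool} {f : ℕ → F[X]}
    (H : HasM B g m s f) (H' : HasM B' g' m s' f) {d : ℕ} (hd : finrank F V ≤ d) (hd' : finrank F V' ≤ d) :
    OddUnip.qd B * OddUnip.qd B' = sgn d s * sgn d s' := by
  obtain ⟨U, W, h, hU, hW, hf⟩ := H
  obtain ⟨U', W', h', hU', hW', hf'⟩ := H'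
  have h3 := h.finrank
  have h3' := h'.finrank
  have h4 := hU.qd_mul h2 (B := bres B U) (B' := bres B' U')
    (fun u v => hsym u v) (h.nondeg hnd) (fun u v => hsym' u v) (h'.nondeg hnd')
    (fun u v => by
      rw [LinearMap.neg_apply, LinearMap.neg_apply, map_neg, map_neg, LinearMap.neg_apply, neg_neg]
      exact hg u v)
    (fun u v => by
      rw [LinearMap.neg_apply, LinearMap.neg_apply, map_neg, map_neg, LinearMap.neg_apply, neg_neg]
      exact hg' u v) hU' (d := d) (by omega) (by omega)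
  obtain ⟨x, hx⟩ := Cfsg.Agent.H171.exists_equiv_of_typ_eq (T := (res g W h.invW).toLinearMap)
    (U := (res g' W' h'.invW).toLinearMap) (fun j => by rw [hf, hf'])
  obtain ⟨e₂, hg₂, he₂⟩ := Cfsg.Agent.H193.InvForm.exists_isometry (bres B W) (bres B' W') 1
    ((h.swap hsym).nondeg hnd) ((h'.swap hsym').nondeg hnd') (fun u v => by rw [one_mul]; exact hsym v u)
    (fun u v => by rw [one_mul]; exact hsym' v u) (res g W h.invW) (res g' W' h'.invW) (fun u v => hg u v)
    (fun u v => hg' u v) (fun v hv => Subtype.ext (hW v v.2 (congrArg Subtype.val hv))) x hx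
  rw [h.qd hsym, h'.qd hsym', qd_isometry e₂ he₂, ← h4]
  have h5 : OddUnip.qd (bres B' W') * OddUnip.qd (bres B' W') = 1 := by
    rw [← sq, OddUnip.qd]
    exact quadraticChar_sq_one ((LinearMap.BilinForm.nondegenerate_iff_det_ne_zero _).1
      (nondegenerate_of (fun u v => hsym' u v) ((h'.swap hsym').nondeg hnd')))
  linear_combination (OddUnip.qd (bres B U) * OddUnip.qd (bres B' U')) * h5

/-- **Discriminants of spaces with isometries of the same type up to signs.** -/
theorem HasO.qd_mul (h2 : (2 : F) ≠ 0) (hsym : ∀ u v, B u v = B v u)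
    (hnd : ∀ u, (∀ v, B u v = 0) → u = 0) (hsym' : ∀ u v, B' u v = B' v u)
    (hnd' : ∀ u, (∀ v, B' u v = 0) → u = 0) (hg : ∀ u v, B (g u) (g v) = B u v)
    (hg' : ∀ u v, B' (g' u) (g' v) = B' u v) {D D' : ODat F}
    (H : HasO B g D) (H' : HasO B' g' D') (ha : D.a = D'.a) (hf : D.f = D'.f) {d : ℕ} (hd : finrank F V ≤ d)
    (hd' : finrank F V' ≤ d) :
    OddUnip.qd B * OddUnip.qd B' =
      (sgn d (D.s true) * sgn d (D'.s true)) * (sgn d (D.s false) * sgn d (D'.s false)) := by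
  obtain ⟨U, W, h, hU, hW⟩ := H
  obtain ⟨U', W', h', hU', hW'⟩ := H'
  rw [← ha] at hU' hW'
  rw [← hf] at hW'
  have h3 := h.finrank
  have h3' := h'.finrank
  have h4 := hU.qd_mul h2 (B := bres B U) (B' := bres B' U')
    (fun u v => hsym u v) (h.nondeg hnd) (fun u v => hsym' u v) (h'.nondeg hnd')
    (fun u v => hg u v) (fun u v => hg' u v) hU' (d := d) (by omega) (by omega)
  have h5 := hW.qd_mul h2 (B := bres B W) (B' := bres B' W') (fun u v => hsym u v) ((h.swap hsym).nondeg hnd)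
    (fun u v => hsym' u v) ((h'.swap hsym').nondeg hnd') (fun u v => hg u v) (fun u v => hg' u v) hW' (d := d)
    (by omega) (by omega)
  rw [h.qd hsym, h'.qd hsym', ← h4, ← h5]
  ring

end Disc

end Types

section Exists

open Cfsg.Agent.H171 (typ typ_pal typ_even typ_eval_ne typ_zero typ_big sum_typ)

universe u

variable {F : Type*} [Field F] {V : Type u} [AddCommGroup V] [Module F V] [FiniteDimensional F V]
  {B : V →ₗ[F] V →ₗ[F] F} {g : V ≃ₗ[F] V}

theorem coe_pow (U : Submodule F V) (h : ∀ u ∈ U, g u ∈ U) (c : F) (p : ℕ) (u : U) :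
    (((((res g U h).toLinearMap - c • (1 : Module.End F U)) ^ p) u : U) : V) =
      ((g.toLinearMap - c • (1 : Module.End F V)) ^ p) u := by
  induction p generalizing u with
  | zero => simp
  | succ p ih =>
    rw [pow_succ, pow_succ, Module.End.mul_apply, Module.End.mul_apply, ih]
    rfl

theorem coe_pow_neg (U : Submodule F V) (h : ∀ u ∈ U, g u ∈ U) (p : ℕ) (u : U) :
    (((((-(res g U h).toLinearMap - 1 : Module.End F U)) ^ p) u : U) : V) =
      ((-1 : F) ^ p) • ((g.toLinearMap - (-1 : F) • (1 : Module.End F V)) ^ p) u := by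
  induction p generalizing u with
  | zero => simp
  | succ p ih =>
    rw [pow_succ, pow_succ (g.toLinearMap - (-1 : F) • (1 : Module.End F V)), Module.End.mul_apply,
      Module.End.mul_apply, ih, pow_succ, mul_smul]
    congr 1
    rw [← map_smul]
    congr 1
    change -(g u : V) - u = (-1 : F) • (g u - (-1 : F) • (u : V))
    rw [neg_one_smul, neg_one_smul]
    abel

theorem sum_extend {m : ℕ → ℕ} {d n : ℕ} (hm : ∀ i, d < i → m i = 0) (hn : d ≤ n)
    (h : ∑ i ∈ Finset.range (d + 1), i * m i = d) : ∑ i ∈ Finset.range (n + 1), i * m i = d := by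
  rw [← Finset.sum_subset (Finset.range_mono (Nat.succ_le_succ hn)), h]
  intro i _ hi
  rw [hm i (by rw [Finset.mem_range] at hi; omega), mul_zero]

theorem exists_hasM [Finite F] (h2 : (2 : F) ≠ 0) (hsym : ∀ u v, B u v = B v u)
    (hnd : ∀ u, (∀ v, B u v = 0) → u = 0) (hg : ∀ u v, B (g u) (g v) = B u v) (h1 : ∀ v, g v = v → v = 0) :
    ∃ (m : ℕ → ℕ) (s : ℕ → Bool) (f : ℕ → F[X]), HasM B g m s f ∧ m 0 = 0 ∧ (∀ i, Even i → Even (m i)) ∧
      (∀ i, s i = true → Odd i ∧ 0 < m i) ∧ (∀ i, finrank F V < i → m i = 0 ∧ f i = 1) ∧ f 0 = 1 ∧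
      (∀ j, (f j).Monic ∧ (f j).reverse = f j ∧ (f j).eval 1 ≠ 0 ∧ (f j).eval (-1) ≠ 0 ∧ Even (f j).natDegree) ∧
      ∀ n, finrank F V ≤ n → ∑ j ∈ Finset.range (n + 1), j * ((f j).natDegree + m j) = finrank F V := by
  obtain ⟨U, W, h, ⟨p, hp⟩, hW⟩ := exists_osum B hsym g hg (-1) (by ring)
  have hU : ∀ u v, bres B U ((-(res g U h.invU).toLinearMap) u) ((-(res g U h.invU).toLinearMap) v) = bres B U u v := by
    intro u v
    rw [LinearMap.neg_apply, LinearMap.neg_apply, map_neg, map_neg, LinearMap.neg_apply, neg_neg]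
    exact hg u v
  have hW1 : ∀ w : W, res g W h.invW w = w → w = 0 := fun w hw => Subtype.ext (h1 w (congrArg Subtype.val hw))
  have hW2 : ∀ w : W, res g W h.invW w = -w → w = 0 := fun w hw =>
    Subtype.ext (hW w w.2 (by rw [neg_one_smul]; exact congrArg Subtype.val hw))
  obtain ⟨m, s, H, h3, h4, h5, h6, h7⟩ := exists_hasU h2 (bres B U) (fun u v => hsym u v) (h.nondeg hnd)
    (-(res g U h.invU).toLinearMap) hU (p := p) (by
      apply LinearMap.ext
      intro u
      apply Subtype.ext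
      rw [coe_pow_neg, hp u u.2, smul_zero]
      rfl)
  have hr := h.finrank
  refine ⟨m, s, fun j => typ (res g W h.invW).toLinearMap j, ⟨U, W, h, H, ?_, fun j => rfl⟩, h3, h4, h5, ?_,
    typ_zero _, ?_, ?_⟩
  · intro w hw hgg
    have h8 : g w - w = 0 := by
      apply hW _ (W.sub_mem (h.invW w hw) hw)
      rw [map_sub, hgg, neg_one_smul]
      abel
    exact h1 w (sub_eq_zero.1 h8)
  · intro i hi
    exact ⟨h6 i (by omega), typ_big _ (by omega)⟩
  · intro j
    have h8 := typ_pal (bres B W) ((h.swap hsym).nondeg hnd) (res g W h.invW) (fun u v => hg u v) hW1 j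
    refine ⟨h8.1, h8.2, ?_, ?_, ?_⟩
    · exact typ_eval_ne (fun v hv => hW1 v (by rw [one_smul] at hv; exact hv)) j
    · exact typ_eval_ne (fun v hv => hW2 v (by rw [neg_one_smul] at hv; exact hv)) j
    · exact typ_even (bres B W) ((h.swap hsym).nondeg hnd) (res g W h.invW) (fun u v => hg u v) hW1 hW2 j
  · intro n hn
    have h8 := sum_extend (n := n) h6 (by omega) h7
    have h9 := sum_typ (res g W h.invW).toLinearMap (n := n) (by omega)
    simp only [mul_add, Finset.sum_add_distrib]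
    rw [h8, h9]
    omega

/-- **Every isometry has a type.** -/
theorem exists_hasO [Finite F] (h2 : (2 : F) ≠ 0) (hsym : ∀ u v, B u v = B v u)
    (hnd : ∀ u, (∀ v, B u v = 0) → u = 0) (hg : ∀ u v, B (g u) (g v) = B u v) {N : ℕ} (hN : finrank F V = N) :
    ∃ D : ODat F, D.Ok N ∧ HasO B g D := by
  obtain ⟨U, W, h, ⟨p, hp⟩, hW⟩ := exists_osum B hsym g hg 1 (by ring)
  have hr := h.finrank
  obtain ⟨m, s, H, h3, h4, h5, h6, h7⟩ := exists_hasU h2 (bres B U) (fun u v => hsym u v) (h.nondeg hnd)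
    (res g U h.invU).toLinearMap (fun u v => hg u v) (p := p) (by
      have h8 : ((res g U h.invU).toLinearMap - 1 : Module.End F U) =
          ((res g U h.invU).toLinearMap - (1 : F) • (1 : Module.End F U)) := by
        rw [one_smul]
      rw [h8]
      ext u
      rw [coe_pow, hp u u.2]
      rfl)
  obtain ⟨m', s', f, H', k1, k2, k3, k4, k5, k6, k7⟩ := exists_hasM h2 (B := bres B W) (g := res g W h.invW)
    (fun u v => hsym u v) ((h.swap hsym).nondeg hnd) (fun u v => hg u v)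
    (fun w hw => Subtype.ext (hW w w.2 (by rw [one_smul]; exact congrArg Subtype.val hw)))
  refine ⟨⟨f, fun e => if e = true then m else m', fun e => if e = true then s else s'⟩,
    ⟨fun j => (k6 j).1, fun j => (k6 j).2.1, fun j => (k6 j).2.2.1, fun j => (k6 j).2.2.2.1, fun j => (k6 j).2.2.2.2,
    ⟨k5, ?_⟩, ?_, ?_, ?_, ?_⟩, ?_⟩
  · rintro (_ | _)
    · exact k1
    · exact h3
  · intro j hj
    refine ⟨(k4 j (by omega)).2, ?_⟩
    rintro (_ | _)
    · exact (k4 j (by omega)).1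
    · exact h6 j (by omega)
  · rintro (_ | _) j hj
    · exact k2 j hj
    · exact h4 j hj
  · rintro (_ | _) j hj
    · exact k3 j hj
    · exact h5 j hj
  · have h8 := sum_extend (n := N) h6 (by omega) h7
    have h9 := k7 N (by omega)
    have h10 : ∀ j, j * ((f j).natDegree + m j + m' j) = j * ((f j).natDegree + m' j) + j * m j := by
      intro j; ring
    change ∑ j ∈ Finset.range (N + 1), j * ((f j).natDegree + m j + m' j) = N
    simp only [h10, Finset.sum_add_distrib]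
    rw [h8, h9]
    omega
  · exact ⟨U, W, h, H, H'⟩

end Exists

end Cfsg.Agent.H169.OddGlue
end
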