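import Mathlib
import Cfsg.Prelude.Def_Classical
import Cfsg.Agent.H169.OddGlue
import Cfsg.Agent.H193.OrthConj
import Cfsg.Agent.H173.NumMain
set_option linter.all false

-- part: H169/OddCount
section
/-!
# Counting conjugacy classes of orthogonal groups in odd characteristic

`two_card_le` : `2 k(O(Q)) ≤ #{D Ok} + #{D Ok, Free}`.
-/

set_option autoImplicit false

namespace Cfsg.Agent.H169.OddCount

open Module Cfsg.Agent.H169.OddUnip Cfsg.Agent.H169.OddGlue Matrix

section Flip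

variable {F : Type*} [Field F]

theorem ext' {D D' : ODat F} (hf : D.f = D'.f) (ha : D.a = D'.a) (hs : D.s = D'.s) : D = D' := by
  cases D; cases D'
  simp only at hf ha hs
  rw [hf, ha, hs]

open Classical in
/-- the chosen odd block -/
noncomputable def pos (a : Bool → ℕ → ℕ) : Bool × ℕ :=
  if h : ∃ p : Bool × ℕ, Odd p.2 ∧ 0 < a p.1 p.2 then h.choose else (true, 1)

theorem pos_spec {D : ODat F} (h : ¬ D.Free) : Odd (pos D.a).2 ∧ 0 < D.a (pos D.a).1 (pos D.a).2 := by
  have h1 : ∃ p : Bool × ℕ, Odd p.2 ∧ 0 < D.a p.1 p.2 := by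
    unfold ODat.Free at h
    push Not at h
    obtain ⟨e, j, hj, hne⟩ := h
    exact ⟨(e, j), hj, Nat.pos_of_ne_zero hne⟩
  rw [pos, dif_pos h1]
  exact h1.choose_spec

/-- change one sign -/
noncomputable def flip (D : ODat F) : ODat F :=
  { D with s := fun e j => if (e, j) = pos D.a then !(D.s e j) else D.s e j }

theorem flip_flip (D : ODat F) : flip (flip D) = D := by
  refine ext' (D := flip (flip D)) (D' := D) rfl rfl ?_
  funext e j
  change (if (e, j) = pos D.a then !(if (e, j) = pos D.a then !(D.s e j) else D.s e j)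
    else (if (e, j) = pos D.a then !(D.s e j) else D.s e j)) = D.s e j
  split_ifs with h
  · rw [Bool.not_not]
  · rfl

theorem flip_ok {N : ℕ} {D : ODat F} (h : D.Ok N) (hf : ¬ D.Free) : (flip D).Ok N where
  monic := h.monic
  pal := h.pal
  one := h.one
  neg_one := h.neg_one
  even := h.even
  zero := h.zero
  big := h.big
  a_even := h.a_even
  s_imp := by
    intro e j hs
    by_cases hp : (e, j) = pos D.a
    · have h1 := pos_spec hf
      rw [← hp] at h1
      exact h1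
    · apply h.s_imp e j
      change (if (e, j) = pos D.a then !(D.s e j) else D.s e j) = true at hs
      rwa [if_neg hp] at hs
  size := h.size

theorem flip_free {D : ODat F} : (flip D).Free ↔ D.Free := Iff.rfl

theorem sgn_mul_sgn_eq {d : ℕ} {s s' : ℕ → Bool} (h : ∀ j, s' j = s j) : sgn d s * sgn d s' = 1 := by
  have : s' = s := funext h
  rw [this, sgn_sq]

theorem sgn_mul_sgn_ne {d : ℕ} {s s' : ℕ → Bool} {k : ℕ} (hk : k ≤ d) (h : ∀ j, j ≠ k → s' j = s j)
    (hk' : s' k = !(s k)) : sgn d s * sgn d s' = -1 := by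
  rw [sgn, sgn, ← Finset.prod_mul_distrib, Finset.prod_eq_single k]
  · rw [hk']
    cases s k <;> simp
  · intro j _ hj
    rw [h j hj]
    split_ifs <;> norm_num
  · intro hn
    exact absurd (Finset.mem_range.2 (by omega)) hn

theorem sgn_flip {N : ℕ} {D : ODat F} (h : D.Ok N) (hf : ¬ D.Free) :
    (sgn N (D.s true) * sgn N ((flip D).s true)) * (sgn N (D.s false) * sgn N ((flip D).s false)) = -1 := by
  obtain ⟨h1, h2⟩ := pos_spec hf
  have h3 : (pos D.a).2 ≤ N := by
    by_contra hlt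
    have := (h.big (pos D.a).2 (by omega)).2 (pos D.a).1
    omega
  have hval : ∀ e j, (flip D).s e j = if (e, j) = pos D.a then !(D.s e j) else D.s e j := fun e j => rfl
  have hne : ∀ e, e ≠ (pos D.a).1 → ∀ j, (flip D).s e j = D.s e j := by
    intro e he j
    rw [hval, if_neg]
    intro h4
    exact he (congrArg Prod.fst h4)
  have heq : ∀ e, e = (pos D.a).1 → sgn N (D.s e) * sgn N ((flip D).s e) = -1 := by
    intro e he
    apply sgn_mul_sgn_ne h3
    · intro j hj
      rw [hval, if_neg]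
      intro h4
      exact hj (congrArg Prod.snd h4)
    · rw [hval, if_pos]
      exact Prod.ext he rfl
  rcases hb : (pos D.a).1 with _ | _
  · rw [sgn_mul_sgn_eq (hne true (by rw [hb]; decide)), heq false hb.symm, one_mul]
  · rw [sgn_mul_sgn_eq (hne false (by rw [hb]; decide)), heq true hb.symm, mul_one]

end Flip

/-- abstract counting -/
theorem card_count {X : Type*} [Finite X] (R fr : X → Prop) (φ : X → X)
    (hφ : ∀ x, ¬ fr x → φ (φ x) = x ∧ ¬ fr (φ x)) (hR : ∀ x, R x → ¬ fr x → ¬ R (φ x)) :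
    2 * Nat.card {x // R x} ≤ Nat.card X + Nat.card {x // fr x} := by
  classical
  letI := Fintype.ofFinite X
  rw [Nat.card_eq_fintype_card, Nat.card_eq_fintype_card, Nat.card_eq_fintype_card, Fintype.card_subtype,
    Fintype.card_subtype]
  let A := Finset.univ.filter fun x => R x ∧ ¬ fr x
  let A' := A.image φ
  have hinj : Set.InjOn φ A := by
    intro x hx y hy hxy
    have hx' := (Finset.mem_filter.1 hx).2
    have hy' := (Finset.mem_filter.1 hy).2
    rw [← (hφ x hx'.2).1, ← (hφ y hy'.2).1, hxy]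
  have hcard : A'.card = A.card := Finset.card_image_of_injOn hinj
  have hdisj : Disjoint A A' := by
    rw [Finset.disjoint_left]
    intro x hx hx'
    obtain ⟨y, hy, rfl⟩ := Finset.mem_image.1 hx'
    have hy' := (Finset.mem_filter.1 hy).2
    exact hR y hy'.1 hy'.2 (Finset.mem_filter.1 hx).2.1
  have hsub : A ∪ A' ⊆ Finset.univ.filter fun x => ¬ fr x := by
    intro x hx
    rw [Finset.mem_union] at hx
    rw [Finset.mem_filter]
    refine ⟨Finset.mem_univ _, ?_⟩
    rcases hx with hx | hx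
    · exact (Finset.mem_filter.1 hx).2.2
    · obtain ⟨y, hy, rfl⟩ := Finset.mem_image.1 hx
      exact (hφ y (Finset.mem_filter.1 hy).2.2).2
  have h1 := Finset.card_le_card hsub
  rw [Finset.card_union_of_disjoint hdisj, hcard] at h1
  have h2 : (Finset.univ.filter fun x => ¬ fr x).card + (Finset.univ.filter fun x => fr x).card = Fintype.card X := by
    rw [add_comm, Finset.card_filter_add_card_filter_not, Finset.card_univ]
  have h3 : (Finset.univ.filter fun x => R x).card ≤ A.card + (Finset.univ.filter fun x => fr x).card := by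
    refine le_trans (Finset.card_le_card (t := A ∪ Finset.univ.filter fun x => fr x) ?_) (Finset.card_union_le _ _)
    intro x hx
    rw [Finset.mem_union, Finset.mem_filter, Finset.mem_filter]
    by_cases hfx : fr x
    · exact Or.inr ⟨Finset.mem_univ _, hfx⟩
    · exact Or.inl ⟨Finset.mem_univ _, (Finset.mem_filter.1 hx).2, hfx⟩
  omega

section Main

variable {F : Type*} [Field F] {ι : Type} [Fintype ι] [DecidableEq ι]

/-- the linear automorphism of an invertible matrix -/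
noncomputable def lin (M : GL ι F) : (ι → F) ≃ₗ[F] (ι → F) :=
  Matrix.toLin'OfInv (M' := (M : Matrix ι ι F)) (M := ((M⁻¹ : GL ι F) : Matrix ι ι F)) (by simp) (by simp)

theorem lin_apply (M : GL ι F) (v : ι → F) : lin M v = (M : Matrix ι ι F) *ᵥ v := Matrix.toLin'_apply _ v

/-- the bilinear form -/
noncomputable def bf (G₀ : Matrix ι ι F) : (ι → F) →ₗ[F] (ι → F) →ₗ[F] F := Matrix.toBilin' G₀

theorem bf_apply (G₀ : Matrix ι ι F) (u v : ι → F) : bf G₀ u v = u ⬝ᵥ (G₀ *ᵥ v) := Matrix.toBilin'_apply' _ _ _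

theorem bf_symm {G₀ : Matrix ι ι F} (hs : G₀ᵀ = G₀) (u v : ι → F) : bf G₀ u v = bf G₀ v u := by
  rw [bf_apply, bf_apply, dotProduct_comm, dotProduct_mulVec v, ← mulVec_transpose, hs]

theorem bf_nondeg {G₀ : Matrix ι ι F} (hu : G₀.det ≠ 0) (u : ι → F) (h : ∀ v, bf G₀ u v = 0) : u = 0 :=
  (Cfsg.Agent.H194.NilForm.nondeg_of_isUnit ((Matrix.isUnit_iff_isUnit_det _).2 (Ne.isUnit hu))).1 u h

theorem bf_iso (h2 : (2 : F) ≠ 0) {G₀ : Matrix ι ι F} (hs : G₀ᵀ = G₀) {Q : (ι → F) → F}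
    (hQ : ∀ v, 2 * Q v = v ⬝ᵥ (G₀ *ᵥ v)) (A : Cfsg.isometryGroup F Q) (u v : ι → F) :
    bf G₀ (lin (A : GL ι F) u) (lin (A : GL ι F) v) = bf G₀ u v := by
  have hA : ∀ w, bf G₀ (lin (A : GL ι F) w) (lin (A : GL ι F) w) = bf G₀ w w := by
    intro w
    rw [bf_apply, bf_apply, ← hQ, ← hQ, lin_apply]
    congr 1
    exact Cfsg.Agent.H193.OrthConj.mem_isometryGroup.1 A.2 w
  have h1 := hA (u + v)
  rw [map_add (lin (A : GL ι F))] at h1
  simp only [map_add, LinearMap.add_apply] at h1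
  rw [hA, hA, bf_symm hs (lin (A : GL ι F) v) (lin (A : GL ι F) u), bf_symm hs v u] at h1
  have h3 : 2 * bf G₀ (lin (A : GL ι F) u) (lin (A : GL ι F) v) = 2 * bf G₀ u v := by linear_combination h1
  exact mul_left_cancel₀ h2 h3

theorem isConj_of_iso (h2 : (2 : F) ≠ 0) {G₀ : Matrix ι ι F} {Q : (ι → F) → F}
    (hQ : ∀ v, 2 * Q v = v ⬝ᵥ (G₀ *ᵥ v)) (A B : Cfsg.isometryGroup F Q) (z : (ι → F) ≃ₗ[F] (ι → F))
    (hz : ∀ u v, bf G₀ (z u) (z v) = bf G₀ u v) (hz' : ∀ v, z (lin (A : GL ι F) v) = lin (B : GL ι F) (z v)) :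
    IsConj A B := by
  let Z : GL ι F := ⟨LinearMap.toMatrix' z.toLinearMap, LinearMap.toMatrix' z.symm.toLinearMap, by
    rw [← LinearMap.toMatrix'_comp, LinearEquiv.comp_coe, LinearEquiv.symm_trans_self, LinearEquiv.refl_toLinearMap,
      LinearMap.toMatrix'_id], by
    rw [← LinearMap.toMatrix'_comp, LinearEquiv.comp_coe, LinearEquiv.self_trans_symm, LinearEquiv.refl_toLinearMap,
      LinearMap.toMatrix'_id]⟩
  have hZ : ∀ v, (Z : Matrix ι ι F).mulVec v = z v := fun v => LinearMap.toMatrix'_mulVec z.toLinearMap v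
  have hzQ : ∀ v, Q (z v) = Q v := by
    intro v
    apply mul_left_cancel₀ h2
    rw [hQ, hQ, ← bf_apply, ← bf_apply, hz]
  rw [_root_.isConj_iff]
  refine ⟨⟨Z, Cfsg.Agent.H193.OrthConj.mem_isometryGroup.2 fun v => by rw [hZ, hzQ]⟩, ?_⟩
  rw [mul_inv_eq_iff_eq_mul]
  apply Subtype.ext
  apply Units.ext
  show (Z : Matrix ι ι F) * ((A : GL ι F) : Matrix ι ι F) = ((B : GL ι F) : Matrix ι ι F) * Z
  apply Matrix.toLin'.injective
  apply LinearMap.ext
  intro v
  rw [Matrix.toLin'_apply, Matrix.toLin'_apply, ← Matrix.mulVec_mulVec, ← Matrix.mulVec_mulVec, hZ, hZ,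
    ← lin_apply, ← lin_apply]
  exact hz' v

/-- **The upper bound for the class number.** -/
theorem two_card_le [Fintype F] (h2 : (2 : F) ≠ 0) {N : ℕ} (hι : Fintype.card ι = N) (G₀ : Matrix ι ι F)
    (hs : G₀ᵀ = G₀) (hu : G₀.det ≠ 0) (Q : (ι → F) → F) (hQ : ∀ v, 2 * Q v = v ⬝ᵥ (G₀ *ᵥ v))
    [Finite {D : ODat F // D.Ok N}] :
    2 * Nat.card (ConjClasses (Cfsg.isometryGroup F Q)) ≤
      Nat.card {D : ODat F // D.Ok N} + Nat.card {D : ODat F // D.Ok N ∧ D.Free} := by
  classical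
  have hrank : finrank F (ι → F) = N := by rw [finrank_fintype_fun_eq_card, hι]
  let R : {D : ODat F // D.Ok N} → Prop := fun D =>
    ∃ A : Cfsg.isometryGroup F Q, HasO (bf G₀) (lin (A : GL ι F)) D.1
  have h1 : ∀ A : Cfsg.isometryGroup F Q, ∃ D : ODat F, D.Ok N ∧ HasO (bf G₀) (lin (A : GL ι F)) D := fun A =>
    exists_hasO h2 (bf_symm hs) (bf_nondeg hu) (bf_iso h2 hs hQ A) hrank
  choose D hD hA using h1
  have h3 : Nat.card (ConjClasses (Cfsg.isometryGroup F Q)) ≤ Nat.card {x // R x} := by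
    refine Nat.card_le_card_of_injective (fun c : ConjClasses (Cfsg.isometryGroup F Q) =>
      (⟨⟨D c.exists_rep.choose, hD _⟩, ⟨_, hA _⟩⟩ : {x // R x})) ?_
    intro c c' hcc
    have h4 : D c.exists_rep.choose = D c'.exists_rep.choose := congrArg (fun x => x.1.1) hcc
    have h5 := hA c.exists_rep.choose
    have h6 := hA c'.exists_rep.choose
    rw [← h4] at h6
    obtain ⟨z, hz, hz'⟩ := h5.exists_isometry h2 (bf_symm hs) (bf_nondeg hu) (bf_symm hs) (bf_nondeg hu)
      (bf_iso h2 hs hQ _) (bf_iso h2 hs hQ _) h6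
    have h7 := isConj_of_iso h2 hQ _ _ z hz hz'
    rw [← c.exists_rep.choose_spec, ← c'.exists_rep.choose_spec]
    exact ConjClasses.mk_eq_mk_iff_isConj.2 h7
  have h4 := card_count R (fun x => x.1.Free)
    (fun x => if h : x.1.Free then x else ⟨flip x.1, flip_ok x.2 h⟩) (by
      intro x hx
      have hx' : ¬ (flip x.1).Free := hx
      rw [dif_neg hx, dif_neg hx']
      exact ⟨Subtype.ext (flip_flip _), hx'⟩) (by
      rintro x ⟨A, hxA⟩ hx
      rw [dif_neg hx]
      rintro ⟨A', hxA'⟩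
      have h5 := hxA.qd_mul h2 (bf_symm hs) (bf_nondeg hu) (bf_symm hs) (bf_nondeg hu) (bf_iso h2 hs hQ _)
        (bf_iso h2 hs hQ _) hxA' rfl rfl (d := N) hrank.le hrank.le
      rw [sgn_flip x.2 hx, ← sq, OddUnip.qd, quadraticChar_sq_one] at h5
      · norm_num at h5
      · exact (LinearMap.BilinForm.nondegenerate_iff_det_ne_zero _).1 (nondegenerate_of (bf_symm hs) (bf_nondeg hu)))
  have h5 : Nat.card {x : {D : ODat F // D.Ok N} // x.1.Free} = Nat.card {D : ODat F // D.Ok N ∧ D.Free} :=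
    Nat.card_congr (Equiv.subtypeSubtypeEquivSubtypeInter _ _)
  omega

end Main

end Cfsg.Agent.H169.OddCount
end

-- part: H169/OddForms
section
/-!
# Gram matrices of the standard quadratic forms of even dimension, odd characteristic
-/

set_option autoImplicit false

namespace Cfsg.Agent.H169.OddForms

open Matrix

variable {F : Type*} [Field F]

/-- Gram matrix of the plus form -/
def gramPlus (n : ℕ) (F : Type*) [Field F] : Matrix (Fin n ⊕ Fin n) (Fin n ⊕ Fin n) F := fromBlocks 0 1 1 0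

theorem gramPlus_symm (n : ℕ) : (gramPlus n F)ᵀ = gramPlus n F := by
  rw [gramPlus, fromBlocks_transpose]; simp

theorem gramPlus_sq (n : ℕ) : gramPlus n F * gramPlus n F = 1 := by
  rw [gramPlus, fromBlocks_multiply, ← fromBlocks_one]; simp

theorem gramPlus_det (n : ℕ) : (gramPlus n F).det ≠ 0 := by
  intro h
  have := congrArg Matrix.det (gramPlus_sq (F := F) n)
  rw [det_mul, h, mul_zero, det_one] at this
  exact zero_ne_one this

theorem gramPlus_form (n : ℕ) (v : Fin n ⊕ Fin n → F) :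
    2 * Cfsg.quadFormPlus n F v = v ⬝ᵥ (gramPlus n F *ᵥ v) := by
  obtain ⟨x, y, rfl⟩ : ∃ x y : Fin n → F, v = Sum.elim x y := ⟨fun i => v (.inl i), fun i => v (.inr i), by
    ext i; cases i <;> rfl⟩
  rw [gramPlus, fromBlocks_mulVec]
  simp only [Sum.elim_comp_inl, Sum.elim_comp_inr, zero_mulVec, one_mulVec, zero_add, add_zero,
    Cfsg.quadFormPlus, Sum.elim_inl, Sum.elim_inr, sumElim_dotProduct_sumElim]
  rw [dotProduct_comm y x, two_mul]
  rfl

/-- Gram matrix of the minus form -/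
def gramMinus (n : ℕ) (F : Type*) [Field F] (a b : F) :
    Matrix ((Fin n ⊕ Fin n) ⊕ Fin 2) ((Fin n ⊕ Fin n) ⊕ Fin 2) F :=
  fromBlocks (gramPlus n F) 0 0 !![2, a; a, 2 * b]

theorem gramMinus_symm (n : ℕ) (a b : F) : (gramMinus n F a b)ᵀ = gramMinus n F a b := by
  rw [gramMinus, fromBlocks_transpose, gramPlus_symm]
  congr 1
  ext i j; fin_cases i <;> fin_cases j <;> rfl

theorem gramMinus_det (h2 : (2 : F) ≠ 0) (n : ℕ) (a b : F)
    (hab : ∀ z₁ z₂ : F, z₁ ^ 2 + a * z₁ * z₂ + b * z₂ ^ 2 = 0 → z₁ = 0 ∧ z₂ = 0) :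
    (gramMinus n F a b).det ≠ 0 := by
  rw [gramMinus, det_fromBlocks_zero₁₂, det_fin_two_of]
  refine mul_ne_zero (gramPlus_det n) ?_
  intro h
  have h1 := (hab (-a / 2) 1 (by
    field_simp
    linear_combination h)).2
  exact one_ne_zero h1

theorem gramMinus_form (n : ℕ) (a b : F) (v : (Fin n ⊕ Fin n) ⊕ Fin 2 → F) :
    2 * Cfsg.quadFormMinus n F a b v = v ⬝ᵥ (gramMinus n F a b *ᵥ v) := by
  obtain ⟨x, y, rfl⟩ : ∃ (x : Fin n ⊕ Fin n → F) (y : Fin 2 → F), v = Sum.elim x y :=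
    ⟨fun i => v (.inl i), fun i => v (.inr i), by ext i; cases i <;> rfl⟩
  have h1 := gramPlus_form n x
  rw [gramMinus, fromBlocks_mulVec]
  simp only [Sum.elim_comp_inl, Sum.elim_comp_inr, zero_mulVec, zero_add, add_zero, Cfsg.quadFormMinus,
    Sum.elim_inl, Sum.elim_inr, sumElim_dotProduct_sumElim]
  rw [← h1, Cfsg.quadFormPlus]
  simp only [dotProduct, mulVec, Fin.sum_univ_two, of_apply, cons_val_zero, cons_val_one, cons_val', cons_val_fin_one]
  ring

end Cfsg.Agent.H169.OddForms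
end

-- part: H173/NumGen
section
/-!
# The counting engine with a general family of entries (helper173)
-/

set_option autoImplicit false

namespace Cfsg.Agent.H173.Num

/-- one step of the count; `P d` = entries of size `d` -/
def StepG {α β : Type*} (P : ℕ → Set β) (N : ℕ → Set α) (Φ : α → β → α) (L c n : ℕ) : Set α :=
  {D | ∃ d m, L * d + c + m = n ∧ ∃ D' ∈ N m, ∃ p ∈ P d, D = Φ D' p}

section

variable {α β : Type*} {P : ℕ → Set β}

theorem stepG_subset (N : ℕ → Set α) (Φ : α → β → α) (L c n : ℕ) (hL : 0 < L) :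
    StepG P N Φ L c n ⊆ ⋃ d ∈ Finset.range (n + 1), (fun x : α × β => Φ x.1 x.2) ''
      ((if L * d + c ≤ n then N (n - (L * d + c)) else ∅) ×ˢ P d) := by
  rintro D ⟨d, m, hdm, D', hD', p, hp, rfl⟩
  have hd : d < n + 1 := by
    have : d ≤ L * d := Nat.le_mul_of_pos_left d hL
    omega
  simp only [Set.mem_iUnion]
  refine ⟨d, Finset.mem_range.2 hd, (D', p), ⟨?_, hp⟩, rfl⟩
  rw [if_pos (by omega), show n - (L * d + c) = m by omega]
  exact hD'

theorem stepG_finite (hP : ∀ d, (P d).Finite) {N : ℕ → Set α} (hN : ∀ m, (N m).Finite) (Φ : α → β → α)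
    (L c n : ℕ) (hL : 0 < L) : (StepG P N Φ L c n).Finite := by
  refine Set.Finite.subset ?_ (stepG_subset N Φ L c n hL)
  refine Set.Finite.biUnion (Finset.finite_toSet _) fun d _ => ?_
  refine Set.Finite.image _ (Set.Finite.prod ?_ (hP d))
  split_ifs
  · exact hN _
  · exact Set.finite_empty

theorem stepG_ncard {q : ℕ} (hP : ∀ d, (P d).Finite ∧ (P d).ncard ≤ q ^ d) {N : ℕ → Set α} (hN : ∀ m, (N m).Finite)
    (Φ : α → β → α) (L c n : ℕ) (hL : 0 < L) : (StepG P N Φ L c n).ncard ≤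
      ∑ d ∈ Finset.range (n + 1), if L * d + c ≤ n then (N (n - (L * d + c))).ncard * q ^ d else 0 := by
  classical
  have hfin : ∀ d ∈ Finset.range (n + 1), ((fun x : α × β => Φ x.1 x.2) ''
      ((if L * d + c ≤ n then N (n - (L * d + c)) else ∅) ×ˢ P d)).Finite := by
    intro d _
    refine Set.Finite.image _ (Set.Finite.prod ?_ (hP d).1)
    split_ifs
    · exact hN _
    · exact Set.finite_empty
  refine (Set.ncard_le_ncard (stepG_subset N Φ L c n hL)
    (Set.Finite.biUnion (Finset.finite_toSet _) hfin)).trans ?_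
  refine (Finset.set_ncard_biUnion_le _ _).trans (Finset.sum_le_sum fun d _ => ?_)
  split_ifs with h
  · refine (Set.ncard_image_le (Set.Finite.prod (hN _) (hP d).1)).trans ?_
    rw [Set.ncard_prod]
    exact Nat.mul_le_mul_left _ (hP d).2
  · simp

/-- **the step** for `L ≥ 2` -/
theorem stepG_B1 {q : ℕ} (hq1 : 1 < q) (hP : ∀ d, (P d).Finite ∧ (P d).ncard ≤ q ^ d) {N : ℕ → Set α} {C : ℚ}
    (hC : 0 ≤ C) (hN : ∀ m, B1 q m (N m) C) (Φ : α → β → α) (L c n : ℕ) (hL : 2 ≤ L) {u : ℚ} (hu : u = 1 / (q : ℚ)) :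
    B1 q n (StepG P N Φ L c n) (C * u ^ c * (1 / (1 - u ^ (L - 1)))) := by
  have hq0 : (0 : ℚ) < q := by exact_mod_cast (by omega : 0 < q)
  have huq : u * q = 1 := by rw [hu]; field_simp
  have hu0 : 0 < u := by rw [hu]; positivity
  have hu1 : u < 1 := by
    rw [hu, div_lt_one hq0]; exact_mod_cast hq1
  refine ⟨stepG_finite (fun d => (hP d).1) (fun m => (hN m).1) Φ L c n (by omega), ?_⟩
  have h1 := stepG_ncard hP (fun m => (hN m).1) Φ L c n (by omega)
  have h2 : ((StepG P N Φ L c n).ncard : ℚ) ≤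
      ∑ d ∈ Finset.range (n + 1), C * u ^ c * (u ^ (L - 1)) ^ d * (q : ℚ) ^ n := by
    refine (Nat.cast_le (α := ℚ).2 h1).trans ?_
    rw [Nat.cast_sum]
    refine Finset.sum_le_sum fun d _ => ?_
    split_ifs with h
    · push_cast
      have h3 := (hN (n - (L * d + c))).2
      have h4 : (q : ℚ) ^ n = (q : ℚ) ^ (n - (L * d + c)) * (q : ℚ) ^ (L * d) * (q : ℚ) ^ c := by
        rw [← pow_add, ← pow_add]; congr 1; omega
      have h5 : (q : ℚ) ^ (L * d) = (q : ℚ) ^ ((L - 1) * d) * (q : ℚ) ^ d := by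
        rw [← pow_add]; congr 1
        obtain ⟨l, rfl⟩ : ∃ l, L = l + 1 := ⟨L - 1, by omega⟩
        rw [Nat.add_sub_cancel]; ring
      have h6 : C * u ^ c * (u ^ (L - 1)) ^ d * (q : ℚ) ^ n = C * (q : ℚ) ^ (n - (L * d + c)) * (q : ℚ) ^ d := by
        rw [h4, h5, ← pow_mul]
        have e1 : u ^ c * (q : ℚ) ^ c = 1 := by rw [← mul_pow, huq, one_pow]
        have e2 : u ^ ((L - 1) * d) * (q : ℚ) ^ ((L - 1) * d) = 1 := by rw [← mul_pow, huq, one_pow]
        calc C * u ^ c * u ^ ((L - 1) * d) * ((q : ℚ) ^ (n - (L * d + c)) *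
              ((q : ℚ) ^ ((L - 1) * d) * (q : ℚ) ^ d) * (q : ℚ) ^ c)
            = C * (q : ℚ) ^ (n - (L * d + c)) * (q : ℚ) ^ d * (u ^ c * (q : ℚ) ^ c) *
              (u ^ ((L - 1) * d) * (q : ℚ) ^ ((L - 1) * d)) := by ring
          _ = _ := by rw [e1, e2]; ring
      rw [h6]
      exact mul_le_mul_of_nonneg_right h3 (by positivity)
    · simp only [Nat.cast_zero]; positivity
  refine h2.trans ?_
  have h7 : ∑ d ∈ Finset.range (n + 1), C * u ^ c * (u ^ (L - 1)) ^ d * (q : ℚ) ^ n =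
      C * u ^ c * (∑ d ∈ Finset.range (n + 1), (u ^ (L - 1)) ^ d) * (q : ℚ) ^ n := by
    rw [Finset.mul_sum, Finset.sum_mul]
  rw [h7]
  have h8 := geom_le (u ^ (L - 1)) (by positivity) (pow_lt_one₀ hu0.le hu1 (by omega)) (n + 1)
  apply mul_le_mul_of_nonneg_right _ (by positivity)
  exact mul_le_mul_of_nonneg_left h8 (by positivity)

/-- **the first step**: `L = 1`, starting with a single element of size zero -/
theorem stepG_one {q : ℕ} (hq1 : 1 < q) (hP : ∀ d, (P d).Finite ∧ (P d).ncard ≤ q ^ d) {N : ℕ → Set α} (D0 : α)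
    (hN : ∀ m, N m ⊆ (if m = 0 then {D0} else ∅ : Set α))
    (Φ : α → β → α) (c n : ℕ) {u : ℚ} (hu : u = 1 / (q : ℚ)) :
    B1 q n (StepG P N Φ 1 c n) (u ^ c) := by
  have hfin : ∀ m, (N m).Finite := by
    intro m
    refine Set.Finite.subset ?_ (hN m)
    split_ifs
    · exact Set.finite_singleton _
    · exact Set.finite_empty
  have hone : ∀ m, (N m).ncard ≤ if m = 0 then 1 else 0 := by
    intro m
    have hfin' : (if m = 0 then {D0} else ∅ : Set α).Finite := by
      split_ifs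
      · exact Set.finite_singleton _
      · exact Set.finite_empty
    refine (Set.ncard_le_ncard (hN m) hfin').trans ?_
    split_ifs
    · rw [Set.ncard_singleton]
    · rw [Set.ncard_empty]
  refine ⟨stepG_finite (fun d => (hP d).1) hfin Φ 1 c n one_pos, ?_⟩
  have hq0 : (0 : ℚ) < q := by exact_mod_cast (by omega : 0 < q)
  have h1 := stepG_ncard hP hfin Φ 1 c n one_pos
  rw [hu]
  rcases Nat.lt_or_ge n c with hc | hc
  · have h2 : (StepG P N Φ 1 c n).ncard = 0 := by
      rw [← Nat.le_zero]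
      refine h1.trans (le_of_eq ?_)
      refine Finset.sum_eq_zero fun d _ => ?_
      rw [if_neg (by omega)]
    rw [h2, Nat.cast_zero]
    positivity
  · have h2 : (StepG P N Φ 1 c n).ncard ≤ q ^ (n - c) := by
      refine h1.trans ?_
      rw [Finset.sum_eq_single (n - c)]
      · rw [if_pos (by omega)]
        have := hone (n - (1 * (n - c) + c))
        rw [if_pos (by omega)] at this
        calc _ ≤ 1 * q ^ (n - c) := Nat.mul_le_mul_right _ this
          _ = _ := one_mul _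
      · intro d _ hd
        by_cases h : 1 * d + c ≤ n
        · have h0 : n - (1 * d + c) ≠ 0 := by omega
          have := hone (n - (1 * d + c))
          rw [if_neg h0, Nat.le_zero] at this
          rw [if_pos h, this, zero_mul]
        · rw [if_neg h]
      · intro h
        exfalso
        apply h
        rw [Finset.mem_range]; omega
    have h3 : (q : ℚ) ^ n = (q : ℚ) ^ (n - c) * (q : ℚ) ^ c := by
      rw [← pow_add]; congr 1; omega
    have h4 : (1 / (q : ℚ)) ^ c * (q : ℚ) ^ n = (q : ℚ) ^ (n - c) := by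
      rw [h3, mul_comm ((q : ℚ) ^ (n - c)), ← mul_assoc, ← mul_pow, one_div, inv_mul_cancel₀ hq0.ne', one_pow, one_mul]
    rw [h4]
    exact_mod_cast h2

theorem B1.biUnion {ι : Type*} {q n : ℕ} (s : Finset ι) (T : ι → Set α) (C : ι → ℚ)
    (h : ∀ i ∈ s, B1 q n (T i) (C i)) : B1 q n (⋃ i ∈ s, T i) (∑ i ∈ s, C i) := by
  classical
  induction s using Finset.induction_on with
  | empty =>
    simp only [Finset.notMem_empty, Set.iUnion_of_empty, Set.iUnion_empty, Finset.sum_empty]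
    exact B1.empty le_rfl
  | insert i s hi ih =>
    rw [Finset.sum_insert hi, Finset.set_biUnion_insert]
    exact (h i (Finset.mem_insert_self _ _)).union (ih fun j hj => h j (Finset.mem_insert_of_mem hj))

theorem B1.iUnion {ι : Type*} [Fintype ι] {q n : ℕ} (T : ι → Set α) (C : ι → ℚ)
    (h : ∀ i, B1 q n (T i) (C i)) : B1 q n (⋃ i, T i) (∑ i, C i) := by
  have := B1.biUnion Finset.univ T C fun i _ => h i
  simpa using this

end

end Cfsg.Agent.H173.Num
end

-- part: H173/NumOdd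
section
/-!
# Counting the data of conjugacy classes of orthogonal groups in odd characteristic: transfer (helper173)
-/

set_option autoImplicit false

namespace Cfsg.Agent.H173.NumOdd

open Polynomial Cfsg.Agent.H169 Cfsg.Agent.H171 Cfsg.Agent.H173.Num

variable {F : Type*} [Field F]

/-- the triples `(f, α, β)` of total degree `2 d` -/
def Triples (F : Type*) [Field F] (d : ℕ) : Set (F[X] × ℕ × ℕ) :=
  {x | Pal x.1 ∧ x.1.eval 1 ≠ 0 ∧ x.1.eval (-1) ≠ 0 ∧ x.1.natDegree + 2 * x.2.1 + 2 * x.2.2 = 2 * d}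

theorem triples [Finite F] (h2 : (2 : F) ≠ 0) (d : ℕ) :
    (Triples F d).Finite ∧ (Triples F d).ncard ≤ Nat.card F ^ d := card_triple_le F h2 d

/-- data on the levels `j < J`, of dimension `N` -/
structure Pdo (J N : ℕ) (D : ODat F) : Prop where
  pal : ∀ j, Pal (D.f j)
  one : ∀ j, (D.f j).eval 1 ≠ 0
  neg_one : ∀ j, (D.f j).eval (-1) ≠ 0
  even : ∀ j, Even (D.f j).natDegree
  zero : D.f 0 = 1 ∧ ∀ e, D.a e 0 = 0
  big : ∀ j, J ≤ j → D.f j = 1 ∧ ∀ e, D.a e j = 0
  a_even : ∀ e j, Even j → Even (D.a e j)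
  s_imp : ∀ e j, D.s e j = true → Odd j ∧ 0 < D.a e j
  size : ∑ j ∈ Finset.range J, j * ((D.f j).natDegree + D.a true j + D.a false j) = N

theorem Pdo.of_ok {N : ℕ} {D : ODat F} (h : D.Ok N) {J : ℕ} (hJ : N < J) : Pdo J N D where
  pal j := ⟨h.monic j, h.pal j⟩
  one := h.one
  neg_one := h.neg_one
  even := h.even
  zero := h.zero
  big j hj := h.big j (by omega)
  a_even := h.a_even
  s_imp := h.s_imp
  size := by
    conv_rhs => rw [← h.size]
    symm
    apply Finset.sum_subset (Finset.range_mono (by omega))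
    intro j _ hj
    have := h.big j (by simpa using hj)
    rw [this.1, this.2, this.2]
    simp

/-- change the entries of level `j` -/
noncomputable def updo (j : ℕ) (D : ODat F) (x : F[X]) (y z : ℕ) (s t : Bool) : ODat F where
  f := Function.update D.f j x
  a e := Function.update (D.a e) j (cond e y z)
  s e := Function.update (D.s e) j (cond e s t)

/-- removal of level `j` -/
noncomputable def reso (j : ℕ) (D : ODat F) : ODat F := updo j D 1 0 0 false false

theorem eq_updo_reso (j : ℕ) (D : ODat F) :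
    D = updo j (reso j D) (D.f j) (D.a true j) (D.a false j) (D.s true j) (D.s false j) := by
  have h1 : ∀ e, Function.update (Function.update (D.a e) j (cond e 0 0)) j (cond e (D.a true j) (D.a false j)) =
      D.a e := by
    intro e
    rw [Function.update_idem]
    cases e <;> simp
  have h2 : ∀ e, Function.update (Function.update (D.s e) j (cond e false false)) j
      (cond e (D.s true j) (D.s false j)) = D.s e := by
    intro e
    rw [Function.update_idem]
    cases e <;> simp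
  unfold updo reso updo
  simp only [Function.update_idem, Function.update_eq_self]
  cases D
  simp only [ODat.mk.injEq, true_and]
  constructor
  · funext e
    have := h1 e
    rw [Function.update_idem] at this
    exact this.symm
  · funext e
    have := h2 e
    rw [Function.update_idem] at this
    exact this.symm

theorem Pdo.reso {J N : ℕ} {D : ODat F} (h : Pdo (J + 1) N D) :
    ∃ m, Pdo J m (reso J D) ∧ J * ((D.f J).natDegree + D.a true J + D.a false J) + m = N := by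
  classical
  refine ⟨∑ j ∈ Finset.range J, j * ((D.f j).natDegree + D.a true j + D.a false j), ?_, ?_⟩
  · constructor
    · intro j
      by_cases hj : j = J
      · subst hj; simp [NumOdd.reso, updo, Pal.one]
      · simp [NumOdd.reso, updo, hj, h.pal j]
    · intro j
      by_cases hj : j = J
      · subst hj; simp [NumOdd.reso, updo]
      · simp [NumOdd.reso, updo, hj, h.one j]
    · intro j
      by_cases hj : j = J
      · subst hj; simp [NumOdd.reso, updo]
      · simp [NumOdd.reso, updo, hj, h.neg_one j]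
    · intro j
      by_cases hj : j = J
      · subst hj; simp [NumOdd.reso, updo]
      · simp [NumOdd.reso, updo, hj, h.even j]
    · refine ⟨?_, ?_⟩
      · by_cases hj : 0 = J
        · subst hj; simp [NumOdd.reso, updo]
        · simp [NumOdd.reso, updo, hj, h.zero.1]
      · intro e
        by_cases hj : 0 = J
        · subst hj; cases e <;> simp [NumOdd.reso, updo]
        · simp [NumOdd.reso, updo, hj, h.zero.2]
    · intro j hj
      by_cases hj' : j = J
      · subst hj'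
        refine ⟨by simp [NumOdd.reso, updo], fun e => ?_⟩
        cases e <;> simp [NumOdd.reso, updo]
      · have := h.big j (by omega)
        simp [NumOdd.reso, updo, hj', this.1, this.2]
    · intro e j hj
      by_cases hj' : j = J
      · subst hj'; cases e <;> simp [NumOdd.reso, updo]
      · simp [NumOdd.reso, updo, hj', h.a_even e j hj]
    · intro e j hs
      by_cases hj : j = J
      · subst hj; cases e <;> simp [NumOdd.reso, updo] at hs
      · have hs' : D.s e j = true := by simpa [NumOdd.reso, updo, hj] using hs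
        have h1 := h.s_imp e j hs'
        refine ⟨h1.1, ?_⟩
        simpa [NumOdd.reso, updo, hj] using h1.2
    · refine Finset.sum_congr rfl fun j hj => ?_
      have hj' : j ≠ J := (Finset.mem_range.1 hj).ne
      simp [NumOdd.reso, updo, hj']
  · have := h.size
    rw [Finset.sum_range_succ] at this
    omega

/-- the options for one eigenvalue at an odd level: shift and sign -/
def opt : Fin 4 → ℕ × Bool := ![(0, false), (1, false), (1, true), (2, true)]

theorem exists_opt (A : ℕ) (s : Bool) (hs : s = true → 0 < A) :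
    ∃ (i : Fin 4) (α : ℕ), A = 2 * α + (opt i).1 ∧ s = (opt i).2 := by
  rcases Nat.even_or_odd A with hA | hA
  · obtain ⟨r, hr⟩ := hA
    cases s
    · exact ⟨0, r, by simp [opt]; omega, rfl⟩
    · have := hs rfl
      exact ⟨3, r - 1, by simp [opt]; omega, rfl⟩
  · obtain ⟨r, hr⟩ := hA
    cases s
    · exact ⟨1, r, by simp [opt]; omega, rfl⟩
    · exact ⟨2, r, by simp [opt]; omega, rfl⟩

/-- reconstruction -/
noncomputable def reco (J : ℕ) (i k : Fin 4) (D : ODat F) (p : F[X] × ℕ × ℕ) : ODat F :=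
  updo J D p.1 (2 * p.2.1 + (opt i).1) (2 * p.2.2 + (opt k).1) (opt i).2 (opt k).2

/-- the sets, by parity of the dimension -/
def SO (F : Type*) [Field F] (J ε n : ℕ) : Set (ODat F) := {D | Pdo J (2 * n + ε) D}

/-- the cost -/
def cost (J ε : ℕ) (i k : Fin 4) : ℕ :=
  (J * ((opt i).1 + (opt k).1) + (ε + (opt i).1 + (opt k).1) % 2 - ε) / 2

theorem step_odd {J : ℕ} (hJ : Odd J) (ε : ℕ) (hε : ε < 2) (n : ℕ) : SO F (J + 1) ε n ⊆ ⋃ x : Fin 4 × Fin 4,
    StepG (Triples F) (SO F J ((ε + (opt x.1).1 + (opt x.2).1) % 2)) (reco J x.1 x.2) J (cost J ε x.1 x.2) n := by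
  rintro D (hD : Pdo (J + 1) (2 * n + ε) D)
  obtain ⟨m, hm, hsz⟩ := hD.reso
  obtain ⟨i, α, hi, hi'⟩ := exists_opt (D.a true J) (D.s true J) fun h => (hD.s_imp _ _ h).2
  obtain ⟨k, β, hk, hk'⟩ := exists_opt (D.a false J) (D.s false J) fun h => (hD.s_imp _ _ h).2
  obtain ⟨r, hr⟩ := hD.even J
  obtain ⟨l, hl⟩ := hJ
  simp only [Set.mem_iUnion]
  refine ⟨(i, k), r + α + β, m / 2, ?_, reso J D, ?_, (D.f J, α, β), ⟨hD.pal J, hD.one J, hD.neg_one J, ?_⟩, ?_⟩
  · rw [hi, hk, hr] at hsz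
    unfold cost
    set t := (opt i).1 + (opt k).1 with ht
    have e1 : J * (r + r + (2 * α + (opt i).1) + (2 * β + (opt k).1)) = 2 * (J * (r + α + β)) + J * t := by
      rw [ht]; ring
    have e2 : J * t = 2 * (l * t) + t := by rw [hl]; ring
    rw [e1] at hsz
    dsimp only
    rw [add_assoc ε, ← ht]
    rcases Nat.eq_zero_or_pos t with h0 | h0
    · have e3 : J * t = 0 := by rw [h0, mul_zero]
      rw [e3] at hsz ⊢
      rw [h0]
      omega
    · have : t ≤ J * t := by rw [e2]; omega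
      generalize l * t = w at *
      omega
  · show Pdo J _ _
    have hm2 : 2 * (m / 2) + (ε + (opt i).1 + (opt k).1) % 2 = m := by
      rw [hi, hk, hr] at hsz
      have e1 : J * (r + r + (2 * α + (opt i).1) + (2 * β + (opt k).1)) =
          2 * (J * (r + α + β) + l * ((opt i).1 + (opt k).1)) + (opt i).1 + (opt k).1 := by
        rw [hl]; ring
      rw [e1] at hsz
      omega
    dsimp only
    rw [hm2]
    exact hm
  · dsimp only
    omega
  · have := eq_updo_reso J D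
    rw [hi, hk, hi', hk'] at this
    exact this

theorem step_even {J : ℕ} {ε n : ℕ} (hε : ε < 2) {D : ODat F} (hD : Pdo (J + 1) (2 * n + ε) D)
    (ha : ∀ e, Even (D.a e J)) (hs : ∀ e, D.s e J = false) :
    ∃ d m, J * d + 0 + m = n ∧ Pdo J (2 * m + ε) (reso J D) ∧ ∃ p ∈ Triples F d, D = reco J 0 0 (reso J D) p := by
  obtain ⟨m, hm, hsz⟩ := hD.reso
  obtain ⟨α, hα⟩ := ha true
  obtain ⟨β, hβ⟩ := ha false
  obtain ⟨r, hr⟩ := hD.even J
  rw [hα, hβ, hr] at hsz
  have e1 : J * (r + r + (α + α) + (β + β)) = 2 * (J * (r + α + β)) := by ring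
  rw [e1] at hsz
  generalize hw : J * (r + α + β) = w at hsz
  refine ⟨r + α + β, m / 2, by omega, ?_, (D.f J, α, β), ⟨hD.pal J, hD.one J, hD.neg_one J, ?_⟩, ?_⟩
  · have : 2 * (m / 2) + ε = m := by omega
    rw [this]; exact hm
  · dsimp only
    omega
  · have := eq_updo_reso J D
    rw [hα, hβ, hs, hs] at this
    unfold reco opt
    dsimp only
    simpa [two_mul] using this

theorem step_even' {J : ℕ} (hJ : Even J) (ε : ℕ) (hε : ε < 2) (n : ℕ) : SO F (J + 1) ε n ⊆
    StepG (Triples F) (SO F J ε) (reco J 0 0) J 0 n := by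
  rintro D (hD : Pdo (J + 1) (2 * n + ε) D)
  obtain ⟨d, m, h1, h2, p, hp, h3⟩ := step_even hε hD (fun e => hD.a_even e J hJ) fun e => by
    by_contra h
    have := (hD.s_imp e J (by simpa using h)).1
    rw [← Nat.not_even_iff_odd] at this
    exact this hJ
  exact ⟨d, m, h1, _, h2, p, hp, h3⟩

/-- the sign free data -/
def SF (F : Type*) [Field F] (J n : ℕ) : Set (ODat F) := {D | Pdo J (2 * n) D ∧ D.Free}

theorem step_free (J n : ℕ) : SF F (J + 1) n ⊆ StepG (Triples F) (SF F J) (reco J 0 0) J 0 n := by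
  rintro D ⟨hD, hF⟩
  have ha : ∀ e, Even (D.a e J) := by
    intro e
    rcases Nat.even_or_odd J with hJ | hJ
    · exact hD.a_even e J hJ
    · rw [hF e J hJ]; exact Even.zero
  have hs : ∀ e, D.s e J = false := by
    intro e
    by_contra h
    have := hD.s_imp e J (by simpa using h)
    rw [hF e J this.1] at this
    exact lt_irrefl 0 this.2
  obtain ⟨d, m, h1, h2, p, hp, h3⟩ := step_even (ε := 0) two_pos hD ha hs
  refine ⟨d, m, h1, _, ⟨h2, ?_⟩, p, hp, h3⟩
  intro e j hj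
  by_cases hjJ : j = J
  · subst hjJ; cases e <;> simp [reso, updo]
  · simp [reso, updo, hjJ, hF e j hj]

/-- the trivial data -/
noncomputable def O0 (F : Type*) [Field F] : ODat F where
  f _ := 1
  a _ _ := 0
  s _ _ := false

theorem pdo_one {m : ℕ} {D : ODat F} (h : Pdo 1 m D) : D = O0 F ∧ m = 0 := by
  have hf : D.f = fun _ => 1 := by
    funext j
    rcases Nat.eq_zero_or_pos j with rfl | hj
    · exact h.zero.1
    · exact (h.big j hj).1
  have ha : D.a = fun _ _ => 0 := by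
    funext e j
    rcases Nat.eq_zero_or_pos j with rfl | hj
    · exact h.zero.2 e
    · exact (h.big j hj).2 e
  have hs : D.s = fun _ _ => false := by
    funext e j
    by_contra hh
    have := (h.s_imp e j (by simpa using hh)).2
    rw [ha] at this
    exact absurd this (by simp)
  constructor
  · cases D
    simp only at hf ha hs
    subst hf ha hs
    rfl
  · rw [← h.size]
    simp

theorem SO_one_zero (m : ℕ) : SO F 1 0 m ⊆ (if m = 0 then {O0 F} else ∅ : Set (ODat F)) := by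
  rintro D (hD : Pdo 1 (2 * m + 0) D)
  obtain ⟨h1, h2⟩ := pdo_one hD
  rw [if_pos (by omega), h1]
  rfl

theorem SO_one_one (m : ℕ) : SO F 1 1 m = ∅ := by
  rw [Set.eq_empty_iff_forall_notMem]
  rintro D (hD : Pdo 1 (2 * m + 1) D)
  have := (pdo_one hD).2
  omega

theorem SF_one (m : ℕ) : SF F 1 m ⊆ (if m = 0 then {O0 F} else ∅ : Set (ODat F)) := by
  rintro D ⟨hD, -⟩
  obtain ⟨h1, h2⟩ := pdo_one hD
  rw [if_pos (by omega), h1]
  rfl

/-- the bounds after level `2 k + 1` for even and odd dimension -/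
def ol (u : ℚ) : ℕ → ℚ × ℚ
  | 0 => (1 + 6 * u + u ^ 2, 4 + 4 * u)
  | k + 1 =>
    (((ol u k).1 * (1 + 6 * u ^ (2 * k + 3) + u ^ (4 * k + 6)) + (ol u k).2 * (4 * u ^ (k + 2) + 4 * u ^ (3 * k + 5))) *
      (1 / (1 - u ^ (2 * k + 1))) * (1 / (1 - u ^ (2 * k + 2))),
     ((ol u k).2 * (1 + 6 * u ^ (2 * k + 3) + u ^ (4 * k + 6)) + (ol u k).1 * (4 * u ^ (k + 1) + 4 * u ^ (3 * k + 4))) *
      (1 / (1 - u ^ (2 * k + 1))) * (1 / (1 - u ^ (2 * k + 2))))

theorem one_div_nonneg' {u : ℚ} (h0 : 0 ≤ u) (h1 : u < 1) (m : ℕ) : 0 ≤ 1 / (1 - u ^ m) := by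
  apply div_nonneg zero_le_one
  have := pow_le_one₀ (n := m) h0 h1.le
  linarith

theorem ol_nonneg {u : ℚ} (h0 : 0 ≤ u) (h1 : u < 1) (k : ℕ) : 0 ≤ (ol u k).1 ∧ 0 ≤ (ol u k).2 := by
  induction k with
  | zero => exact ⟨by unfold ol; positivity, by unfold ol; positivity⟩
  | succ k ih =>
    obtain ⟨i1, i2⟩ := ih
    have g1 := one_div_nonneg' h0 h1 (2 * k + 1)
    have g2 := one_div_nonneg' h0 h1 (2 * k + 2)
    constructor
    · rw [ol]
      exact mul_nonneg (mul_nonneg (by positivity) g1) g2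
    · rw [ol]
      exact mul_nonneg (mul_nonneg (by positivity) g1) g2

theorem sum_fin44 (f : ℕ → ℕ → ℚ) : ∑ x : Fin 4 × Fin 4, f (opt x.1).1 (opt x.2).1 =
    f 0 0 + 2 * f 0 1 + f 0 2 + 2 * f 1 0 + 4 * f 1 1 + 2 * f 1 2 + f 2 0 + 2 * f 2 1 + f 2 2 := by
  rw [Fintype.sum_prod_type]
  simp only [Fin.sum_univ_four, opt, Matrix.cons_val_zero, Matrix.cons_val_one, Matrix.cons_val]
  ring

variable [Finite F]

theorem bound_aux (h2 : (2 : F) ≠ 0) (u : ℚ) (hu : u = 1 / (Nat.card F : ℚ)) (k : ℕ) : ∀ n,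
    B1 (Nat.card F) n (SO F (2 * k + 2) 0 n) (ol u k).1 ∧ B1 (Nat.card F) n (SO F (2 * k + 2) 1 n) (ol u k).2 := by
  have hq1 : 1 < Nat.card F := Finite.one_lt_card
  have hq0 : (0 : ℚ) < Nat.card F := by exact_mod_cast (by omega : 0 < Nat.card F)
  have hu0 : 0 < u := by rw [hu]; positivity
  have hu1 : u < 1 := by rw [hu, div_lt_one hq0]; exact_mod_cast hq1
  induction k with
  | zero =>
    have key : ∀ ε < 2, ∀ n, B1 (Nat.card F) n (SO F 2 ε n) (∑ x : Fin 4 × Fin 4,
        if (ε + (opt x.1).1 + (opt x.2).1) % 2 = 0 then u ^ (cost 1 ε x.1 x.2) else 0) := by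
      intro ε hε n
      refine B1.subset ?_ (step_odd (J := 1) odd_one ε hε n)
      apply B1.iUnion
      rintro ⟨i, k⟩
      dsimp only
      split_ifs with h
      · rw [h]
        exact stepG_one hq1 (triples h2) (O0 F) SO_one_zero _ _ n hu
      · have h' : (ε + (opt i).1 + (opt k).1) % 2 = 1 := by omega
        rw [h']
        refine B1.subset (B1.empty le_rfl) ?_
        rintro D ⟨d, m, -, D', hD', -⟩
        rw [SO_one_one] at hD'
        exact absurd hD' (Set.notMem_empty _)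
    intro n
    constructor
    · refine (key 0 two_pos n).mono (le_of_eq ?_)
      unfold cost
      rw [sum_fin44 fun a b => if (0 + a + b) % 2 = 0 then u ^ ((1 * (a + b) + (0 + a + b) % 2 - 0) / 2) else 0]
      norm_num [ol]
      ring
    · refine (key 1 (by norm_num) n).mono (le_of_eq ?_)
      unfold cost
      rw [sum_fin44 fun a b => if (1 + a + b) % 2 = 0 then u ^ ((1 * (a + b) + (1 + a + b) % 2 - 1) / 2) else 0]
      norm_num [ol]
      ring
  | succ k ih =>
    obtain ⟨n1, n2⟩ := ol_nonneg hu0.le hu1 k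
    set E := (ol u k).1 with hE
    set O := (ol u k).2 with hO
    have hg := one_div_nonneg' hu0.le hu1
    -- even level `2 k + 2`
    have hev : ∀ ε < 2, ∀ n, B1 (Nat.card F) n (SO F (2 * k + 3) ε n)
        ((if ε = 0 then E else O) * (1 / (1 - u ^ (2 * k + 1)))) := by
      intro ε hε n
      have hsub := step_even' (F := F) (J := 2 * k + 2) ⟨k + 1, by ring⟩ ε hε n
      obtain rfl | rfl : ε = 0 ∨ ε = 1 := by omega
      · have := stepG_B1 hq1 (triples h2) n1 (fun m => (ih m).1) (reco (2 * k + 2) 0 0) (2 * k + 2) 0 n (by omega) hu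
        refine (this.subset hsub).mono (le_of_eq ?_)
        rw [if_pos rfl, pow_zero, mul_one, show 2 * k + 2 - 1 = 2 * k + 1 by omega]
      · have := stepG_B1 hq1 (triples h2) n2 (fun m => (ih m).2) (reco (2 * k + 2) 0 0) (2 * k + 2) 0 n (by omega) hu
        refine (this.subset hsub).mono (le_of_eq ?_)
        rw [if_neg one_ne_zero, pow_zero, mul_one, show 2 * k + 2 - 1 = 2 * k + 1 by omega]
    -- odd level `2 k + 3`
    have key : ∀ ε < 2, ∀ n, B1 (Nat.card F) n (SO F (2 * k + 3 + 1) ε n) (∑ x : Fin 4 × Fin 4,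
        (if (ε + (opt x.1).1 + (opt x.2).1) % 2 = 0 then E else O) * (1 / (1 - u ^ (2 * k + 1))) *
          u ^ (cost (2 * k + 3) ε x.1 x.2) * (1 / (1 - u ^ (2 * k + 2)))) := by
      intro ε hε n
      refine B1.subset ?_ (step_odd (J := 2 * k + 3) ⟨k + 1, by ring⟩ ε hε n)
      apply B1.iUnion
      rintro ⟨i, l⟩
      dsimp only
      have hlt : (ε + (opt i).1 + (opt l).1) % 2 < 2 := Nat.mod_lt _ two_pos
      have := stepG_B1 hq1 (triples h2) (C := (if (ε + (opt i).1 + (opt l).1) % 2 = 0 then E else O) *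
        (1 / (1 - u ^ (2 * k + 1)))) (mul_nonneg (by split_ifs <;> assumption) (hg _))
        (fun m => hev _ hlt m) (reco (2 * k + 3) i l) (2 * k + 3)
        (cost (2 * k + 3) ε i l) n (by omega) hu
      rwa [show 2 * k + 3 - 1 = 2 * k + 2 by omega] at this
    intro n
    constructor
    · refine (key 0 two_pos n).mono (le_of_eq ?_)
      unfold cost
      rw [sum_fin44 fun a b => (if (0 + a + b) % 2 = 0 then E else O) * (1 / (1 - u ^ (2 * k + 1))) *
          u ^ (((2 * k + 3) * (a + b) + (0 + a + b) % 2 - 0) / 2) * (1 / (1 - u ^ (2 * k + 2)))]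
      have e0 : ((2 * k + 3) * (0 + 0) + (0 + 0 + 0) % 2 - 0) / 2 = 0 := by norm_num
      have e1 : ((2 * k + 3) * 1 + 1) / 2 = k + 2 := by omega
      have e2 : ((2 * k + 3) * 2) / 2 = 2 * k + 3 := by omega
      have e3 : ((2 * k + 3) * 3 + 1) / 2 = 3 * k + 5 := by omega
      have e4 : ((2 * k + 3) * 4) / 2 = 4 * k + 6 := by omega
      norm_num only [Nat.zero_add, Nat.add_zero, Nat.sub_zero, Nat.mul_zero, if_true, if_false]
      rw [ol, ← hE, ← hO]
      simp only [e1, e2, e3, e4]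
      norm_num
      ring
    · refine (key 1 (by norm_num) n).mono (le_of_eq ?_)
      unfold cost
      rw [sum_fin44 fun a b => (if (1 + a + b) % 2 = 0 then E else O) * (1 / (1 - u ^ (2 * k + 1))) *
          u ^ (((2 * k + 3) * (a + b) + (1 + a + b) % 2 - 1) / 2) * (1 / (1 - u ^ (2 * k + 2)))]
      have e1 : ((2 * k + 3) * 1 - 1) / 2 = k + 1 := by omega
      have e2 : ((2 * k + 3) * 2 + 1 - 1) / 2 = 2 * k + 3 := by omega
      have e3 : ((2 * k + 3) * 3 - 1) / 2 = 3 * k + 4 := by omega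
      have e4 : ((2 * k + 3) * 4 + 1 - 1) / 2 = 4 * k + 6 := by omega
      norm_num only [Nat.zero_add, Nat.add_zero, Nat.sub_zero, Nat.mul_zero, if_true, if_false]
      rw [ol, ← hE, ← hO]
      simp only [e1, e2, e3, e4]
      norm_num
      ring

end Cfsg.Agent.H173.NumOdd
end

-- part: H173/NumOddMain
section
/-!
# The numbers of data of conjugacy classes of orthogonal groups in odd characteristic (helper173)

`finite_odat` (O0), `card_odat_even` (O1), `card_odat_free` (O2), `card_odat_odd_three`, `card_odat_odd_five` (O3).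
-/

set_option autoImplicit false

namespace Cfsg.Agent.H173.NumOdd

open Polynomial Cfsg.Agent.H169 Cfsg.Agent.H171 Cfsg.Agent.H173.Num

theorem ol_mono {u v : ℚ} (h0 : 0 ≤ u) (huv : u ≤ v) (hv : v < 1) (k : ℕ) :
    (ol u k).1 ≤ (ol v k).1 ∧ (ol u k).2 ≤ (ol v k).2 := by
  have hg : ∀ m : ℕ, 0 < m → 1 / (1 - u ^ m) ≤ 1 / (1 - v ^ m) := by
    intro m hm
    apply inv_one_sub_le (pow_le_pow_left₀ h0 huv m)
    exact pow_lt_one₀ (h0.trans huv) hv hm.ne'
  have hg0 := one_div_nonneg' h0 (huv.trans_lt hv)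
  have hp : ∀ m : ℕ, u ^ m ≤ v ^ m := fun m => pow_le_pow_left₀ h0 huv m
  have hv0 : 0 ≤ v := h0.trans huv
  induction k with
  | zero =>
    have p2 := hp 2
    exact ⟨by unfold ol; linarith, by unfold ol; linarith⟩
  | succ k ih =>
    obtain ⟨i1, i2⟩ := ih
    obtain ⟨n1, n2⟩ := ol_nonneg h0 (huv.trans_lt hv) k
    obtain ⟨m1, m2⟩ := ol_nonneg hv0 hv k
    have g1 := hg (2 * k + 1) (by omega)
    have g2 := hg (2 * k + 2) (by omega)
    have g10 := hg0 (2 * k + 1)
    have g20 := hg0 (2 * k + 2)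
    have g11 := g10.trans g1
    have g21 := g20.trans g2
    constructor
    · rw [ol, ol]
      dsimp only
      gcongr
    · rw [ol, ol]
      dsimp only
      gcongr

theorem ol_le_succ {u : ℚ} (h0 : 0 ≤ u) (h1 : u < 1) (k : ℕ) :
    (ol u k).1 ≤ (ol u (k + 1)).1 ∧ (ol u k).2 ≤ (ol u (k + 1)).2 := by
  obtain ⟨n1, n2⟩ := ol_nonneg h0 h1 k
  have g1 := one_le_inv (x := u ^ (2 * k + 1)) (by positivity) (pow_lt_one₀ h0 h1 (by omega))
  have g2 := one_le_inv (x := u ^ (2 * k + 2)) (by positivity) (pow_lt_one₀ h0 h1 (by omega))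
  have key : ∀ a b c d : ℚ, 0 ≤ a → 0 ≤ b → 0 ≤ c → 0 ≤ d → a ≤ (a * (1 + c) + b * d) *
      (1 / (1 - u ^ (2 * k + 1))) * (1 / (1 - u ^ (2 * k + 2))) := by
    intro a b c d ha hb hc hd
    have h3 : a ≤ a * (1 + c) + b * d := by
      have : 0 ≤ a * c := by positivity
      have : 0 ≤ b * d := by positivity
      linarith
    calc a = a * 1 * 1 := by ring
      _ ≤ _ := by gcongr
  constructor
  · rw [ol]
    dsimp only
    have := key (ol u k).1 (ol u k).2 (6 * u ^ (2 * k + 3) + u ^ (4 * k + 6)) (4 * u ^ (k + 2) + 4 * u ^ (3 * k + 5))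
      n1 n2 (by positivity) (by positivity)
    rwa [← add_assoc] at this
  · rw [ol]
    dsimp only
    have := key (ol u k).2 (ol u k).1 (6 * u ^ (2 * k + 3) + u ^ (4 * k + 6)) (4 * u ^ (k + 1) + 4 * u ^ (3 * k + 4))
      n2 n1 (by positivity) (by positivity)
    rwa [← add_assoc] at this

theorem ol_le_of_le {u : ℚ} (h0 : 0 ≤ u) (h1 : u < 1) {k l : ℕ} (hkl : k ≤ l) :
    (ol u k).1 ≤ (ol u l).1 ∧ (ol u k).2 ≤ (ol u l).2 := by
  induction hkl with
  | refl => exact ⟨le_rfl, le_rfl⟩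
  | @step m _ ih =>
    have := ol_le_succ h0 h1 m
    exact ⟨ih.1.trans this.1, ih.2.trans this.2⟩

/-- the tail -/
theorem ol_tail {u l γ T : ℚ} (h0 : 0 < u) (h1 : u < 1) (hl : 0 < l) (hlu : 1 ≤ l ^ 2 * u) (hγ : 0 ≤ γ) (hT : 0 ≤ T)
    (k0 : ℕ) (hx0 : (u ^ (k0 + 1)) ^ 2 < u)
    (h : ∀ x : ℚ, 0 ≤ x → x ≤ u ^ (k0 + 1) →
      (1 + 6 * (u * x ^ 2) + u ^ 2 * x ^ 4 + l * (4 * (u * x) + 4 * (u ^ 2 * x ^ 3))) * (1 + γ * (x * u)) ≤
        (1 + γ * x) * (1 - x ^ 2 / u) * (1 - x ^ 2))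
    (hE : (ol u k0).1 ≤ T) (hO : (ol u k0).2 ≤ l * T) {k : ℕ} (hk : k0 ≤ k) :
    ∃ S, 0 ≤ S ∧ (ol u k).1 ≤ S ∧ (ol u k).2 ≤ l * S ∧ S * (1 + γ * u ^ (k + 1)) ≤ T * (1 + γ * u ^ (k0 + 1)) := by
  induction k, hk using Nat.le_induction with
  | base => exact ⟨T, hT, hE, hO, le_rfl⟩
  | succ k hk ih =>
    obtain ⟨S, hS0, hS1, hS2, hS3⟩ := ih
    have hx := h (u ^ (k + 1)) (by positivity) (pow_le_pow_of_le_one h0.le h1.le (by omega))
    have hxle : u ^ (k + 1) ≤ u ^ (k0 + 1) := pow_le_pow_of_le_one h0.le h1.le (by omega)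
    have e1 : u ^ (2 * k + 3) = u * (u ^ (k + 1)) ^ 2 := by ring
    have e2 : u ^ (k + 2) = u * u ^ (k + 1) := by ring
    have e3 : u ^ (4 * k + 6) = u ^ 2 * (u ^ (k + 1)) ^ 4 := by ring
    have e4 : u ^ (3 * k + 5) = u ^ 2 * (u ^ (k + 1)) ^ 3 := by ring
    have e6 : u ^ (3 * k + 4) = u * (u ^ (k + 1)) ^ 3 := by ring
    have e7 : u ^ (2 * k + 1) = (u ^ (k + 1)) ^ 2 / u := by
      rw [eq_div_iff h0.ne']; ring
    have e8 : u ^ (2 * k + 2) = (u ^ (k + 1)) ^ 2 := by ring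
    have e5 : u ^ (k + 1 + 1) = u ^ (k + 1) * u := by ring
    obtain ⟨n1, n2⟩ := ol_nonneg h0.le h1 k
    have hx0' : 0 < u ^ (k + 1) := by positivity
    have hx1 : u ^ (k + 1) < 1 := pow_lt_one₀ h0.le h1 (by omega)
    set x := u ^ (k + 1) with hxdef
    have hxx : x ^ 2 < u := lt_of_le_of_lt (pow_le_pow_left₀ hx0'.le hxle 2) hx0
    have d1 : 0 < 1 - x ^ 2 / u := by
      rw [sub_pos, div_lt_one h0]; exact hxx
    have d2 : 0 < 1 - x ^ 2 := by nlinarith
    set a := 1 + 6 * (u * x ^ 2) + u ^ 2 * x ^ 4 with ha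
    have ha0 : 0 ≤ a := by positivity
    set b := 4 * (u * x) + 4 * (u ^ 2 * x ^ 3) with hb
    have hb0 : 0 ≤ b := by positivity
    have hc : 4 * x + 4 * (u * x ^ 3) ≤ l * (l * b) := by
      have e9 : l * (l * b) = (l ^ 2 * u) * (4 * x + 4 * (u * x ^ 3)) := by rw [hb]; ring
      rw [e9]
      have : 0 ≤ 4 * x + 4 * (u * x ^ 3) := by positivity
      nlinarith
    refine ⟨S * (a + l * b) * (1 / (1 - x ^ 2 / u)) * (1 / (1 - x ^ 2)), by positivity, ?_, ?_, ?_⟩
    · rw [ol]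
      dsimp only
      rw [e1, e2, e3, e4, e7, e8]
      gcongr
      calc (ol u k).1 * a + (ol u k).2 * b ≤ S * a + (l * S) * b := by gcongr
        _ = S * (a + l * b) := by ring
    · rw [ol]
      dsimp only
      rw [e1, e3, e6, e7, e8]
      have : (ol u k).2 * a + (ol u k).1 * (4 * x + 4 * (u * x ^ 3)) ≤ l * (S * (a + l * b)) := by
        calc (ol u k).2 * a + (ol u k).1 * (4 * x + 4 * (u * x ^ 3)) ≤ (l * S) * a + S * (l * (l * b)) := by gcongr
          _ = _ := by ring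
      calc _ ≤ l * (S * (a + l * b)) * (1 / (1 - x ^ 2 / u)) * (1 / (1 - x ^ 2)) := by gcongr
        _ = _ := by ring
    · refine le_trans ?_ hS3
      rw [e5]
      calc S * (a + l * b) * (1 / (1 - x ^ 2 / u)) * (1 / (1 - x ^ 2)) * (1 + γ * (x * u))
          = S * ((a + l * b) * (1 + γ * (x * u))) * (1 / ((1 - x ^ 2 / u) * (1 - x ^ 2))) := by
            rw [← one_div_mul_one_div (1 - x ^ 2 / u)]; ring
        _ ≤ S * ((1 + γ * x) * (1 - x ^ 2 / u) * (1 - x ^ 2)) * (1 / ((1 - x ^ 2 / u) * (1 - x ^ 2))) := by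
            gcongr
        _ = S * (1 + γ * x) := by
            rw [mul_assoc (1 + γ * x)]
            rw [mul_assoc S, mul_assoc (1 + γ * x), mul_one_div_cancel (mul_pos d1 d2).ne', mul_one]

theorem ol_le {u l γ T B : ℚ} (h0 : 0 < u) (h1 : u < 1) (hl : 0 < l) (hlu : 1 ≤ l ^ 2 * u) (hγ : 0 ≤ γ) (hT : 0 ≤ T)
    (k0 : ℕ) (hx0 : (u ^ (k0 + 1)) ^ 2 < u)
    (h : ∀ x : ℚ, 0 ≤ x → x ≤ u ^ (k0 + 1) →
      (1 + 6 * (u * x ^ 2) + u ^ 2 * x ^ 4 + l * (4 * (u * x) + 4 * (u ^ 2 * x ^ 3))) * (1 + γ * (x * u)) ≤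
        (1 + γ * x) * (1 - x ^ 2 / u) * (1 - x ^ 2))
    (hE : (ol u k0).1 ≤ T) (hO : (ol u k0).2 ≤ l * T) (hB : T * (1 + γ * u ^ (k0 + 1)) ≤ B) (k : ℕ) :
    (ol u k).1 ≤ B ∧ (ol u k).2 ≤ l * B := by
  obtain ⟨S, hS0, hS1, hS2, hS3⟩ := ol_tail h0 h1 hl hlu hγ hT k0 hx0 h hE hO (le_max_right k k0)
  have h3 := ol_le_of_le h0.le h1 (le_max_left k k0)
  have h5 : 0 ≤ S * (γ * u ^ (max k k0 + 1)) := by positivity
  have hSB : S ≤ B := by nlinarith
  exact ⟨h3.1.trans (hS1.trans hSB), h3.2.trans (hS2.trans (mul_le_mul_of_nonneg_left hSB hl.le))⟩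

theorem third_tail (x : ℚ) (h0 : 0 ≤ x) (h1 : x ≤ (1 / 3 : ℚ) ^ (5 + 1)) :
    (1 + 6 * (1 / 3 * x ^ 2) + (1 / 3) ^ 2 * x ^ 4 + 17321 / 10000 * (4 * (1 / 3 * x) + 4 * ((1 / 3) ^ 2 * x ^ 3))) *
      (1 + 36 / 10 * (x * (1 / 3))) ≤ (1 + 36 / 10 * x) * (1 - x ^ 2 / (1 / 3)) * (1 - x ^ 2) := by
  norm_num at h1
  have h2 : x ^ 2 ≤ x * (1 / 729) := by nlinarith
  have h3 : x ^ 3 ≤ x * (1 / 729) := by nlinarith [mul_nonneg h0 h0]
  have h4 : x ^ 4 ≤ x * (1 / 729) := by nlinarith [mul_nonneg h0 h0, mul_nonneg (mul_nonneg h0 h0) h0]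
  have h5 : x ^ 5 ≤ x * (1 / 729) := by
    nlinarith [mul_nonneg h0 h0, mul_nonneg (mul_nonneg h0 h0) h0, mul_nonneg (mul_nonneg (mul_nonneg h0 h0) h0) h0]
  have h6 : 0 ≤ x ^ 4 := by positivity
  have h7 : 0 ≤ x ^ 5 := by positivity
  nlinarith

theorem fifth_tail (x : ℚ) (h0 : 0 ≤ x) (h1 : x ≤ (1 / 5 : ℚ) ^ (3 + 1)) :
    (1 + 6 * (1 / 5 * x ^ 2) + (1 / 5) ^ 2 * x ^ 4 + 22361 / 10000 * (4 * (1 / 5 * x) + 4 * ((1 / 5) ^ 2 * x ^ 3))) *
      (1 + 24 / 10 * (x * (1 / 5))) ≤ (1 + 24 / 10 * x) * (1 - x ^ 2 / (1 / 5)) * (1 - x ^ 2) := by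
  norm_num at h1
  have h2 : x ^ 2 ≤ x * (1 / 625) := by nlinarith
  have h3 : x ^ 3 ≤ x * (1 / 625) := by nlinarith [mul_nonneg h0 h0]
  have h4 : x ^ 4 ≤ x * (1 / 625) := by nlinarith [mul_nonneg h0 h0, mul_nonneg (mul_nonneg h0 h0) h0]
  have h5 : x ^ 5 ≤ x * (1 / 625) := by
    nlinarith [mul_nonneg h0 h0, mul_nonneg (mul_nonneg h0 h0) h0, mul_nonneg (mul_nonneg (mul_nonneg h0 h0) h0) h0]
  have h6 : 0 ≤ x ^ 4 := by positivity
  have h7 : 0 ≤ x ^ 5 := by positivity
  nlinarith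

theorem ol_third (k : ℕ) : (ol (1 / 3) k).1 ≤ 163 / 10 ∧ (ol (1 / 3) k).2 ≤ 2825 / 100 := by
  have := ol_le (u := 1 / 3) (l := 17321 / 10000) (γ := 36 / 10) (T := 162033 / 10000) (B := 16284 / 1000)
    (by norm_num) (by norm_num) (by norm_num) (by norm_num) (by norm_num) (by norm_num) 5 (by norm_num) third_tail
    (by norm_num [ol]) (by norm_num [ol]) (by norm_num) k
  exact ⟨this.1.trans (by norm_num), this.2.trans (by norm_num)⟩

theorem ol_fifth (k : ℕ) : (ol (1 / 5) k).1 ≤ 45 / 10 ∧ (ol (1 / 5) k).2 ≤ 101 / 10 := by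
  have := ol_le (u := 1 / 5) (l := 22361 / 10000) (γ := 24 / 10) (T := 44638 / 10000) (B := 4481 / 1000)
    (by norm_num) (by norm_num) (by norm_num) (by norm_num) (by norm_num) (by norm_num) 3 (by norm_num) fifth_tail
    (by norm_num [ol]) (by norm_num [ol]) (by norm_num) k
  exact ⟨this.1.trans (by norm_num), this.2.trans (by norm_num)⟩

/-- the product for `u = 1 / 3` -/
theorem pr_third (k : ℕ) : pr (1 / 3) k ≤ 1786 / 1000 := by
  have h : ∀ k, 7 ≤ k → pr (1 / 3) k * (1 + 6 / 10 * (1 / 3 : ℚ) ^ k) ≤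
      pr (1 / 3) 7 * (1 + 6 / 10 * (1 / 3 : ℚ) ^ 7) := by
    intro k hk
    induction k, hk using Nat.le_induction with
    | base => exact le_rfl
    | succ k hk ih =>
      refine le_trans ?_ ih
      rw [pr]
      have hx : (1 / 3 : ℚ) ^ k ≤ (1 / 3) ^ 7 := pow_le_pow_of_le_one (by norm_num) (by norm_num) hk
      have hx0 : 0 < (1 / 3 : ℚ) ^ k := by positivity
      rw [pow_succ]
      set x := (1 / 3 : ℚ) ^ k
      have hp := pr_pos (u := 1 / 3) (by norm_num) (by norm_num) k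
      norm_num at hx
      have d1 : 0 < 1 - x * (1 / 3) := by linarith
      rw [mul_assoc]
      apply mul_le_mul_of_nonneg_left _ hp.le
      rw [div_mul_eq_mul_div, one_mul, div_le_iff₀ d1]
      nlinarith
  have h1 := h (max k 7) (le_max_right _ _)
  have h2 := pr_le_of_le (u := 1 / 3) (by norm_num) (by norm_num) (le_max_left k 7)
  have h3 := pr_pos (u := 1 / 3) (by norm_num) (by norm_num) (max k 7)
  have h4 : 0 ≤ pr (1 / 3) (max k 7) * (6 / 10 * (1 / 3 : ℚ) ^ (max k 7)) := by positivity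
  have h5 : pr (1 / 3) 7 * (1 + 6 / 10 * (1 / 3 : ℚ) ^ 7) ≤ 1786 / 1000 := by norm_num [pr]
  nlinarith

theorem pr_mono {u v : ℚ} (h0 : 0 ≤ u) (huv : u ≤ v) (hv : v < 1) (k : ℕ) : pr u k ≤ pr v k := by
  induction k with
  | zero => exact le_rfl
  | succ k ih =>
    rw [pr, pr]
    have h1 : 1 / (1 - u ^ (k + 1)) ≤ 1 / (1 - v ^ (k + 1)) := by
      apply inv_one_sub_le (pow_le_pow_left₀ h0 huv _)
      exact pow_lt_one₀ (h0.trans huv) hv (by omega)
    have h2 := one_div_nonneg' h0 (huv.trans_lt hv) (k + 1)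
    exact mul_le_mul ih h1 h2 (pr_pos (h0.trans huv) hv k).le

section Main

variable {F : Type*} [Field F] [Finite F]

theorem bound_free (h2 : (2 : F) ≠ 0) (u : ℚ) (hu : u = 1 / (Nat.card F : ℚ)) (k : ℕ) : ∀ n,
    B1 (Nat.card F) n (SF F (k + 2) n) (pr u k) := by
  have hq1 : 1 < Nat.card F := Finite.one_lt_card
  have hq0 : (0 : ℚ) < Nat.card F := by exact_mod_cast (by omega : 0 < Nat.card F)
  have hu0 : 0 < u := by rw [hu]; positivity
  have hu1 : u < 1 := by rw [hu, div_lt_one hq0]; exact_mod_cast hq1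
  induction k with
  | zero =>
    intro n
    have e1 := stepG_one hq1 (triples h2) (O0 F) SF_one (reco 1 0 0) 0 n hu
    rw [pow_zero] at e1
    exact e1.subset (step_free 1 n)
  | succ k ih =>
    intro n
    refine (B1.subset (stepG_B1 hq1 (triples h2) (pr_pos hu0.le hu1 k).le ih (reco (k + 2) 0 0) (k + 2) 0 n (by omega) hu)
      (step_free (k + 2) n)).mono (le_of_eq ?_)
    rw [pr, pow_zero, mul_one, show k + 2 - 1 = k + 1 by omega]

theorem B1_even (h2 : (2 : F) ≠ 0) (n : ℕ) :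
    B1 (Nat.card F) n {D : ODat F | D.Ok (2 * n)} (ol (1 / (Nat.card F : ℚ)) n).1 :=
  ((bound_aux h2 _ rfl n n).1).subset fun D hD => Pdo.of_ok (N := 2 * n) hD (by omega)

theorem B1_odd (h2 : (2 : F) ≠ 0) (n : ℕ) :
    B1 (Nat.card F) n {D : ODat F | D.Ok (2 * n + 1)} (ol (1 / (Nat.card F : ℚ)) n).2 :=
  ((bound_aux h2 _ rfl n n).2).subset fun D hD => Pdo.of_ok (N := 2 * n + 1) hD (by omega)

theorem B1_free (h2 : (2 : F) ≠ 0) (n : ℕ) :
    B1 (Nat.card F) n {D : ODat F | D.Ok (2 * n) ∧ D.Free} (pr (1 / (Nat.card F : ℚ)) (2 * n)) := by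
  refine (bound_free h2 _ rfl (2 * n) n).subset ?_
  rintro D ⟨hD, hF⟩
  exact ⟨Pdo.of_ok hD (by omega), hF⟩

/-- **(O0)** -/
theorem finite_odat (h2 : (2 : F) ≠ 0) (N : ℕ) : Finite {D : ODat F // D.Ok N} := by
  rcases Nat.even_or_odd N with ⟨n, hn⟩ | ⟨n, hn⟩
  · rw [hn, ← two_mul]; exact (B1_even h2 n).1
  · rw [hn]; exact (B1_odd h2 n).1

theorem three_le_card (h2 : (2 : F) ≠ 0) : 3 ≤ Nat.card F := by
  have hq1 : 1 < Nat.card F := Finite.one_lt_card
  rcases Nat.lt_or_ge (Nat.card F) 3 with h | h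
  · exfalso
    have h3 : Nat.card F = 2 := by omega
    have hfin := Fintype.ofFinite F
    rw [Nat.card_eq_fintype_card] at h3
    have := Nat.cast_card_eq_zero F
    rw [h3] at this
    exact h2 (by exact_mod_cast this)
  · exact h

theorem card_even_le (h2 : (2 : F) ≠ 0) (n : ℕ) :
    (Nat.card {D : ODat F // D.Ok (2 * n)} : ℚ) ≤ 163 / 10 * (Nat.card F : ℚ) ^ n := by
  have h1 := (B1_even h2 n).2
  have hq : (3 : ℚ) ≤ Nat.card F := by exact_mod_cast three_le_card h2
  have hu0 : (0 : ℚ) ≤ 1 / (Nat.card F : ℚ) := by positivity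
  have hu : 1 / (Nat.card F : ℚ) ≤ 1 / 3 := one_div_le_one_div_of_le (by norm_num) hq
  have h3 := ((ol_mono hu0 hu (by norm_num) n).1).trans (ol_third n).1
  have h4 : (0 : ℚ) < (Nat.card F : ℚ) ^ n := by positivity
  exact h1.trans (by nlinarith)

/-- **(O1)** -/
theorem card_odat_even (h2 : (2 : F) ≠ 0) (n : ℕ) :
    10 * Nat.card {D : ODat F // D.Ok (2 * n)} ≤ 163 * Nat.card F ^ n := by
  have h1 := card_even_le h2 n
  have h3 : ((10 * Nat.card {D : ODat F // D.Ok (2 * n)} : ℕ) : ℚ) ≤ ((163 * Nat.card F ^ n : ℕ) : ℚ) := by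
    push_cast
    linarith
  exact_mod_cast h3

/-- **(O2)** -/
theorem card_odat_free (h2 : (2 : F) ≠ 0) (n : ℕ) :
    1000 * Nat.card {D : ODat F // D.Ok (2 * n) ∧ D.Free} ≤ 1786 * Nat.card F ^ n := by
  have h1 := (B1_free h2 n).2
  have hq : (3 : ℚ) ≤ Nat.card F := by exact_mod_cast three_le_card h2
  have hu0 : (0 : ℚ) ≤ 1 / (Nat.card F : ℚ) := by positivity
  have hu : 1 / (Nat.card F : ℚ) ≤ 1 / 3 := one_div_le_one_div_of_le (by norm_num) hq
  have h4 := (pr_mono hu0 hu (by norm_num) (2 * n)).trans (pr_third (2 * n))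
  have h5 : (0 : ℚ) < (Nat.card F : ℚ) ^ n := by positivity
  have h6 : (Nat.card {D : ODat F // D.Ok (2 * n) ∧ D.Free} : ℚ) ≤
    pr (1 / (Nat.card F : ℚ)) (2 * n) * (Nat.card F : ℚ) ^ n := h1
  have h3 : ((1000 * Nat.card {D : ODat F // D.Ok (2 * n) ∧ D.Free} : ℕ) : ℚ) ≤ ((1786 * Nat.card F ^ n : ℕ) : ℚ) := by
    push_cast
    nlinarith
  exact_mod_cast h3

/-- **(O3)**, `q = 3` -/
theorem card_odat_odd_three (h : Nat.card F = 3) (n : ℕ) :
    100 * Nat.card {D : ODat F // D.Ok (2 * n + 1)} ≤ 2825 * 3 ^ n := by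
  have h2 : (2 : F) ≠ 0 := by
    intro h0
    have hfin := Fintype.ofFinite F
    rw [Nat.card_eq_fintype_card] at h
    have h3 := Nat.cast_card_eq_zero F
    rw [h] at h3
    have h4 : (1 : F) = 0 := by
      have : (1 : F) = (3 : ℕ) - 2 := by push_cast; ring
      rw [this, h3, h0, sub_zero]
    exact one_ne_zero h4
  have h1 : (Nat.card {D : ODat F // D.Ok (2 * n + 1)} : ℚ) ≤
    (ol (1 / (Nat.card F : ℚ)) n).2 * (Nat.card F : ℚ) ^ n := (B1_odd h2 n).2
  rw [h] at h1
  have h3 := (ol_third n).2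
  have h5 : (0 : ℚ) < (3 : ℚ) ^ n := by positivity
  have h6 : ((100 * Nat.card {D : ODat F // D.Ok (2 * n + 1)} : ℕ) : ℚ) ≤ ((2825 * 3 ^ n : ℕ) : ℚ) := by
    push_cast at h1 ⊢
    nlinarith
  exact_mod_cast h6

/-- **(O3)**, `q ≥ 5` -/
theorem card_odat_odd_five (h2 : (2 : F) ≠ 0) (h : 5 ≤ Nat.card F) (n : ℕ) :
    10 * Nat.card {D : ODat F // D.Ok (2 * n + 1)} ≤ 101 * Nat.card F ^ n := by
  have h1 : (Nat.card {D : ODat F // D.Ok (2 * n + 1)} : ℚ) ≤
    (ol (1 / (Nat.card F : ℚ)) n).2 * (Nat.card F : ℚ) ^ n := (B1_odd h2 n).2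
  have hq : (5 : ℚ) ≤ Nat.card F := by exact_mod_cast h
  have hu0 : (0 : ℚ) ≤ 1 / (Nat.card F : ℚ) := by positivity
  have hu : 1 / (Nat.card F : ℚ) ≤ 1 / 5 := one_div_le_one_div_of_le (by norm_num) hq
  have h3 := ((ol_mono hu0 hu (by norm_num) n).2).trans (ol_fifth n).2
  have h5 : (0 : ℚ) < (Nat.card F : ℚ) ^ n := by positivity
  have h6 : ((10 * Nat.card {D : ODat F // D.Ok (2 * n + 1)} : ℕ) : ℚ) ≤ ((101 * Nat.card F ^ n : ℕ) : ℚ) := by
    push_cast
    nlinarith
  exact_mod_cast h6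

end Main

end Cfsg.Agent.H173.NumOdd
end
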