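import Cfsg.Agent.H35.ExcIdxTw_m3
import Cfsg.Agent.H607.Car.E6Def
import Cfsg.Agent.H940.RatB.Count
import Cfsg.Agent.H702.RealTable
import Cfsg.Agent.FastGrp
import Cfsg.Agent.Prune
set_option linter.all false
prune_inst 0x7f00000000000000000000000000000000000000000000000000000000000000000000000000000000000000000000000000000000000000000000000000000000000000000000000000000000000000003fffffffffffffffffffffffffffbeffbdffffffff
open scoped Cfsg.Agent.FastGrp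

/-!
# Row `te6` of the table of the project REALB0 (S4918, S4915): `²E₆(q)`, `p` not dividing `q`

* `selfpaired` : if `w⁻¹ ∈ W_J w W_J` for all `w` in the Weyl group of a root group datum, then `x⁻¹ ∈ P_J x P_J`;
* `weyl_F4` : this holds for `F₄`, `J = {0, 1, 2}` (stabiliser of the highest short root);
* `index_te6` : `|G : P_J| (q² - 1) = (q⁵ + 1) (q⁹ + 1) (q¹² - 1)`;
* `te6` : the row. If the order of `-q` modulo `p` is even, an element of order `p` is real; otherwise `p` divides the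
  index of `P_J`.
-/

set_option autoImplicit false
set_option linter.unusedSectionVars false

namespace Cfsg.Agent.H169.RealTE6

open CoxeterSystem Cfsg.Agent.ChevalleyStructure.CoxeterGeom Cfsg.Agent.Tits.Roots Cfsg.Agent.Tits.Core
  Cfsg.Agent.Tits.RootComb Cfsg.Agent.Nodes.Comb Cfsg.Agent.Nodes.Reps Cfsg.Agent.Nodes.BNOf
  Cfsg.Agent.Nodes.StabComb Cfsg.Agent.Nodes.Bruhat Cfsg.Agent.Nodes.LeviDec Cfsg.Agent.H35.Poin
  Cfsg.Agent.ChevalleyStructure.WeylAbstract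

/-! ### Self-paired orbitals -/

section Sel

variable {I W Y : Type*} [Fintype I] [DecidableEq I] [Group W] [Group Y] {M : CoxeterMatrix I}
  {cs : CoxeterSystem M W} {A : I → I → ℤ} {h : IsCartan M A} {p : ℕ} {T : Subgroup Y} {n : I → Y}
  {X : (I → ℤ) → Subgroup Y}

theorem selfpaired [Finite W] (R : RGD cs h p T n X) (hG : GG cs h T X = ⊤) {J : Set I}
    (hW : ∀ w : W, ∃ u ∈ WJ cs J, ∃ v ∈ WJ cs J, w⁻¹ = u * w * v) (x : Y) :
    ∃ a ∈ PJ cs h T X J, ∃ b ∈ PJ cs h T X J, x⁻¹ = a * x * b := by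
  have hx : x ∈ GG cs h T X := by rw [hG]; exact Subgroup.mem_top _
  obtain ⟨w, b1, hb1, g, hg, b2, hb2, rfl⟩ := (mem_GG R).1 hx
  obtain ⟨u, hu, v, hv, e⟩ := hW w
  obtain ⟨gu, hgu⟩ := exists_rp cs R.nsys u
  obtain ⟨gv, hgv⟩ := exists_rp cs R.nsys v
  have h1 : Rp cs R.nsys w⁻¹ (gu * g * gv) := by
    rw [e]; exact (hgu.mul hg).mul hgv
  have ht := h1.unique hg.inv
  have hB : ∀ {b : Y}, b ∈ RGD.B cs h T X → b ∈ PJ cs h T X J := fun hb => B_le_PJ hb
  refine ⟨b2⁻¹ * gu * b1⁻¹, mul_mem (mul_mem (inv_mem (hB hb2)) (LJ_le_PJ (rp_mem_LJ R hu hgu))) (inv_mem (hB hb1)),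
    b2⁻¹ * (gv * ((gu * g * gv)⁻¹ * g⁻¹)) * b1⁻¹,
    mul_mem (mul_mem (inv_mem (hB hb2)) (mul_mem (LJ_le_PJ (rp_mem_LJ R hv hgv)) (hB (RGD.T_le_B ht))))
      (inv_mem (hB hb1)), ?_⟩
  group

/-- If all the vectors of the orbit of `r` can be interchanged with `r` then the double cosets of the stabiliser are
self-inverse. -/
theorem weyl_selfpaired [Finite W] {J : Set I} {r : I → ℤ} (hr : Dom A r) (hJ : orth cs h r ⊆ J) (hJ' : J ⊆ orth cs h r)
    (hsw : ∀ w : W, ∃ g : W, rep cs h g r = rep cs h w r ∧ rep cs h g (rep cs h w r) = r) (w : W) :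
    ∃ u ∈ WJ cs J, ∃ v ∈ WJ cs J, w⁻¹ = u * w * v := by
  have hJJ : orth cs h r = J := Set.Subset.antisymm hJ hJ'
  obtain ⟨g, h1, h2⟩ := hsw w
  have a1 : g⁻¹ * w ∈ WJ cs J := by
    rw [← hJJ]
    refine mem_WJ_of_rep hr ?_
    rw [rep_mul_apply, ← h1, rep_inv_apply]
  have a2 : g * w ∈ WJ cs J := by
    rw [← hJJ]
    refine mem_WJ_of_rep hr ?_
    rw [rep_mul_apply, h2]
  -- `w⁻¹ = (g * w)⁻¹ * w * (g⁻¹ * w)⁻¹`
  refine ⟨(g * w)⁻¹, inv_mem a2, (g⁻¹ * w)⁻¹, inv_mem a1, ?_⟩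
  group

end Sel

/-! ### The Weyl group of type `F₄` -/

section F4

open Cfsg.Agent.H696.GmnNeg

/-- the short roots (simple root coordinates) `x`, with a word which interchanges `x` and the highest short root -/
def tab : List ((Fin 4 → ℤ) × List (Fin 4)) := [
  (![1, 2, 3, 2], []),
  (![1, 2, 3, 1], [3]),
  (![1, 2, 2, 1], [2, 3, 2]),
  (![1, 1, 2, 1], [1, 2, 3, 2, 1]),
  (![1, 1, 1, 1], [2, 1, 2, 3, 2, 1, 2]),
  (![1, 1, 1, 0], [3, 2, 1, 2, 3]),
  (![0, 1, 2, 1], [0, 1, 2, 3, 2, 1, 0]),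
  (![0, 1, 1, 1], [2, 0, 1, 2, 3, 2, 1, 2, 0]),
  (![0, 1, 1, 0], [3, 2, 0, 1, 2, 3, 0]),
  (![0, 0, 1, 1], [1, 2, 0, 1, 2, 3, 2, 1, 2, 0, 1]),
  (![0, 0, 1, 0], [3, 1, 2, 0, 1, 2, 3, 0, 1]),
  (![0, 0, 0, 1], [2, 1, 2, 0, 1, 2, 3, 2, 1, 2, 0, 1, 2]),
  (![0, 0, 0, -1], [3, 2, 1, 2, 0, 1, 2, 3]),
  (![0, 0, -1, 0], [2, 3, 1, 2, 0, 1, 2, 3, 0, 1, 2]),
  (![0, 0, -1, -1], [2, 3, 2, 1, 2, 0, 1, 2, 3, 2]),
  (![0, -1, -1, 0], [1, 2, 3, 1, 2, 0, 1, 2, 3, 0, 1, 2, 1]),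
  (![0, -1, -1, -1], [1, 2, 3, 2, 1, 2, 0, 1, 2, 3, 2, 1]),
  (![0, -1, -2, -1], [2, 1, 2, 3, 2, 1, 2, 0, 1, 2, 3, 2, 1, 2]),
  (![-1, -1, -1, 0], [0, 1, 2, 3, 1, 2, 0, 1, 2, 3, 0, 1, 2, 1, 0]),
  (![-1, -1, -1, -1], [0, 1, 2, 3, 2, 1, 2, 0, 1, 2, 3, 2, 1, 0]),
  (![-1, -1, -2, -1], [2, 0, 1, 2, 3, 2, 1, 2, 0, 1, 2, 3, 2, 1, 2, 0]),
  (![-1, -2, -2, -1], [1, 2, 0, 1, 2, 3, 2, 1, 2, 0, 1, 2, 3, 2, 1, 2, 0, 1]),
  (![-1, -2, -3, -1], [2, 1, 2, 0, 1, 2, 3, 2, 1, 2, 0, 1, 2, 3, 2, 1, 2, 0, 1, 2]),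
  (![-1, -2, -3, -2], [3, 2, 1, 2, 0, 1, 2, 3, 2, 1, 2, 0, 1, 2, 3])]

/-- the highest short root -/
def hs : Fin 4 → ℤ := ![1, 2, 3, 2]

theorem tab_sw : ∀ e ∈ tab, word Nodes.RGDTwE6.A e.2 hs = e.1 ∧ word Nodes.RGDTwE6.A e.2 e.1 = hs := by decide +kernel

theorem tab_cl : ∀ e ∈ tab, ∀ i : Fin 4, ∃ e' ∈ tab, rf Nodes.RGDTwE6.A i e.1 = e'.1 := by decide +kernel

theorem tab_hs : ∃ e ∈ tab, hs = e.1 := by decide +kernel

theorem dom_hs : ∀ i : Fin 4, 0 ≤ ∑ k, Nodes.RGDTwE6.A i k * hs k := by decide +kernel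

theorem orth_hs : ∀ i : Fin 4, (∑ k, Nodes.RGDTwE6.A i k * hs k = 0 ↔ i ≠ 3) := by decide +kernel

variable {W : Type*} [Group W] (cs : CoxeterSystem CoxeterMatrix.F₄ W)

theorem rep_mem_tab (w : W) : ∃ e ∈ tab, rep cs Nodes.RGDTwE6.isCartan w hs = e.1 := by
  obtain ⟨ω, rfl⟩ := cs.wordProd_surjective w
  induction ω with
  | nil =>
    rw [wordProd_nil, map_one, Module.End.one_apply]
    exact tab_hs
  | cons i ω ih =>
    obtain ⟨e, he, h1⟩ := ih
    obtain ⟨e', he', h2⟩ := tab_cl e he i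
    refine ⟨e', he', ?_⟩
    rw [wordProd_cons, rep_mul_apply, h1, rep_eq_rf, h2]

theorem weyl_F4 [Finite W] (w : W) : ∃ u ∈ WJ cs {j | j ≠ 3}, ∃ v ∈ WJ cs {j | j ≠ 3}, w⁻¹ = u * w * v := by
  have ho : ∀ i : Fin 4, i ∈ orth cs Nodes.RGDTwE6.isCartan hs ↔ i ≠ 3 := fun i => by
    rw [mem_orth]
    exact orth_hs i
  refine weyl_selfpaired (h := Nodes.RGDTwE6.isCartan) (r := hs) (fun i => dom_hs i) (fun i hi => (ho i).1 hi)
    (fun i hi => (ho i).2 hi) (fun w => ?_) w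
  obtain ⟨e, he, h1⟩ := rep_mem_tab cs w
  obtain ⟨h2, h3⟩ := tab_sw e he
  refine ⟨cs.wordProd e.2, ?_, ?_⟩
  · rw [rep_word, h1, h2]
  · rw [rep_word, h1, h3]

end F4

/-! ### Chains of weights -/

section Chain

/-- the action on coweights -/
def actA {ι : Type*} (A : ι → ι → ℤ) (i : ι) (m : ι → ℤ) : ι → ℤ := fun k => m k - m i * A i k

/-- a chain of coweights -/
def muA {ι : Type*} [DecidableEq ι] (A : ι → ι → ℤ) (c : ℕ → ι) : ℕ → (ι → ℤ)
  | 0 => Pi.single (c 0) 1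
  | t + 1 => actA A (c t) (muA A c t)

variable {ι Φ : Type*} [Fintype ι] [DecidableEq ι] (R : RData ι Φ)

/-- the chain `c` is an orbit of the parabolic subgroup of `J` -/
structure ChainOK (A : ι → ι → ℤ) (J : List ι) (c : List ι) (i0 : ι) : Prop where
  pos : ∀ t < c.length, 0 < muA A (fun t => c.getD t i0) t (c.getD t i0)
  mem : ∀ t < c.length, c.getD t i0 ∈ J
  cl : ∀ t < c.length + 1, ∀ j ∈ J, ∃ s < c.length + 1, actA A j (muA A (fun t => c.getD t i0) t) =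
    muA A (fun t => c.getD t i0) s
  inj : ∀ s < c.length + 1, ∀ t < c.length + 1, muA A (fun t => c.getD t i0) s = muA A (fun t => c.getD t i0) t → s = t

/-- the weights of a chain -/
def wt {ι S : Type*} [Monoid S] (y : ι → S) (c : List ι) (i0 : ι) (t : ℕ) : S :=
  ((List.range t).map fun s => y (c.getD s i0)).prod

theorem sum_chain [Finite Φ] [Fintype Φ] {S : Type*} [CommSemiring S] (x : Φ → S)
    (hx : ∀ i r, x (R.refl i r) = x r) (hxn : ∀ r, x (R.neg r) = x r) {J c : List ι} {i0 : ι} {y : ι → S}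
    (hy : ∀ i, x (R.simple i) = y i) (hc : ChainOK R.A J c i0) :
    ∑ᶠ w ∈ (R.W {j | j ∈ J} : Set (Equiv.Perm Φ)), R.Q x w =
      (∑ t ∈ Finset.range (c.length + 1), wt y c i0 t) *
        ∑ᶠ v ∈ (R.W ({j | j ∈ J} \ {c.getD 0 i0}) : Set (Equiv.Perm Φ)), R.Q x v := by
  classical
  set c' : ℕ → ι := fun t => c.getD t i0 with hc'
  have hQ : ∀ t < c.length + 1, R.Qw x (muA R.A c' t) = wt y c i0 t := by
    intro t
    induction t with
    | zero => intro _; exact Qw_single R x _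
    | succ t ih =>
      intro ht
      show R.Qw x (R.act (c' t) (muA R.A c' t)) = _
      rw [Qw_act R x hx _ _ (hc.pos t (by omega)), ih (by omega), hy]
      unfold wt
      rw [List.range_succ, List.map_append, List.prod_append, mul_comm]
      simp [hc']
  have hreach : ∀ t < c.length + 1, R.Reach {j | j ∈ J} (c' 0) (muA R.A c' t) := by
    intro t
    induction t with
    | zero => intro _; exact RData.Reach.base
    | succ t ih => intro ht; exact RData.Reach.step _ _ (hc.mem t (by omega)) (ih (by omega))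
  rw [R.sum_step x hx hxn (J := {j | j ∈ J}) (k := c' 0) ((Finset.range (c.length + 1)).image (muA R.A c'))]
  · congr 1
    rw [Finset.sum_image]
    · exact Finset.sum_congr rfl fun t ht => hQ t (Finset.mem_range.1 ht)
    · intro s hs t ht e
      rw [Finset.coe_range, Set.mem_Iio] at hs ht
      exact hc.inj s hs t ht e
  · exact Finset.mem_image.2 ⟨0, by simp only [_root_.Finset.mem_range, _root_.lt_add_iff_pos_left, _root_.Order.lt_add_one_iff, _root_.zero_le], rfl⟩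
  · intro μ hμ j hj
    obtain ⟨t, ht, rfl⟩ := Finset.mem_image.1 hμ
    rw [Finset.mem_range] at ht
    obtain ⟨s, hs, e⟩ := hc.cl t ht j hj
    exact Finset.mem_image.2 ⟨s, Finset.mem_range.2 hs, e.symm⟩
  · intro μ hμ
    obtain ⟨t, ht, rfl⟩ := Finset.mem_image.1 hμ
    exact hreach t (Finset.mem_range.1 ht)

end Chain

section Par

variable {I W Y : Type*} [Fintype I] [DecidableEq I] [Group W] [Group Y] {M : CoxeterMatrix I}
  {cs : CoxeterSystem M W} {A : I → I → ℤ} {h : IsCartan M A} {p : ℕ} {T : Subgroup Y} {n : I → Y}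
  {X : (I → ℤ) → Subgroup Y} (R : RGD cs h p T n X)

include R

/-- **The order of a parabolic subgroup: one step.** -/
theorem card_PJ_chain [Finite W] [Finite Y] {J J' c : List I} {i0 : I} {y : I → ℕ}
    (hy : ∀ i, Nat.card (X (sr i)) = y i) (hc : ChainOK A J c i0) (hJ' : ∀ j, j ∈ J' ↔ j ∈ J ∧ j ≠ c.getD 0 i0)
    {N : ℕ} (hN : Nat.card ↥(PJ cs h T X {j | j ∈ J'}) = N * Nat.card ↥(RGD.B cs h T X)) :
    Nat.card ↥(PJ cs h T X {j | j ∈ J}) =
      (∑ t ∈ Finset.range (c.length + 1), wt y c i0 t) * N * Nat.card ↥(RGD.B cs h T X) := by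
  classical
  have : Finite (Rt cs h) := finite_rt cs h
  have : Fintype (Rt cs h) := Fintype.ofFinite _
  rw [mul_assoc, ← hN, card_PJ_sum R, card_PJ_sum R]
  have h1 := sum_chain (rdata cs h) (fun r => Nat.card (X r.1)) ?_ ?_ (J := J) (c := c) (i0 := i0) (y := y) hy hc
  · rw [h1]
    have h2 : ({j | j ∈ J} \ {c.getD 0 i0} : Set I) = {j | j ∈ J'} := by
      ext j
      simp only [Set.mem_sdiff, Set.mem_ofPred_eq, Set.mem_singleton_iff]
      exact (hJ' j).symm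
    rw [h2]
    ring
  · intro i r
    exact Cfsg.Agent.Nodes.CardSup.card_X_rep R _ r.2
  · intro r
    exact card_X_neg R r.2

end Par

/-! ### The index -/

section Idx

open Cfsg.Lie Cfsg.Agent.ChevalleyStructure Cfsg.Agent.ChevalleyStructure.TwE6BN
open Cfsg.Agent.ChevalleyStructure.TwE6Basic (posE negE sg fix n exists_frob twisted_le_fix)
open Cfsg.Agent.H35.ExcIdx Cfsg.Agent.H35.PoinNum

theorem chain0 : ChainOK Nodes.RGDTwE6.A [0, 1, 2] [0, 1, 2, 1, 0] 0 := by constructor <;> decide +kernel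
theorem chain1 : ChainOK Nodes.RGDTwE6.A [1, 2] [1, 2, 1] 0 := by constructor <;> decide +kernel
theorem chain2 : ChainOK Nodes.RGDTwE6.A [2] [2] 0 := by constructor <;> decide +kernel

variable {K : Type*} [Field K] [Fintype K] {q : ℕ} {φ : K →+* K}

theorem poly (q : ℕ) : (∑ t ∈ Finset.range 6, wt (fE q) [0, 1, 2, 1, 0] 0 t) *
    ((∑ t ∈ Finset.range 4, wt (fE q) [1, 2, 1] 0 t) * ((∑ t ∈ Finset.range 2, wt (fE q) [2] 0 t) * 1)) =
    ((1 + q ^ 4) * (1 + q + q ^ 2)) * ((1 + q) * (1 + q ^ 3)) * (1 + q ^ 2) := by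
  simp only [Finset.sum_range_succ, wt, List.range_succ, fE, _root_.Cfsg.Agent.H169.RealTE6.wt, _root_.Cfsg.Agent.H35.ExcIdx.fE, _root_.Fin.isValue, _root_.List.getD_eq_getElem?_getD, _root_.Order.lt_two_iff, _root_.Finset.sum_range_succ, _root_.Finset.range_one, _root_.Finset.sum_singleton, _root_.List.range_zero, _root_.List.map_nil, _root_.List.prod_nil, _root_.List.range_succ, _root_.List.nil_append, _root_.List.map_cons, _root_.List.length_cons, _root_.List.length_nil, _root_.zero_add, _root_.Nat.reduceAdd, _root_.Nat.ofNat_pos, _root_.getElem?_pos, _root_.List.getElem_cons_zero, _root_.Option.getD_some, _root_.Fin.coe_ofNat_eq_mod, _root_.Nat.zero_mod, _root_.zero_le, ↓ _root_.reduceIte, _root_.List.prod_cons, _root_.mul_one, _root_.List.cons_append, _root_.Nat.one_lt_ofNat, _root_.List.getElem_cons_succ, _root_.Nat.one_mod, _root_.Std.le_refl, _root_.Nat.reduceLT, _root_.Nat.reduceMod, _root_.Nat.not_ofNat_le_one,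 _root_.Nat.lt_add_one, _root_.Order.lt_one_iff]
  ring

/-- the index of the parabolic subgroup with Levi factor of type `²D₄` -/
def IX (q : ℕ) : ℕ := (q ^ 5 + 1) * (q ^ 9 + 1) * (1 + q ^ 2 + q ^ 4 + q ^ 6 + q ^ 8 + q ^ 10)

variable {r f : ℕ} (hr : r.Prime) (hf : f ≠ 0) (hq : q = r ^ f) [CharP K r]
  (hφ : ∀ x, φ x = x ^ q) (hqq : ∀ t : K, (t ^ q) ^ q = t) (hK : Fintype.card K = q ^ 2)

theorem idx_cancel {q i : ℕ} (hq : 2 ≤ q) (h : i * (((1 + q ^ 4) * (1 + q + q ^ 2)) * ((1 + q) * (1 + q ^ 3)) * (1 + q ^ 2)) *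
    ((q - 1) ^ 4 * (q + 1) ^ 2) = PT q) : i = IX q := by
  obtain ⟨x, rfl⟩ := Nat.exists_eq_add_of_le hq
  have e1 : 2 + x - 1 = x + 1 := by omega
  have e2 : (2 + x) ^ 2 - 1 = (x + 1) * (x + 3) := by
    apply Nat.sub_eq_of_eq_add; ring
  have e6 : (2 + x) ^ 6 - 1 = (x + 1) * (x + 3) * (1 + (2 + x) ^ 2 + (2 + x) ^ 4) := by
    apply Nat.sub_eq_of_eq_add; ring
  have e8 : (2 + x) ^ 8 - 1 = (x + 1) * (x + 3) * (1 + (2 + x) ^ 2) * (1 + (2 + x) ^ 4) := by
    apply Nat.sub_eq_of_eq_add; ring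
  have e12 : (2 + x) ^ 12 - 1 = (x + 1) * (x + 3) *
      (1 + (2 + x) ^ 2 + (2 + x) ^ 4 + (2 + x) ^ 6 + (2 + x) ^ 8 + (2 + x) ^ 10) := by
    apply Nat.sub_eq_of_eq_add; ring
  have hpos : 0 < (x + 1) * (x + 3) * ((x + 1) * (x + 3)) * ((x + 1) * (x + 3)) * ((x + 1) * (x + 3)) *
      (1 + (2 + x) ^ 2 + (2 + x) ^ 4) * (1 + (2 + x) ^ 2) * (1 + (2 + x) ^ 4) := by (clear * -; positivity)
  refine Nat.eq_of_mul_eq_mul_right hpos ?_
  unfold PT at h
  rw [e1, e2, e6, e8, e12] at h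
  unfold IX
  linear_combination (norm := ring) h

include hr hf hq hqq hK in
/-- the parabolic subgroup: index, and all orbitals are self-paired -/
theorem exists_parabolic (hφ : ∀ x, φ x = x ^ q) : ∃ P : Subgroup ↥(twistedE6 K q), P.index = IX q ∧
    ∀ x : ↥(twistedE6 K q), ∃ a ∈ P, ∃ b ∈ P, x⁻¹ = a * x * b := by
  have : Fact r.Prime := ⟨hr⟩
  have h2 : 2 ≤ q := by rw [hq]; exact two_le hr hf
  have hpp : IsPrimePow q := by rw [hq]; exact hr.isPrimePow.pow hf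
  have hfin : Finite CoxeterMatrix.F₄.Group := Nodes.RGDFold.finite_W (hp := Nodes.RGDTwE6.hp)
    CoxeterMatrix.F₄.toCoxeterSystem Nodes.RGDTwE6.isCartan Nodes.RGDTwE6.foldData
  have R := Nodes.RGDTwE6.rgd CoxeterMatrix.F₄.toCoxeterSystem hφ hqq r
  have hG1 : Nodes.RGDLib.G1 CoxeterMatrix.F₄.toCoxeterSystem Nodes.RGDTwE6.isCartan (Nodes.RGDTwE6.X φ q) = ⊤ :=
    Nodes.RGDTwE6.G1_eq_top _ hφ hqq
  have hGG : GG CoxeterMatrix.F₄.toCoxeterSystem Nodes.RGDTwE6.isCartan (Nodes.RGDTwE6.T K q)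
      (Nodes.RGDTwE6.X φ q) = ⊤ := by
    rw [eq_top_iff, ← hG1]
    exact le_sup_right
  have hc := card_X_tw (φ := φ) hφ hqq (by omega) hK
  have hP : ¬ r ∣ PT q := by
    intro h3
    have h4 : r ∣ pr q [2, 6, 8, 10, 12, 18] := by
      rw [← PT_mul (by omega)]; exact Dvd.dvd.mul_right h3 _
    rw [hq] at h4
    exact not_dvd_pr hr hf _ (by simp only [_root_.List.mem_cons, _root_.List.not_mem_nil, _root_.or_false, _root_.forall_eq_or_imp, _root_.Order.lt_two_iff, _root_.zero_le, _root_.Nat.ofNat_pos, _root_.forall_eq, _root_.and_self]) h4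
  have hT : Nat.gcd 3 (q + 1) * Nat.card ↥(Nodes.RGDTwE6.T K q) = (q - 1) ^ 4 * (q + 1) ^ 2 := by
    rw [← Cfsg.Agent.S1102.result hpp hK]
    congr 1
    exact Nat.card_congr (Subgroup.subgroupOfEquivOfLe inf_le_right).toEquiv
  have hd : ¬ r ∣ Nat.gcd 3 (q + 1) := by
    intro h3
    have h4 : r ∣ q + 1 := h3.trans (Nat.gcd_dvd_right _ _)
    have h5 : r ∣ q := by rw [hq]; exact dvd_pow_self r hf
    exact hr.one_lt.ne' (Nat.dvd_one.1 ((Nat.dvd_add_right h5).1 h4))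
  have hS : Nat.gcd 3 (q + 1) * Nat.card ↥(twistedE6 K q) = r ^ (f * 36) * PT q := by
    rw [Cfsg.Agent.S1066.result hpp hK, pow_mul, ← hq]
    unfold PT
    ring
  have hJ : ({j | j ≠ 3} : Set (Fin 4)) = {j | j ∈ ([0, 1, 2] : List (Fin 4))} := by
    ext j; revert j; decide
  refine ⟨PJ CoxeterMatrix.F₄.toCoxeterSystem Nodes.RGDTwE6.isCartan (Nodes.RGDTwE6.T K q)
      (Nodes.RGDTwE6.X φ q) {j | j ≠ 3}, idx_cancel h2 ?_, fun x => selfpaired R hGG (weyl_F4 _) x⟩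
  rw [hJ, ← poly]
  exact index_eq R hGG (card_PJ_chain R hc chain0 (J' := [1, 2]) (by decide) (card_PJ_chain R hc chain1 (J' := [2])
    (by decide) (card_PJ_chain R hc chain2 (J' := []) (by decide) (card_nil R)))) hd hT hS hP

end Idx

/-! ### The row -/

section Row

open Cfsg.Lie Cfsg.Agent.H35.ExcIdx Cfsg.Agent.H702.RealB0 Cfsg.Agent.H702.RealTable
open Cfsg.Agent.BpExc Cfsg.Agent.BpExc.LangFr Cfsg.Agent.H696.GmnUntw
open Cfsg.Agent.ChevalleyStructure.TwE6Basic (exists_frob)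

theorem pow_of_dvd {p q k : ℕ} (hq : 1 ≤ q) (h : p ∣ q ^ k - 1) : (q : ZMod p) ^ k = 1 := by
  have h1 : 1 ≤ q ^ k := Nat.one_le_pow _ _ hq
  have h2 := (ZMod.natCast_eq_zero_iff _ _).2 h
  rw [Nat.cast_sub h1, Nat.cast_pow, Nat.cast_one, sub_eq_zero] at h2
  exact h2

theorem pow_of_dvd' {p q k : ℕ} (h : p ∣ q ^ k + 1) : (q : ZMod p) ^ k = -1 := by
  have h2 := (ZMod.natCast_eq_zero_iff _ _).2 h
  rw [Nat.cast_add, Nat.cast_pow, Nat.cast_one] at h2
  exact eq_neg_of_add_eq_zero_left h2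

/-- the odd case: `p` divides the index -/
theorem dvd_IX {p q : ℕ} [hp : Fact p.Prime] (hq : 1 ≤ q) (ho : Odd (orderOf (-(q : ZMod p)))) (h : p ∣ PT q) :
    p ∣ IX q := by
  set u : ZMod p := -(q : ZMod p) with hu
  have hco : ∀ a m : ℕ, u ^ (2 ^ a * m) = 1 → u ^ m = 1 := fun a m h1 => by
    have h2 := orderOf_dvd_of_pow_eq_one h1
    have h3 : Nat.Coprime (orderOf u) (2 ^ a) := (Nat.coprime_two_right.2 ho).pow_right a
    exact orderOf_dvd_iff_pow_eq_one.1 (h3.dvd_of_dvd_mul_left h2)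
  have h59 : u ^ 5 = 1 ∨ u ^ 9 = 1 := by
    have h1 : u = 1 → u ^ 5 = 1 ∨ u ^ 9 = 1 := fun h => Or.inl (by rw [h, one_pow])
    have h3 : u ^ 3 = 1 → u ^ 5 = 1 ∨ u ^ 9 = 1 := fun h => Or.inr (by
      rw [show 9 = 3 * 3 by norm_num, pow_mul, h, one_pow])
    unfold PT at h
    rcases hp.out.dvd_mul.1 h with h | h
    rcases hp.out.dvd_mul.1 h with h | h
    rcases hp.out.dvd_mul.1 h with h | h
    rcases hp.out.dvd_mul.1 h with h | h
    rcases hp.out.dvd_mul.1 h with h | h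
    · refine h1 ?_
      have := hco 1 1 (by
        rw [hu, show 2 ^ 1 * 1 = 2 by norm_num, neg_sq]
        exact pow_of_dvd hq h)
      rwa [pow_one] at this
    · left
      rw [hu, Odd.neg_pow (by decide), pow_of_dvd' h, neg_neg]
    · refine h3 (hco 1 3 ?_)
      rw [hu, show 2 ^ 1 * 3 = 6 by norm_num, Even.neg_pow (by decide)]
      exact pow_of_dvd hq h
    · refine h1 ?_
      have := hco 3 1 (by
        rw [hu, show 2 ^ 3 * 1 = 8 by norm_num, Even.neg_pow (by decide)]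
        exact pow_of_dvd hq h)
      rwa [pow_one] at this
    · right
      rw [hu, Odd.neg_pow (by decide), pow_of_dvd' h, neg_neg]
    · refine h3 (hco 2 3 ?_)
      rw [hu, show 2 ^ 2 * 3 = 12 by norm_num, Even.neg_pow (by decide)]
      exact pow_of_dvd hq h
  unfold IX
  rcases h59 with h | h
  · refine Dvd.dvd.mul_right (Dvd.dvd.mul_right ?_ _) _
    rw [← ZMod.natCast_eq_zero_iff]
    rw [hu, Odd.neg_pow (by decide), neg_eq_iff_eq_neg] at h
    push_cast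
    rw [h]; ring
  · refine Dvd.dvd.mul_right (Dvd.dvd.mul_left ?_ _) _
    rw [← ZMod.natCast_eq_zero_iff]
    rw [hu, Odd.neg_pow (by decide), neg_eq_iff_eq_neg] at h
    push_cast
    rw [h]; ring

/-- `²E₆(q)`, `p` not dividing `q` -/
theorem hasReal_te6 {K : Type} [Field K] [Fintype K] {q r n p : ℕ} [Fact r.Prime] [CharP K r] [Fact p.Prime]
    (hpr : p ≠ r) (hn0 : 0 < n) (hn : q = r ^ n) (hK : Fintype.card K = q ^ 2)
    (hd : p ∣ Nat.card ↥(twistedE6 K q)) : HasReal p ↥(twistedE6 K q) := by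
  have hpp : p.Prime := Fact.out
  have hrp : r.Prime := Fact.out
  have hq : IsPrimePow q := (isPrimePow_nat_iff _).2 ⟨r, n, hrp, hn0, hn.symm⟩
  have hq1 : 1 ≤ q := hq.one_lt.le
  have hpq : ¬ p ∣ q := by
    intro h
    rw [hn] at h
    exact hpr ((Nat.prime_dvd_prime_iff_eq hpp hrp).1 (hpp.dvd_of_dvd_pow h))
  rcases Nat.even_or_odd (orderOf (-(q : ZMod p))) with he | ho
  · -- real elements
    obtain ⟨z, hz⟩ := exists_prime_orderOf_dvd_card' p hd
    have hz1 : z ^ p = 1 := by rw [← hz]; exact pow_orderOf_eq_one z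
    refine H139.RealB0.Crit.of_real_element z (by rw [hz]) ?_
    obtain ⟨j, hj⟩ := he
    have hu0 : (-(q : ZMod p)) ≠ 0 := by
      rw [Ne, neg_eq_zero, ZMod.natCast_eq_zero_iff]
      exact hpq
    have hpos : 0 < orderOf (-(q : ZMod p)) := by
      rw [orderOf_pos_iff, isOfFinOrder_iff_pow_eq_one]
      have hp1 : 0 < p - 1 := by have := hpp.two_le; omega
      exact ⟨p - 1, hp1, ZMod.pow_card_sub_one_eq_one hu0⟩
    have hu : (-(q : ZMod p)) ^ j = -1 := by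
      have h1 : ((-(q : ZMod p)) ^ j) ^ 2 = 1 := by
        rw [← pow_mul, show j * 2 = j + j by ring, ← hj, pow_orderOf_eq_one]
      rcases sq_eq_one_iff.1 h1 with h2 | h2
      · exfalso
        have h3 := orderOf_le_of_pow_eq_one (by omega) h2
        omega
      · exact h2
    obtain ⟨y, hy⟩ := isConj_iff.1 (H696.GmnTwE6.isConj_tw hpr hn0 hn hK hz1)
    have h1 := conj_iter (x := z) (y := y⁻¹) (by rw [inv_inv]; exact hy) j
    have hodd : Odd (Nat.gcd 3 (q + 1)) := by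
      have h1 : Nat.gcd 3 (q + 1) ∣ 3 := Nat.gcd_dvd_left _ _
      rcases (Nat.dvd_prime Nat.prime_three).1 h1 with h2 | h2 <;> rw [h2] <;> decide
    have h2 : z ^ (((-(q : ℤ)) ^ Nat.gcd 3 (q + 1)) ^ j) = z⁻¹ := by
      rw [← zpow_neg_one, zpow_eq_zpow_iff_modEq, hz, ← ZMod.intCast_eq_intCast_iff]
      push_cast
      rw [← pow_mul, mul_comm, pow_mul, hu, hodd.neg_one_pow]
    rw [h2] at h1
    rw [isConj_iff]
    exact ⟨((y⁻¹) ^ j)⁻¹, by rw [inv_inv]; exact h1⟩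
  · -- the parabolic subgroup
    obtain ⟨φ, hφ, hqq⟩ := exists_frob hq hK
    obtain ⟨P, hP, hself⟩ := exists_parabolic (f := n) hrp hn0.ne' hn hqq hK hφ
    refine H139.RealB0.Crit.of_selfpaired P ?_ hself
    rw [hP]
    refine dvd_IX hq1 ho ?_
    have hS : Nat.gcd 3 (q + 1) * Nat.card ↥(twistedE6 K q) = r ^ (n * 36) * PT q := by
      rw [Cfsg.Agent.S1066.result hq hK, pow_mul, ← hn]
      unfold PT
      ring
    have h1 : p ∣ r ^ (n * 36) * PT q := by rw [← hS]; exact Dvd.dvd.mul_left hd _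
    rcases hpp.dvd_mul.1 h1 with h2 | h2
    · exact absurd ((Nat.prime_dvd_prime_iff_eq hpp hrp).1 (hpp.dvd_of_dvd_pow h2)) hpr
    · exact h2

/-- **The row `te6`.** -/
theorem te6 {p : ℕ} [Fact p.Prime] (hp2 : p ≠ 2) : RowFor p (fun X _ => ∃ (K : Type) (_ : Field K) (_ : Fintype K)
    (q : ℕ), (p : K) ≠ 0 ∧ IsPrimePow q ∧ Fintype.card K = q ^ 2 ∧ Nonempty (X ≃* Lie.twistedE6 K q)) := by
  intro X _ _ _ _ hd ⟨K, iF, iN, q, hF, hq, hK, ⟨e⟩⟩
  obtain ⟨r, hr⟩ := CharP.exists K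
  have hrp : r.Prime := CharP.char_is_prime K r
  have : Fact r.Prime := ⟨hrp⟩
  obtain ⟨m, -, hm⟩ := FiniteField.card K r
  obtain ⟨r', n, hr', hn0, hn⟩ := (isPrimePow_nat_iff _).1 hq
  have hrr : r' = r := by
    have h1 : r' ∣ r ^ (m : ℕ) := by
      rw [← hm, hK, ← hn]
      exact dvd_pow (dvd_pow_self _ hn0.ne') (by norm_num)
    exact (Nat.prime_dvd_prime_iff_eq hr' hrp).1 (hr'.dvd_of_dvd_pow h1)
  subst hrr
  have hpr : p ≠ r' := by
    rintro rfl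
    exact hF (CharP.cast_eq_zero K p)
  refine HasReal.congr e.symm (hasReal_te6 hpr hn0 hn.symm hK ?_)
  rwa [← Nat.card_congr e.toEquiv]

end Row

end Cfsg.Agent.H169.RealTE6

private theorem dce_e45c758bd3ae : _root_.True := by
  try have : _root_.True := by simp only [_root_.Cfsg.Agent.H169.RealTE6.wt.eq_1]
  exact _root_.True.intro
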