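import Mathlib
import Cfsg.Agent.S2580
set_option linter.all false

/-!
# `q^n ≤ k(Sp_{2n}(q))`
-/

set_option autoImplicit false

namespace Cfsg.Agent.H169.SpLower

open Matrix Polynomial Module

universe u
variable {F : Type u} [Field F]

/-- a matrix with given characteristic polynomial and a symmetric intertwiner with its transpose -/
theorem exists_pair {n : ℕ} (h : F[X]) (hm : h.Monic) (hd : h.natDegree = n) :
    ∃ C S T : Matrix (Fin n) (Fin n) F, C.charpoly = h ∧ Sᵀ = S ∧ Tᵀ = T ∧ S * T = 1 ∧ T * S = 1 ∧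
      C * S = S * Cᵀ := by
  classical
  subst hd
  obtain ⟨B, hB1, hB2⟩ := Cfsg.Agent.S2580.exists_form_adjoinRoot hm
  have hsymm : ∀ x y, B x y = B y x := by
    intro x y
    have h1 : B x y = B 1 (x * y) := by rw [← hB2, mul_one]
    have h2 : B y x = B 1 (y * x) := by rw [← hB2, mul_one]
    rw [h1, h2, mul_comm]
  let pb := AdjoinRoot.powerBasis' hm
  have hdim : pb.dim = h.natDegree := rfl
  let b : Basis (Fin h.natDegree) F (AdjoinRoot h) := pb.basis
  let C : Matrix (Fin h.natDegree) (Fin h.natDegree) F := Algebra.leftMulMatrix b pb.gen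
  let G : Matrix (Fin h.natDegree) (Fin h.natDegree) F := LinearMap.toMatrix₂ b b B
  have hC : C.charpoly = h := by
    have h1 : C.charpoly = minpoly F pb.gen := charpoly_leftMulMatrix pb
    have h2 : minpoly F pb.gen = h := by
      change minpoly F (AdjoinRoot.root h) = h
      rw [AdjoinRoot.minpoly_root hm.ne_zero, hm.leadingCoeff, inv_one, C_1, mul_one]
    rw [h1, h2]
  have hG : Gᵀ = G := by
    ext i j
    simp only [G, transpose_apply, LinearMap.toMatrix₂_apply]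
    exact hsymm _ _
  have hCG : Cᵀ * G = G * C := by
    have h1 : B.compl₁₂ (Algebra.lmul F _ pb.gen) LinearMap.id = B.compl₁₂ LinearMap.id (Algebra.lmul F _ pb.gen) := by
      refine LinearMap.ext fun x => LinearMap.ext fun y => ?_
      exact hB2 x y pb.gen
    have h2 := congrArg (LinearMap.toMatrix₂ b b) h1
    rw [LinearMap.toMatrix₂_compl₁₂ b b, LinearMap.toMatrix₂_compl₁₂ b b, LinearMap.toMatrix_id,
      Matrix.mul_one, Matrix.transpose_one, Matrix.one_mul] at h2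
    exact h2
  have hdet : G.det ≠ 0 := by
    rw [← Matrix.nondegenerate_iff_det_ne_zero, Matrix.nondegenerate_iff_separatingLeft]
    exact (LinearMap.separatingLeft_toMatrix₂_iff b b).2 hB1
  have hu : IsUnit G.det := isUnit_iff_ne_zero.2 hdet
  refine ⟨C, G⁻¹, G, hC, ?_, hG, Matrix.nonsing_inv_mul G hu, Matrix.mul_nonsing_inv G hu, ?_⟩
  · rw [Matrix.transpose_nonsing_inv, hG]
  · calc C * G⁻¹ = G⁻¹ * (G * C) * G⁻¹ := by
          rw [← Matrix.mul_assoc, Matrix.nonsing_inv_mul G hu, Matrix.one_mul]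
      _ = G⁻¹ * Cᵀ := by
          rw [← hCG, ← Matrix.mul_assoc, Matrix.mul_assoc (G⁻¹ * Cᵀ), Matrix.mul_nonsing_inv G hu, Matrix.mul_one]

/-- the symplectic matrix attached to a symmetric intertwiner -/
theorem mem_sp {n : ℕ} {C S T : Matrix (Fin n) (Fin n) F} (hS : Sᵀ = S) (hT : Tᵀ = T) (hST : S * T = 1)
    (hCS : C * S = S * Cᵀ) : fromBlocks C (-S) T 0 ∈ symplecticGroup (Fin n) F := by
  rw [SymplecticGroup.mem_iff, J, fromBlocks_transpose, fromBlocks_multiply, fromBlocks_multiply]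
  have hTS : T * S = 1 := mul_eq_one_comm.1 hST
  simp only [Matrix.mul_zero, Matrix.mul_one, Matrix.zero_mul, Matrix.mul_neg, Matrix.neg_mul, neg_zero,
    zero_add, add_zero, transpose_neg, transpose_zero, hS, hT, neg_neg, hST, hTS]
  congr 1
  rw [hCS]; abel

theorem sp_inv {n : ℕ} {C S T : Matrix (Fin n) (Fin n) F} (hS : Sᵀ = S) (hT : Tᵀ = T) (hST : S * T = 1)
    (hCS : C * S = S * Cᵀ) :
    (((⟨fromBlocks C (-S) T 0, mem_sp hS hT hST hCS⟩ : symplecticGroup (Fin n) F)⁻¹ :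
      symplecticGroup (Fin n) F) : Matrix (Fin n ⊕ Fin n) (Fin n ⊕ Fin n) F) = fromBlocks 0 S (-T) Cᵀ := by
  have hTS : T * S = 1 := mul_eq_one_comm.1 hST
  rw [SymplecticGroup.coe_inv', Matrix.inv_eq_right_inv]
  rw [fromBlocks_multiply, ← fromBlocks_one]
  congr 1
  · simp [hST]
  · rw [hCS]; simp
  · simp
  · simp [hTS]

/-- the class function `g ↦ charpoly (g + g⁻¹)` -/
theorem charpoly_of_isConj {n : ℕ} {g h : symplecticGroup (Fin n) F} (hc : IsConj g h) :
    ((g : Matrix (Fin n ⊕ Fin n) (Fin n ⊕ Fin n) F) +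
      ((g⁻¹ : symplecticGroup (Fin n) F) : Matrix (Fin n ⊕ Fin n) (Fin n ⊕ Fin n) F)).charpoly
    = ((h : Matrix (Fin n ⊕ Fin n) (Fin n ⊕ Fin n) F) +
      ((h⁻¹ : symplecticGroup (Fin n) F) : Matrix (Fin n ⊕ Fin n) (Fin n ⊕ Fin n) F)).charpoly := by
  obtain ⟨c, rfl⟩ := isConj_iff.1 hc
  have h1 : (((c * g * c⁻¹ : symplecticGroup (Fin n) F)) : Matrix (Fin n ⊕ Fin n) (Fin n ⊕ Fin n) F) +
      (((c * g * c⁻¹)⁻¹ : symplecticGroup (Fin n) F) : Matrix (Fin n ⊕ Fin n) (Fin n ⊕ Fin n) F)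
      = (c : Matrix (Fin n ⊕ Fin n) (Fin n ⊕ Fin n) F) * ((g : Matrix (Fin n ⊕ Fin n) (Fin n ⊕ Fin n) F) +
      ((g⁻¹ : symplecticGroup (Fin n) F) : Matrix (Fin n ⊕ Fin n) (Fin n ⊕ Fin n) F)) *
      ((c⁻¹ : symplecticGroup (Fin n) F) : Matrix (Fin n ⊕ Fin n) (Fin n ⊕ Fin n) F) := by
    rw [_root_.mul_inv_rev, _root_.mul_inv_rev, inv_inv]
    simp only [Submonoid.coe_mul, Matrix.mul_add, Matrix.add_mul, Matrix.mul_assoc]
  have h2 : ((c⁻¹ : symplecticGroup (Fin n) F) : Matrix (Fin n ⊕ Fin n) (Fin n ⊕ Fin n) F) *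
      (c : Matrix (Fin n ⊕ Fin n) (Fin n ⊕ Fin n) F) = 1 := by
    rw [← Submonoid.coe_mul, inv_mul_cancel]; rfl
  have h3 : (c : Matrix (Fin n ⊕ Fin n) (Fin n ⊕ Fin n) F) *
      ((c⁻¹ : symplecticGroup (Fin n) F) : Matrix (Fin n ⊕ Fin n) (Fin n ⊕ Fin n) F) = 1 := by
    rw [← Submonoid.coe_mul, mul_inv_cancel]; rfl
  rw [h1, Matrix.charpoly_mul_comm, ← Matrix.mul_assoc, h2, Matrix.one_mul]

/-- monic polynomials of degree `n` -/
theorem card_monic [Fintype F] (n : ℕ) :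
    Nat.card {p : F[X] // p.Monic ∧ p.natDegree = n} = Fintype.card F ^ n := by
  rw [Nat.card_congr (monicEquivDegreeLT (R := F) n), Nat.card_congr (degreeLTEquiv F n).toEquiv,
    Nat.card_eq_fintype_card, Fintype.card_fun, Fintype.card_fin]

/-- **The number of classes of `Sp_{2n}(q)` is at least `q^n`.** -/
theorem card_pow_le [Fintype F] (n : ℕ) :
    Fintype.card F ^ n ≤ Nat.card (ConjClasses (symplecticGroup (Fin n) F)) := by
  classical
  choose C S T hC hS hT hST hTS hCS using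
    fun p : {p : F[X] // p.Monic ∧ p.natDegree = n} => exists_pair p.1 p.2.1 p.2.2
  rw [← card_monic (F := F) n]
  have hfin : Finite (ConjClasses (symplecticGroup (Fin n) F)) := by
    have : Finite (symplecticGroup (Fin n) F) := inferInstance
    exact Finite.of_surjective _ ConjClasses.mk_surjective
  refine Nat.card_le_card_of_injective (fun p => ConjClasses.mk
    (⟨fromBlocks (C p) (-S p) (T p) 0, mem_sp (hS p) (hT p) (hST p) (hCS p)⟩ : symplecticGroup (Fin n) F)) ?_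
  intro p p' hpp
  have h1 := charpoly_of_isConj (ConjClasses.mk_eq_mk_iff_isConj.1 hpp)
  rw [sp_inv (hS p) (hT p) (hST p) (hCS p), sp_inv (hS p') (hT p') (hST p') (hCS p')] at h1
  simp only [fromBlocks_add, add_zero, neg_add_cancel, zero_add, add_neg_cancel] at h1
  rw [charpoly_fromBlocks_zero₁₂, charpoly_fromBlocks_zero₁₂, charpoly_transpose, charpoly_transpose, hC, hC] at h1
  have h2 : p.1 * p.1 = p'.1 * p'.1 := h1
  have h3 : (p.1 - p'.1) * (p.1 + p'.1) = 0 := by ring_nf; linear_combination h2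
  apply Subtype.ext
  rcases mul_eq_zero.1 h3 with h4 | h4
  · exact sub_eq_zero.1 h4
  · have h5 : p.1 = - p'.1 := eq_neg_of_add_eq_zero_left h4
    have h6 := congrArg leadingCoeff h5
    rw [leadingCoeff_neg, p.2.1.leadingCoeff, p'.2.1.leadingCoeff] at h6
    rw [h5, show -p'.1 = Polynomial.C (-1 : F) * p'.1 by simp, ← h6, C_1, one_mul]

end Cfsg.Agent.H169.SpLower
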